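import Cfsg.Agent.H1.U6Def

/-!
Automorphisms of `PSU₆(2)` preserving the transvections.
-/

set_option autoImplicit false
set_option synthInstance.maxSize 100000

namespace Cfsg.Agent.H6.U6

open Cfsg.Agent.H1 Cfsg.Agent.H1.U6 Equiv

/-- Transvections. -/
noncomputable def T (p : V6) : G := if h : UF.H p p = 0 then tv p h else 1

theorem T_eq {p : V6} (h : UF.H p p = 0) : T p = tv p h := dif_pos h

theorem act_T {p : V6} (h : UF.H p p = 0) (v : V6) : suAct (T p) v = v + UF.H v p • p := by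
  rw [T_eq h, act_tv]

theorem T_conj (g : G) {p : V6} (h : UF.H p p = 0) : g * T p * g⁻¹ = T (suAct g p) := by
  rw [T_eq h, tv_conj, T_eq]

theorem T_smul {c : F4} (hc : c ≠ 0) {p : V6} (h : UF.H p p = 0) : T (c • p) = T p := by
  rw [T_eq h, T_eq (by rw [UField.H_smul_left, UField.H_smul_right, h, mul_zero, mul_zero]),
    tv_smul hc]

theorem T_sq {p : V6} (h : UF.H p p = 0) : T p * T p = 1 := g_ext fun v => by
  rw [suAct_mul, act_T h, act_T h, UField.H_add_left, UField.H_smul_left, h, mul_zero, add_zero,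
    add_assoc, two6, add_zero, suAct_one]

theorem H_dv (j : ZMod 3) (u v : V6) : UF.H (dv j * u) (dv j * v) = UF.H u v := by
  have : ∀ j k, dv j k * UF.σ (dv j k) = 1 := by decide
  simp only [UField.H_def, Pi.mul_apply, map_mul]
  exact Finset.sum_congr rfl fun k _ => by linear_combination (u k * UF.σ (v k)) * this j k

theorem dl_T (j : ZMod 3) {p : V6} (h : UF.H p p = 0) : dl j (T p) = T (dv j * p) := g_ext fun v => by
  rw [act_dl', act_T h, act_T (by rw [H_dv, h]), mul_add, ← mul_assoc, ← dv_add, add_neg_cancel,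
    dv_zero, one_mul, mul_smul_comm, ← H_dv j, ← mul_assoc, ← dv_add, add_neg_cancel, dv_zero,
    one_mul]

theorem tw_T (b : Bool) {p : V6} (h : UF.H p p = 0) : tw b (T p) = T (tau b ∘ p) := g_ext fun v => by
  rw [act_tw', act_T h, act_T (by rw [H_tau, h, map_zero])]
  conv_rhs => rw [← tau_comp b v, H_tau]
  funext i
  simp only [Function.comp_apply, Pi.add_apply, Pi.smul_apply, smul_eq_mul, map_add, map_mul]

theorem comm_iff {a b : V6} (ha : UF.H a a = 0) (hb : UF.H b b = 0) :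
    T a * T b * (T a)⁻¹ * (T b)⁻¹ ∈ ZG ↔ UF.H a b = 0 := by
  rw [T_conj _ hb, act_T ha]
  refine ⟨fun h => ?_, fun h => by
    rw [UF.H_eq_zero_comm h, zero_smul, add_zero, mul_inv_cancel]; exact one_mem _⟩
  have h1 : UF.H (b + UF.H b a • a) (b + UF.H b a • a) = 0 := by
    rw [← act_T ha, UField.H_act, hb]
  have h2 : T (b + UF.H b a • a) * (T b)⁻¹ = 1 := by
    generalize hz : T (b + UF.H b a • a) * (T b)⁻¹ = z at h
    have h3 := T_sq h1
    have h4 : T b * z = z * T b := Subgroup.mem_center_iff.1 h _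
    have h5 : T (b + UF.H b a • a) = z * T b := by rw [← hz, inv_mul_cancel_right]
    rw [h5, mul_assoc, ← mul_assoc (T b), h4, mul_assoc, T_sq hb, mul_one] at h3
    rw [← center_cube h, pow_three, h3, mul_one]
  have h3 : suAct (T (b + UF.H b a • a)) a = suAct (T b) a := by
    rw [← inv_mul_cancel_right (T (b + UF.H b a • a)) (T b), h2, one_mul]
  simp only [act_T h1, act_T hb, UField.H_add_right, UField.H_smul_right, ha, mul_zero, add_zero,
    add_right_inj] at h3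
  by_contra hne
  rw [smul_right_injective _ hne |>.eq_iff, add_eq_left, smul_eq_zero] at h3
  rcases h3 with e | rfl
  · exact hne (UF.H_eq_zero_comm e)
  · exact hne (by simp)

/-- The known automorphisms. -/
def au (g : G) (j : ZMod 3) (ε : Bool) : G →* G :=
  (MulAut.conj g).toMonoidHom.comp ((dl j).comp (tw ε))

theorem au_apply (g : G) (j : ZMod 3) (ε : Bool) (x : G) :
    au g j ε x = g * dl j (tw ε x) * g⁻¹ := rfl

theorem au_T (g : G) (j : ZMod 3) (ε : Bool) {p : V6} (h : UF.H p p = 0) :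
    au g j ε (T p) = T (suAct g (dv j * (tau ε ∘ p))) := by
  have h1 : UF.H (tau ε ∘ p) (tau ε ∘ p) = 0 := by rw [H_tau, h, map_zero]
  rw [au_apply, tw_T ε h, dl_T j h1, T_conj _ (by rw [H_dv, h1])]

theorem au_inj (g : G) (j : ZMod 3) (ε : Bool) : Function.Injective (au g j ε) :=
  fun x y e => by
    rw [au_apply, au_apply, mul_left_inj, mul_right_inj] at e
    exact tw_injective ε (dl_injective j e)

/-- The roots. -/
def qs : Fin 5 → V6 := ![![1, 1, 0, 0, 0, 0], ![0, 1, 1, 0, 0, 0], ![0, 0, 1, 1, 0, 0],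
  ![0, 0, 0, 1, 1, 0], ![0, 0, 0, 0, 1, 1]]

/-- A twisted root. -/
def t5 : V6 := ![1, om, 0, 0, 0, 0]

theorem qs_iso : ∀ i, UF.H (qs i) (qs i) = 0 := by simp only [UField.H_def]; decide

theorem t5_iso : UF.H t5 t5 = 0 := by simp only [UField.H_def]; decide

theorem pm_swap (i : Fin 5) : pm (swap i.castSucc i.succ) = T (qs i) := eq_of_five fun k _ => by
  rw [act_pm_e, act_T (qs_iso i), UField.H_def]
  revert i k; decide +kernel

theorem gen_five : gen0 5 = T (qs 0) * T t5 := eq_of_five fun k _ => by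
  rw [gen0, act_dg, suAct_mul, act_T t5_iso, act_T (qs_iso 0), UField.H_def, UField.H_def]
  revert k; decide +kernel

theorem gen_cases (i : ℕ) : (∃ σ, gen i = pm σ) ∨ gen i = T (qs 0) * T t5 ∨ gen i = T r1 ∨
    gen i = T r2 := by
  have hi : i % 8 < 8 := Nat.mod_lt _ (by norm_num)
  rw [gen]
  generalize i % 8 = k at hi
  interval_cases k
  exacts [.inl ⟨sw 0, rfl⟩, .inl ⟨sw 1, rfl⟩, .inl ⟨sw 2, rfl⟩, .inl ⟨sw 3, rfl⟩, .inl ⟨sw 4, rfl⟩,
    .inr (.inl gen_five), .inr (.inr (.inl (T_eq r1_iso).symm)),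
    .inr (.inr (.inr (T_eq r2_iso).symm))]

/-- The orbit of the first root. -/
def Tr (a : V6) : Prop := ∃ g : G, suAct g (qs 0) = a

theorem Tr.act {a : V6} (h : Tr a) (g : G) : Tr (suAct g a) := by
  obtain ⟨k, rfl⟩ := h
  exact ⟨g * k, suAct_mul _ _ _⟩

theorem tr_qs (i : Fin 5) : Tr (qs i) := by
  have : ∀ i, ∃ σ : Perm (Fin 6), qs 0 ∘ ⇑σ⁻¹ = qs i := by
    intro i
    fin_cases i
    exacts [⟨1, by decide⟩, ⟨swap 0 2, by decide⟩, ⟨swap 0 2 * swap 1 3, by decide⟩,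
      ⟨swap 0 3 * swap 1 4, by decide⟩, ⟨swap 0 4 * swap 1 5, by decide⟩]
  obtain ⟨σ, h⟩ := this i
  exact ⟨pm σ, by rw [act_pm, h]⟩

theorem tr_t5 : Tr t5 := ⟨dg ![0, 1, 2, 0, 0, 0] (by decide), by rw [act_dg]; decide⟩

theorem tr_of {a : V6} (h : UF.H a a = 0) (h1 : UF.H (![om, om * om, 0, 0, 0, 0] : V6) a = 1) :
    Tr a := by
  have h2 : Tr ![om, om * om, 0, 0, 0, 0] := ⟨dg a0 (by decide), by rw [act_dg]; decide⟩
  have h3 : UF.H (![om, om * om, 0, 0, 0, 0] : V6) (![om, om * om, 0, 0, 0, 0] : V6) = 0 := by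
    rw [UField.H_def]; decide
  generalize (![om, om * om, 0, 0, 0, 0] : V6) = y at h1 h2 h3
  have h4 := h2.act (T (y + a))
  rwa [act_T (by
    rw [UField.H_add_left, UField.H_add_right, UField.H_add_right, h, h3, ← UF.H_swap y a, h1]
    decide), UField.H_add_right, h3, h1, zero_add, one_smul, ← add_assoc, two6, zero_add] at h4

theorem basis (f : Fin 6 → V6) (hf : ∀ i j, UF.H (f i) (f j) = if i = j then 1 else 0) :
    ∃ (g : G) (j : ZMod 3), ∀ i, suAct g (dv j * e6 i) = f i := by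
  have perp : ∀ (g : G) (k : Fin 6), (∀ i : Fin 6, i.1 < k.1 → suAct g (e6 i) = f i) →
      suAct g⁻¹ (f k) ∈ uPerp F4 (Ik k.1) ∧ UF.H (suAct g⁻¹ (f k)) (suAct g⁻¹ (f k)) = 1 :=
    fun g k h => ⟨fun a ha => by
      rw [← UF.H_ev_right (suAct g⁻¹ (f k)), ← UField.H_act_right, h a ha, hf,
        if_neg (fun e => by rw [e] at ha; exact lt_irrefl a.1 ha)], by
      rw [UField.H_act, hf, if_pos rfl]⟩
  have key : ∀ k ≤ 5, ∃ g : G, ∀ i : Fin 6, i.1 < k → suAct g (e6 i) = f i := by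
    intro k hk
    induction k with
    | zero => exact ⟨1, fun _ h => absurd h (Nat.not_lt_zero _)⟩
    | succ k ih =>
      obtain ⟨g, hg⟩ := ih (by omega)
      obtain ⟨h1, h2⟩ := perp g ⟨k, by omega⟩ hg
      obtain ⟨g', hg', e⟩ := exists_fix ⟨k, by omega⟩ (by simp only; omega) h1 h2
      refine ⟨g * g', fun i hi => ?_⟩
      rcases (Nat.lt_succ_iff.mp hi).eq_or_lt with e' | e'
      · rw [suAct_mul, show i = ⟨k, by omega⟩ from Fin.ext e', e, suAct_act_inv]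
      · rw [suAct_mul, hg' i e', hg i e']
  obtain ⟨g, hg⟩ := key 5 le_rfl
  obtain ⟨h1, h2⟩ := perp g 5 hg
  have ey : suAct g⁻¹ (f 5) = suAct g⁻¹ (f 5) 5 • e6 5 := funext fun l => by
    by_cases hl : l = 5
    · subst hl; simp [H1.ev]
    · rw [h1 l (by simp only [Ik, Set.mem_ofPred_eq]; omega)]; simp [H1.ev, hl]
  have c0 : suAct g⁻¹ (f 5) 5 ≠ 0 := fun e0 => by
    rw [e0, zero_smul] at ey
    rw [ey, map_zero] at h2
    exact zero_ne_one h2
  obtain ⟨a, ha⟩ := (by decide : ∀ c : F4, c ≠ 0 → ∃ a, w3 a = c) _ c0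
  have k : ∀ (a : ZMod 3) (i : Fin 6), (i.1 < 5 ∧ dv a * e6 i = e6 i) ∨
      (i = 5 ∧ dv a * e6 i = w3 a • e6 5) := by decide +kernel
  refine ⟨g, a, fun i => ?_⟩
  rcases k a i with ⟨e1, e2⟩ | ⟨rfl, e2⟩
  · rw [e2, hg i e1]
  · rw [e2, ha, ← ey, suAct_act_inv]

/-- The Gram matrix of the roots. -/
def Gram (q : Fin 5 → V6) : Prop := ∀ i j, UF.H (q i) (q j) = UF.H (qs i) (qs j)

theorem gram_qs : ∀ i j : Fin 5, UF.H (qs i) (qs j) =
    if i.1 + 1 = j.1 ∨ j.1 + 1 = i.1 then 1 else 0 := by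
  simp only [UField.H_def]; decide +kernel

theorem frame {q : Fin 5 → V6} (h : Gram q) (hr : q 0 + q 2 + q 4 ≠ 0) :
    ∃ (g : G) (j : ZMod 3), ∀ i, suAct g (dv j * qs i) = q i := by
  have h' : ∀ i j : Fin 5, UF.H (q i) (q j) = if i.1 + 1 = j.1 ∨ j.1 + 1 = i.1 then 1 else 0 :=
    fun i j => (h i j).trans (gram_qs i j)
  obtain ⟨v, hv⟩ : ∃ v, UF.H v (q 0 + q 2 + q 4) = 1 := by
    obtain ⟨k, hk⟩ := Function.ne_iff.1 hr
    obtain ⟨c, hc⟩ := (by decide : ∀ x : F4, x ≠ 0 → ∃ c, c * UF.σ x = 1) _ hk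
    exact ⟨c • e6 k, by rw [UField.H_smul_left, UField.H_ev_left, hc]⟩
  obtain ⟨f, hf⟩ : ∃ f, ∀ i, UF.H f (q i) = if i = 0 then 1 else 0 := by
    refine ⟨v + (1 + UF.H v (q 0)) • q 1 + UF.H v (q 1) • q 2 + UF.H v (q 4) • q 3 +
      (UF.H v (q 3) + UF.H v (q 1)) • q 4, fun i => ?_⟩
    rw [UField.H_add_right, UField.H_add_right] at hv
    have k := two4
    fin_cases i <;> simp [h']
    · linear_combination k (UF.H v (q 0))
    · exact k _
    · linear_combination hv + k 1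
    · linear_combination k (UF.H v (q 3)) + k (UF.H v (q 1))
    · exact k _
  obtain ⟨f, hf, h1⟩ : ∃ f, (∀ i, UF.H f (q i) = if i = 0 then 1 else 0) ∧ UF.H f f = 1 := by
    rcases (by decide : ∀ x : F4, UF.σ x = x → x = 0 ∨ x = 1) _ (UF.H_self f) with e | e
    · refine ⟨f + om • (q 0 + q 2 + q 4), fun i => ?_, ?_⟩
      · fin_cases i <;> simp [h', hf, two4]
      · simp only [UField.H_add_left, UField.H_add_right, UField.H_smul_left, UField.H_smul_right,
          h', hf, e, ← UF.H_swap f]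
        decide
    · exact ⟨f, hf, e⟩
  have hf' : ∀ i, UF.H (q i) f = if i = 0 then 1 else 0 := fun i => by
    rw [← UF.H_swap, hf]; split_ifs <;> simp
  obtain ⟨g, j, e⟩ := basis ![f, f + q 0, f + q 0 + q 1, f + q 0 + q 1 + q 2,
    f + q 0 + q 1 + q 2 + q 3, f + q 0 + q 1 + q 2 + q 3 + q 4] (fun i j => by
      fin_cases i <;> fin_cases j <;>
        simp only [Fin.zero_eta, Fin.mk_one, Fin.reduceFinMk, Matrix.cons_val, UField.H_add_left,
          UField.H_add_right, h', hf, hf', h1] <;> decide)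
  have k : ∀ i, qs i = e6 i.castSucc + e6 i.succ := by decide +kernel
  have k2 : ∀ x y : V6, x + (x + y) = y := fun x y => by rw [← add_assoc, two6, zero_add]
  refine ⟨g, j, fun i => ?_⟩
  rw [k, mul_add, map_add, e, e]
  fin_cases i <;> exact k2 _ _

theorem rank_two {q : Fin 5 → V6} (h : Gram q) (hr : q 0 + q 2 + q 4 = 0) :
    IsConj (si 2) (T (q 0) * T (q 2) * T (q 4)) := by
  have h' : ∀ i j : Fin 5, UF.H (q i) (q j) = if i.1 + 1 = j.1 ∨ j.1 + 1 = i.1 then 1 else 0 :=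
    fun i j => (h i j).trans (gram_qs i j)
  have h0 : ∀ i, UF.H (q i) (q i) = 0 := fun i => (h i i).trans (qs_iso i)
  have h4 : q 4 = q 0 + q 2 := by rw [← add_zero (q 4), ← hr, add_comm, add_assoc, two6, add_zero]
  have hk : ∀ v, suAct (T (q 0) * T (q 2) * T (q 4)) v =
      v + UF.H v (q 0) • q 2 + UF.H v (q 2) • q 0 := fun v => by
    rw [suAct_mul, suAct_mul, act_T (h0 4), act_T (h0 2), act_T (h0 0)]
    simp only [UField.H_add_left, UField.H_smul_left, h']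
    rw [h4, UField.H_add_right]
    funext i
    simp only [Pi.add_apply, Pi.smul_apply, smul_eq_mul]
    generalize v i = a, q 0 i = b, q 2 i = c, UF.H v (q 0) = d, UF.H v (q 2) = e
    revert a b c d e; decide +kernel
  generalize T (q 0) * T (q 2) * T (q 4) = k at hk
  have h2 : k * tw false k = 1 := g_ext fun v => by
    rw [tw_false, suAct_mul, hk, hk, suAct_one]
    simp only [UField.H_add_left, UField.H_smul_left, h']
    funext i
    simp only [Pi.add_apply, Pi.smul_apply, smul_eq_mul]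
    generalize v i = a, q 0 i = b, q 2 i = c, UF.H v (q 0) = d, UF.H v (q 2) = e
    revert a b c d e; decide +kernel
  have a3 := hk (q 3)
  have a1 := hk (q 1)
  simp only [h'] at a1 a3
  simp only [Fin.isValue, Fin.coe_ofNat_eq_mod, Nat.reduceMod, Nat.reduceAdd, Nat.zero_mod,
    Nat.one_mod, OfNat.ofNat_ne_zero, zero_add, OfNat.one_ne_ofNat, or_self, ↓reduceIte, zero_smul,
    add_zero, Nat.reduceEqDiff, or_true, one_smul, true_or] at a1 a3
  obtain ⟨i, hi, g, e⟩ := inv_class h2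
  rw [tw_false] at e
  interval_cases i
  · rw [e, show sr 0 = 1 from rfl, map_one, mul_one, mul_inv_cancel, suAct_one, left_eq_add] at a3
    have := h' 0 1
    rw [a3] at this
    simp at this
  · have h5 : UF.H (suAct g (qs 0)) (suAct g (qs 0)) = 0 := by rw [UField.H_act, qs_iso]
    rw [show pm (sr 1) = T (qs 0) from pm_swap 0, T_conj _ (qs_iso 0)] at e
    rw [e, act_T h5, add_assoc, add_right_inj] at a1
    rw [e, act_T h5, add_right_inj] at a3
    have b1 := congrArg (UF.H (q 3)) a1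
    have b3 := congrArg (UF.H (q 3)) a3
    simp only [UField.H_add_right, UField.H_smul_right, h'] at b1 b3
    exfalso
    revert b1 b3
    generalize UF.H (q 3) (suAct g (qs 0)) = x, UF.H (q 1) (suAct g (qs 0)) = y
    revert x y; decide
  · exact isConj_iff.2 ⟨g, e.symm⟩
  · exfalso
    have b : ∀ v, suAct (pm (sr 3)) v = v + UF.H (suAct g v) (q 0) • suAct g⁻¹ (q 2) +
        UF.H (suAct g v) (q 2) • suAct g⁻¹ (q 0) := fun v => by
      have := congrArg (suAct g⁻¹) (hk (suAct g v))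
      rwa [e, suAct_mul, suAct_mul, suAct_inv_act, suAct_inv_act, map_add, map_add, map_smul,
        map_smul, suAct_inv_act] at this
    have b0 := b (e6 0)
    have b2 := b (e6 2)
    have b4 := b (e6 4)
    rw [act_pm_e] at b0 b2 b4
    generalize suAct g⁻¹ (q 2) = A, suAct g⁻¹ (q 0) = B at b0 b2 b4
    generalize UF.H (suAct g (e6 0)) (q 0) = x0, UF.H (suAct g (e6 0)) (q 2) = y0 at b0
    generalize UF.H (suAct g (e6 2)) (q 0) = x1, UF.H (suAct g (e6 2)) (q 2) = y1 at b2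
    generalize UF.H (suAct g (e6 4)) (q 0) = x2, UF.H (suAct g (e6 4)) (q 2) = y2 at b4
    have c : ∀ {u w : V6} {x y : F4} (l : Fin 6), u = w + x • A + y • B →
        x * A l + y * B l = u l - w l := fun l e => by
      rw [e]; simp only [Pi.add_apply, Pi.smul_apply, smul_eq_mul]; ring
    have d : (x0 * A 1 + y0 * B 1) * ((x1 * A 3 + y1 * B 3) * (x2 * A 5 + y2 * B 5) -
        (x1 * A 5 + y1 * B 5) * (x2 * A 3 + y2 * B 3)) -
        (x0 * A 3 + y0 * B 3) * ((x1 * A 1 + y1 * B 1) * (x2 * A 5 + y2 * B 5) -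
        (x1 * A 5 + y1 * B 5) * (x2 * A 1 + y2 * B 1)) +
        (x0 * A 5 + y0 * B 5) * ((x1 * A 1 + y1 * B 1) * (x2 * A 3 + y2 * B 3) -
        (x1 * A 3 + y1 * B 3) * (x2 * A 1 + y2 * B 1)) = 0 := by ring
    simp only [c _ b0, c _ b2, c _ b4] at d
    revert d; decide +kernel

variable {Y : Type*} [Group Y] {ι ι' : G →* Y}

/-- Two embeddings with matching transvections. -/
structure Cor (ι ι' : G →* Y) : Prop where
  k : ι.ker = ZG
  k' : ι'.ker = ZG
  tr : ∀ a, Tr a → ∃ p, UF.H p p = 0 ∧ ι' (T a) = ι (T p)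

theorem Cor.comp (h : Cor ι ι') (g : G) (j : ZMod 3) (ε : Bool) : Cor (ι.comp (au g j ε)) ι' := by
  refine ⟨?_, h.k', fun a ha => ?_⟩
  · ext x
    rw [MonoidHom.mem_ker, MonoidHom.comp_apply, ← MonoidHom.mem_ker, h.k, mem_ZG_map (au_inj _ _ _)]
  · obtain ⟨p, hp, e⟩ := h.tr a ha
    have h1 : UF.H (tau ε ∘ (dv (-j) * suAct g⁻¹ p)) (tau ε ∘ (dv (-j) * suAct g⁻¹ p)) = 0 := by
      rw [H_tau, H_dv, UField.H_act, hp, map_zero]
    refine ⟨_, h1, ?_⟩
    rw [MonoidHom.comp_apply, au_T _ _ _ h1, tau_comp, ← mul_assoc, ← dv_add, add_neg_cancel,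
      dv_zero, one_mul, suAct_act_inv, e]

theorem Cor.tf (h : Cor ι ι') {a b p q : V6} (ha : UF.H a a = 0) (hb : UF.H b b = 0)
    (hp : UF.H p p = 0) (hq : UF.H q q = 0) (e1 : ι' (T a) = ι (T p)) (e2 : ι' (T b) = ι (T q)) :
    UF.H p q = 0 ↔ UF.H a b = 0 := by
  rw [← comm_iff ha hb, ← comm_iff hp hq]
  conv_lhs => rw [← h.k]
  rw [← h.k']
  simp only [MonoidHom.mem_ker, map_mul, map_inv, e1, e2]

theorem Cor.one (h : Cor ι ι') (h3 : ∀ g, IsConj (si 2) g → ι' (si 3) ≠ ι g) :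
    ∃ g j, ∀ i, ι' (T (qs i)) = ι (au g j false (T (qs i))) := by
  choose p hp e using fun i => h.tr _ (tr_qs i)
  have tf := fun i j => h.tf (qs_iso i) (qs_iso j) (hp i) (hp j) (e i) (e j)
  simp only [gram_qs] at tf
  have sc : ∀ {a b : V6}, UF.H a b ≠ 0 → ∀ c : F4, c ≠ 0 →
      ∃ d : F4, d ≠ 0 ∧ UF.H (c • a) (d • b) = 1 :=
    fun {a b} h c hc => by
      simp only [UField.H_smul_left, UField.H_smul_right]
      revert c
      generalize UF.H a b = x at h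
      revert x; decide
  obtain ⟨c1, n1, e1⟩ := sc ((tf 0 1).not.2 (by decide)) 1 one_ne_zero
  obtain ⟨c2, n2, e2⟩ := sc ((tf 1 2).not.2 (by decide)) c1 n1
  obtain ⟨c3, n3, e3⟩ := sc ((tf 2 3).not.2 (by decide)) c2 n2
  obtain ⟨c4, n4, e4⟩ := sc ((tf 3 4).not.2 (by decide)) c3 n3
  let c : Fin 5 → F4 := ![1, c1, c2, c3, c4]
  have hc : ∀ i, c i ≠ 0 := fun i => by
    fin_cases i
    exacts [one_ne_zero, n1, n2, n3, n4]
  have hs : ∀ {a b : V6}, UF.H a b = 1 → UF.H b a = 1 := fun e => by rw [← UF.H_swap, e, map_one]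
  have hG : Gram fun i => c i • p i := fun i j => by
    rw [gram_qs]
    split_ifs with hij
    · have k : ∀ i j : Fin 5, i.1 + 1 = j.1 → UF.H (c i • p i) (c j • p j) = 1 := fun i j h => by
        rcases (by decide : ∀ i j : Fin 5, i.1 + 1 = j.1 → (i = 0 ∧ j = 1) ∨ (i = 1 ∧ j = 2) ∨
          (i = 2 ∧ j = 3) ∨ (i = 3 ∧ j = 4)) i j h with ⟨rfl, rfl⟩ | ⟨rfl, rfl⟩ | ⟨rfl, rfl⟩ |
          ⟨rfl, rfl⟩
        exacts [e1, e2, e3, e4]
      exact hij.elim (k i j) fun h => hs (k j i h)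
    · rw [UField.H_smul_left, UField.H_smul_right, (tf i j).2 (if_neg hij), mul_zero, mul_zero]
  have e' : ∀ i, ι' (T (qs i)) = ι (T (c i • p i)) := fun i => by rw [T_smul (hc i) (hp i), e]
  by_cases hr : c 0 • p 0 + c 2 • p 2 + c 4 • p 4 = 0
  · refine absurd ?_ (h3 _ (rank_two hG hr))
    rw [map_mul, map_mul, ← e', ← e', ← e', ← map_mul, ← map_mul, ← pm_swap, ← pm_swap, ← pm_swap,
      ← map_mul, ← map_mul]
    rfl
  obtain ⟨g, j, hg⟩ := frame hG hr
  exact ⟨g, j, fun i => by rw [e', au_T _ _ _ (qs_iso i), ← hg]; rfl⟩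

theorem vec6 {P : V6 → Prop} (h : ∀ a b c d e f, P ![a, b, c, d, e, f]) (v : V6) : P v := by
  have : v = ![v 0, v 1, v 2, v 3, v 4, v 5] := funext fun i => by fin_cases i <;> rfl
  exact this ▸ h _ _ _ _ _ _

theorem H_qs (a b c d e f : F4) : UF.H ![a, b, c, d, e, f] (qs 0) = a + b ∧
    UF.H ![a, b, c, d, e, f] (qs 1) = b + c ∧ UF.H ![a, b, c, d, e, f] (qs 2) = c + d ∧
    UF.H ![a, b, c, d, e, f] (qs 3) = d + e ∧ UF.H ![a, b, c, d, e, f] (qs 4) = e + f := by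
  simp [UField.H_def, Fin.sum_univ_six, qs]

theorem eq4 : ∀ {a b : F4}, a + b = 0 → b = a := by decide

theorem c6 : ∀ p : V6, (∀ i, UF.H p (qs i) = 0) → p = p 0 • r1 :=
  vec6 fun a b c d e f h => by
    obtain ⟨h0, h1, h2, h3, h4⟩ := H_qs a b c d e f
    obtain rfl := eq4 (h0.symm.trans (h 0))
    obtain rfl := eq4 (h1.symm.trans (h 1))
    obtain rfl := eq4 (h2.symm.trans (h 2))
    obtain rfl := eq4 (h3.symm.trans (h 3))
    obtain rfl := eq4 (h4.symm.trans (h 4))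
    clear h h0 h1 h2 h3 h4
    revert f; decide +kernel

theorem c5 : ∀ p : V6, UF.H p p = 0 → UF.H p (qs 0) ≠ 0 → UF.H p (qs 1) ≠ 0 → UF.H p (qs 2) = 0 →
    UF.H p (qs 3) = 0 → UF.H p (qs 4) = 0 → UF.H p (qs 0 + qs 1) ≠ 0 →
    ∃ c : F4, c ≠ 0 ∧ ∃ ε : Bool, p = c • (tau ε ∘ t5) ∨
      p = c • (tau ε ∘ t5 + UF.H (tau ε ∘ t5) r1 • r1) :=
  vec6 fun a b c d e f h h0 h1 h2 h3 h4 h5 => by
    obtain ⟨-, -, k2, k3, k4⟩ := H_qs a b c d e f
    obtain rfl := eq4 (k2.symm.trans h2)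
    obtain rfl := eq4 (k3.symm.trans h3)
    obtain rfl := eq4 (k4.symm.trans h4)
    clear h2 h3 h4 k2 k3 k4
    revert a b f
    simp only [UField.H_def]; decide +kernel

theorem c7 : ∀ p : V6, UF.H p p = 0 → UF.H p (qs 0) = 0 → UF.H p (qs 1) = 0 → UF.H p (qs 2) = 0 →
    UF.H p (qs 3) = 0 → UF.H p (qs 4) ≠ 0 → UF.H p ![0, 0, 0, 0, 1, om] = 0 →
    p 0 ≠ 0 ∧ p = p 0 • r2 :=
  vec6 fun a b c d e f h h0 h1 h2 h3 h4 h5 => by
    obtain ⟨k0, k1, k2, k3, -⟩ := H_qs a b c d e f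
    obtain rfl := eq4 (k0.symm.trans h0)
    obtain rfl := eq4 (k1.symm.trans h1)
    obtain rfl := eq4 (k2.symm.trans h2)
    obtain rfl := eq4 (k3.symm.trans h3)
    clear h0 h1 h2 h3 k0 k1 k2 k3
    revert e f
    simp only [UField.H_def]; decide +kernel

theorem Cor.two (h : Cor ι ι') (e : ∀ i, ι' (T (qs i)) = ι (T (qs i))) :
    ι' (T r1) = ι (T r1) ∧ ∃ g ε, (∀ i, au g 0 ε (T (qs i)) = T (qs i)) ∧
      au g 0 ε (T r1) = T r1 ∧ ι' (T t5) = ι (au g 0 ε (T t5)) := by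
  obtain ⟨p, hp, e5⟩ := h.tr _ tr_t5
  obtain ⟨q, hq, e6⟩ := h.tr r1 (tr_of r1_iso (by rw [UField.H_def]; decide))
  have k1 : ∀ i, UF.H r1 (qs i) = 0 ∧ UF.H (qs i) r1 = 0 := by simp only [UField.H_def]; decide
  have h1 := c6 q fun i => (h.tf r1_iso (qs_iso i) hq (qs_iso i) e6 (e i)).2 (k1 i).1
  have h2 : q 0 ≠ 0 := fun e0 => (h.tf r1_iso t5_iso hq hp e6 e5).not.2
    (by rw [UField.H_def]; decide) (by rw [h1, e0]; simp)
  rw [h1, T_smul h2 r1_iso] at e6
  refine ⟨e6, ?_⟩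
  have tf := fun i => h.tf t5_iso (qs_iso i) hp (qs_iso i) e5 (e i)
  have k2 : suAct (T (qs 1)) (qs 0) = qs 0 + qs 1 := by
    rw [act_T (qs_iso 1), gram_qs]; simp
  have k3 : UF.H (qs 0 + qs 1) (qs 0 + qs 1) = 0 := by rw [← k2, UField.H_act, qs_iso]
  have k4 : ∀ ε, tau ε ∘ r1 = r1 ∧ (∀ i, tau ε ∘ qs i = qs i) ∧
      UF.H (tau ε ∘ t5) (tau ε ∘ t5) = 0 := by simp only [UField.H_def]; decide
  simp only [UF.H_def t5] at tf
  obtain ⟨c, hc, ε, h3 | h3⟩ := c5 p hp ((tf 0).not.2 (by decide)) ((tf 1).not.2 (by decide))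
    ((tf 2).2 (by decide)) ((tf 3).2 (by decide)) ((tf 4).2 (by decide))
    ((h.tf t5_iso k3 hp k3 e5 (by
      rw [← k2, ← T_conj _ (qs_iso 0)]
      simp only [map_mul, map_inv, e])).not.2 (by rw [UField.H_def]; decide))
  · refine ⟨1, ε, fun i => ?_, ?_, ?_⟩
    · rw [au_T _ _ _ (qs_iso i), suAct_one, dv_zero, one_mul, (k4 ε).2.1]
    · rw [au_T _ _ _ r1_iso, suAct_one, dv_zero, one_mul, (k4 ε).1]
    · rw [au_T _ _ _ t5_iso, suAct_one, dv_zero, one_mul, e5, h3, T_smul hc (k4 ε).2.2]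
  · refine ⟨T r1, ε, fun i => ?_, ?_, ?_⟩
    · rw [au_T _ _ _ (qs_iso i), dv_zero, one_mul, (k4 ε).2.1, act_T r1_iso, (k1 i).2, zero_smul,
        add_zero]
    · rw [au_T _ _ _ r1_iso, dv_zero, one_mul, (k4 ε).1, act_T r1_iso, r1_iso, zero_smul, add_zero]
    · rw [au_T _ _ _ t5_iso, dv_zero, one_mul, e5, h3, ← act_T r1_iso,
        T_smul hc (by rw [UField.H_act, (k4 ε).2.2])]

theorem mem_eqL {X : Type*} [Group X] (f g : X →* Y) (x : X) : x ∈ f.eqLocus g ↔ f x = g x :=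
  Iff.rfl

theorem Cor.three (h : Cor ι ι') (e : ∀ i, ι' (T (qs i)) = ι (T (qs i)))
    (e6 : ι' (T r1) = ι (T r1)) (e5 : ι' (T t5) = ι (T t5)) (x : G) : ι' x = ι x := by
  have hp : ∀ σ, ι' (pm σ) = ι (pm σ) := fun σ => by
    have : σ ∈ Submonoid.closure (Set.range fun i : Fin 5 => swap i.castSucc i.succ) := by
      rw [Perm.mclosure_swap_castSucc_succ]; trivial
    induction this using Submonoid.closure_induction with
    | mem _ hx => obtain ⟨i, rfl⟩ := hx; rw [pm_swap, e]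
    | one => simp only [map_one]
    | mul _ _ _ _ h1 h2 => simp only [map_mul, h1, h2]
  obtain ⟨p, hq, e7⟩ := h.tr r2 (tr_of r2_iso (by rw [UField.H_def]; decide))
  have tf := fun i => h.tf r2_iso (qs_iso i) hq (qs_iso i) e7 (e i)
  have k2 : suAct (pm (swap 0 4 * swap 1 5)) t5 = ![0, 0, 0, 0, 1, om] := by rw [act_pm]; decide
  have k3 : UF.H (![0, 0, 0, 0, 1, om] : V6) (![0, 0, 0, 0, 1, om] : V6) = 0 := by
    rw [UField.H_def]; decide
  simp only [UF.H_def r2] at tf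
  obtain ⟨h1, h2⟩ := c7 p hq ((tf 0).2 (by decide)) ((tf 1).2 (by decide)) ((tf 2).2 (by decide))
    ((tf 3).2 (by decide)) ((tf 4).not.2 (by decide)) ((h.tf r2_iso k3 hq k3 e7 (by
      rw [← k2, ← T_conj _ t5_iso]
      simp only [map_mul ι, map_mul ι', map_inv, e5, hp])).2 (by rw [UField.H_def]; decide))
  rw [h2, T_smul h1 r2_iso] at e7
  have : ι'.eqLocus ι = ⊤ := eq_top_of_gen fun i => by
    refine (mem_eqL _ _ _).2 ?_
    rcases gen_cases i with ⟨σ, e'⟩ | e' | e' | e' <;> rw [e']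
    · exact hp σ
    · rw [map_mul, map_mul, e, e5]
    · exact e6
    · exact e7
  exact (mem_eqL _ _ _).1 (this ▸ Subgroup.mem_top x)

theorem aut {Y : Type*} [Group Y] {ι ι' : G →* Y} (hk : ι.ker = ZG) (hk' : ι'.ker = ZG)
    (hr : ∀ g, ∃ g', ι' g = ι g') (h1 : ∃ g', IsConj (si 1) g' ∧ ι' (si 1) = ι g')
    (h3 : ∀ g, IsConj (si 2) g → ι' (si 3) ≠ ι g) :
    ∃ (g : G) (j : ZMod 3) (ε : Bool), ∀ x, ι' x = ι (g * dl j (tw ε x) * g⁻¹) := by
  have h : Cor ι ι' := ⟨hk, hk', by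
    rintro _ ⟨g, rfl⟩
    obtain ⟨_, hc, e⟩ := h1
    obtain ⟨k, rfl⟩ := isConj_iff.1 hc
    obtain ⟨g', e'⟩ := hr g
    rw [show si 1 = T (qs 0) from pm_swap 0] at e
    refine ⟨suAct (g' * k) (qs 0), by rw [UField.H_act, qs_iso], ?_⟩
    rw [← T_conj _ (qs_iso 0), ← T_conj _ (qs_iso 0), map_mul ι', map_mul ι', map_inv, e, e']
    simp only [map_mul, map_inv, mul_inv_rev, mul_assoc]⟩
  obtain ⟨g, j, e⟩ := h.one h3
  obtain ⟨e6, g', ε, a1, a2, e5⟩ := (h.comp g j false).two e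
  have := ((h.comp g j false).comp g' 0 ε).three
    (fun i => by rw [MonoidHom.comp_apply, a1]; exact e i)
    (by rw [MonoidHom.comp_apply, a2]; exact e6) e5
  refine ⟨g * dl j g', j, ε, fun x => ?_⟩
  rw [this, MonoidHom.comp_apply, MonoidHom.comp_apply, au_apply, au_apply, tw_false, dl_zero]
  simp only [map_mul, map_inv, mul_inv_rev, mul_assoc]

end Cfsg.Agent.H6.U6
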