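import Cfsg.Agent.H3.ZStar
import Cfsg.Agent.H5.CITBasic
import Cfsg.Agent.H7.Fitting
import Cfsg.Agent.H7.BG.Coprime
import Cfsg.Agent.H8.PGroupAct
import Cfsg.Agent.H9.SylowIn

/-!
# The end game for the normalizer of a large elementary abelian `2`-group
-/

set_option autoImplicit false

namespace Cfsg.Agent.H6.U6

open Subgroup
open scoped Pointwise

section Abs

variable {G : Type*} [Group G] [Finite G]

theorem dih2 {Y : Subgroup G} {a s : G} (ha : a * a = 1) (hs : s * s = 1) (aY : a ∈ Y)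
    (sY : s ∈ Y) : (∃ g ∈ Y, g * s * g⁻¹ = a) ∨ ∃ z, z ≠ 1 ∧ z * a = a * z ∧
      z * s = s * z ∧ ((∃ g, g * a * g⁻¹ = z * a) ∨ ∃ g, g * s * g⁻¹ = z * a) := by
  have key : ∀ x : G, x * (a * s) * x⁻¹ = (a * s)⁻¹ → ∀ j : ℕ,
      (a * s) ^ j * x * ((a * s) ^ j)⁻¹ = (a * s) ^ (j + j) * x := fun x hx j => by
    have : x * ((a * s) ^ j)⁻¹ * x⁻¹ = (a * s) ^ j := by
      rw [← inv_pow, ← conj_pow, show x * (a * s)⁻¹ * x⁻¹ = (x * (a * s) * x⁻¹)⁻¹ by group, hx,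
        inv_inv]
    rw [pow_add, mul_assoc _ _ x]
    nth_rewrite 4 [← this]
    group
  have ai : a⁻¹ = a := inv_eq_of_mul_eq_one_left ha
  have si : s⁻¹ = s := inv_eq_of_mul_eq_one_left hs
  have ia : a * (a * s) * a⁻¹ = (a * s)⁻¹ := by rw [← mul_assoc, ha, one_mul, mul_inv_rev, si]
  rcases H5.conj_or_central ha hs with ⟨-, k, hk⟩ | ⟨k, h1, -, h3, h4⟩
  · exact Or.inl ⟨_, Y.pow_mem (Y.mul_mem aY sY) k, hk⟩
  refine Or.inr ⟨_, h1, h3, h4, ?_⟩
  rcases Nat.even_or_odd' k with ⟨j, rfl | rfl⟩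
  · exact Or.inl ⟨_, by rw [key a ia, two_mul]⟩
  · refine Or.inr ⟨(a * s) ^ j * a, ?_⟩
    have := key (a * s * a⁻¹) (by
      calc _ = a * (s * (a⁻¹ * (a * s) * a) * s⁻¹) * a⁻¹ := by group
        _ = _ := by simp only [mul_inv_rev, ai, si, ← mul_assoc, ha, hs, one_mul]) j
    calc _ = (a * s) ^ j * (a * s * a⁻¹) * ((a * s) ^ j)⁻¹ := by simp only [mul_inv_rev, mul_assoc]
      _ = _ := by rw [this, pow_succ, two_mul, mul_assoc, ai, mul_assoc, mul_assoc]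

/-- an elementary abelian TI-subgroup whose other conjugates avoid its normalizer. -/
structure TI (A K : Subgroup G) : Prop where
  le : A ≤ K
  ex : ∀ a ∈ A, a * a = 1
  nrm : ∀ k ∈ K, ∀ a ∈ A, k * a * k⁻¹ ∈ A
  ti : ∀ g, ∀ a ∈ A, a ≠ 1 → g * a * g⁻¹ ∈ A → g ∈ K
  av : ∀ g ∉ K, ∀ a ∈ A, g * a * g⁻¹ ∈ K → a = 1

variable {A K Y : Subgroup G}

theorem TI.conj (h : TI A K) [hY : Y.Normal] (hAY : A ≤ Y) {y : G} (hy : y ∉ K) {a b : G}
    (ha : a ∈ A) (a1 : a ≠ 1) (hb : b ∈ A) (b1 : b ≠ 1) :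
    ∃ g ∈ Y, g * (y * b * y⁻¹) * g⁻¹ = a := by
  have hs : y * b * y⁻¹ * (y * b * y⁻¹) = 1 := by
    rw [show y * b * y⁻¹ * (y * b * y⁻¹) = y * (b * b) * y⁻¹ by group, h.ex b hb]; group
  have hsK : y * b * y⁻¹ ∉ K := fun e => b1 (h.av y hy b hb e)
  refine (dih2 (h.ex a ha) hs (hAY ha) (hY.conj_mem _ (hAY hb) y)).resolve_right ?_
  rintro ⟨z, z1, hza, hzs, hz⟩
  have zK : z ∈ K := h.ti z a ha a1 (by rwa [hza, mul_inv_cancel_right])
  have zaK : z * a ∈ K := mul_mem zK (h.le ha)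
  have zA : z * a ∈ A := by
    rcases hz with ⟨g, hg⟩ | ⟨g, hg⟩
    · by_cases gK : g ∈ K
      · exact hg ▸ h.nrm g gK a ha
      · exact absurd (h.av g gK a ha (hg ▸ zaK)) a1
    · have e : g * y * b * (g * y)⁻¹ = z * a := by rw [← hg]; group
      by_cases gK : g * y ∈ K
      · exact e ▸ h.nrm _ gK b hb
      · exact absurd (h.av _ gK b hb (e ▸ zaK)) b1
  rw [mul_mem_cancel_right ha] at zA
  exact hsK (h.ti _ z zA z1 (by rwa [← hzs, mul_inv_cancel_right]))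

theorem TI.dvd (h : TI A K) [hY : Y.Normal] (hAY : A ≤ Y) {y : G} (hy : y ∉ K) (hA : A ≠ ⊥) :
    Nat.card A - 1 ∣ Nat.card ↥(K ⊓ Y) := by
  classical
  obtain ⟨⟨a, ha⟩, a1⟩ := ne_bot_iff_exists_ne_one.1 hA
  replace a1 : a ≠ 1 := fun e => a1 (Subtype.ext e)
  let L := (K ⊓ Y).map (MulAut.conj : G →* MulAut G)
  have h1 : MulAction.orbit L a = (A : Set G) \ {1} := by
    ext b
    constructor
    · rintro ⟨⟨_, k, hk, rfl⟩, rfl⟩
      exact ⟨h.nrm k hk.1 a ha, fun e => a1 (by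
        simpa [Subgroup.smul_def, MulAut.smul_def] using e)⟩
    · rintro ⟨hb, b1⟩
      obtain ⟨g, gY, hg⟩ := h.conj hAY hy ha a1 ha a1
      obtain ⟨g', gY', hg'⟩ := h.conj hAY hy hb b1 ha a1
      have e : g' * g⁻¹ * a * (g' * g⁻¹)⁻¹ = b := by
        rw [← hg']
        generalize y * a * y⁻¹ = s at hg
        rw [← hg]; group
      exact ⟨⟨_, g' * g⁻¹, mem_inf.2 ⟨h.ti _ a ha a1 (e ▸ hb), mul_mem gY' (inv_mem gY)⟩, rfl⟩, e⟩
  have h2 := (MulAction.stabilizer L a).index_dvd_card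
  rw [MulAction.index_stabilizer, h1, Set.ncard_sdiff_singleton_of_mem (one_mem A),
    ← Nat.card_coe_set_eq] at h2
  exact h2.trans (card_map_dvd _ _)

theorem TI.top (h : TI A K) [hY : Y.Normal] (hAY : A ≤ Y) (hA : Nat.card A = 2)
    (hKY : ∀ w ∈ K, w ∈ Y → Odd (orderOf w) → w = 1) {E : Subgroup G} (hab : IsMulCommutative E)
    (hE : ¬ IsCyclic E) (hC : ∀ e ∈ E, e ≠ 1 → ∀ w, w * e = e * w → w ∈ K) : K = ⊤ := by
  obtain ⟨⟨a, ha⟩, a1, ha2⟩ := (Nat.card_eq_two_iff' (1 : A)).1 hA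
  replace a1 : a ≠ 1 := fun e => a1 (Subtype.ext e)
  have ha3 : ∀ b ∈ A, b ≠ 1 → b = a := fun b hb b1 =>
    congrArg Subtype.val (ha2 ⟨b, hb⟩ fun e => b1 (congrArg Subtype.val e))
  have hi : IsIsolated a := fun g hg => by
    have h1 : g * a * g⁻¹ ∈ K := h.ti _ a ha a1 (by rwa [← hg.eq, mul_inv_cancel_right])
    have h2 : g ∈ K := by_contra fun e => a1 (h.av g e a ha h1)
    exact ha3 _ (h.nrm g h2 a ha) (by simpa using a1)
  have hz := H3.zStar_of_isIsolated (orderOf_eq_prime (p := 2) (by rw [sq, h.ex a ha]) a1) hi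
  have hW : pPrimeCore 2 G ⊓ Y = ⊥ := by
    by_contra hW
    refine hE (H7.Semiregular.cyclic_of_abel (K := pPrimeCore 2 G ⊓ Y) (fun e he e1 => ?_)
      (by rw [normalizer_eq_top]; exact le_top) hW hab)
    rw [eq_bot_iff]
    rintro w ⟨⟨h1, h2⟩, h3⟩
    exact hKY w (hC e he e1 w (mem_centralizer_singleton_iff.1 h3)) h2 (Nat.coprime_two_right.1
      ((H7.pPrimeCore_coprime 2 G).coprime_dvd_left (orderOf_dvd_natCard _ h1)))
  rw [eq_top_iff]
  intro g _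
  have h1 : g * a * g⁻¹ * a⁻¹ ∈ pPrimeCore 2 G ⊓ Y :=
    mem_inf.2 ⟨hz g, mul_mem (hY.conj_mem _ (hAY ha) g) (inv_mem (hAY ha))⟩
  rw [hW, mem_bot, mul_inv_eq_one] at h1
  exact h.ti g a ha a1 (by rwa [h1])

end Abs

variable {X : Type*} [Group X] [Finite X] {A H : Subgroup X}

theorem syl3 (ctl : ∀ x ∈ H, orderOf x = 3 → ∀ g : X, g * x * g⁻¹ ∈ H → g ∈ H) {C : Subgroup X}
    {x y : X} (hy : y ∈ C) (hyH : y ∈ H) (y3 : orderOf y = 3) (hx : x ∈ C) (x3 : orderOf x = 3) :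
    ∃ c ∈ C, c * x * c⁻¹ ∈ H := by
  have := Fact.mk Nat.prime_three
  have hp : ∀ {x : X}, orderOf x = 3 → IsPGroup 3 (zpowers x) := fun h =>
    IsPGroup.of_card (n := 1) (by rw [Nat.card_zpowers, h, pow_one])
  obtain ⟨P, hP, hyP⟩ := H9.exists_isSylowIn_ge (zpowers_le.2 hy) (hp y3)
  obtain ⟨Q, hQ, hxQ⟩ := H9.exists_isSylowIn_ge (zpowers_le.2 hx) (hp x3)
  obtain ⟨c, hc, e⟩ := hQ.exists_conj hP
  have y1 : y ≠ 1 := fun e => by simp [e] at y3
  have : Nontrivial P := ⟨⟨y, hyP (mem_zpowers y)⟩, 1, fun e => y1 (congrArg Subtype.val e)⟩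
  obtain ⟨z, -, z1, z3, hz⟩ := H8.exists_central_of_normal Nat.prime_three hP.isPGroup ⊤ top_ne_bot
  have hz' : ∀ w ∈ P, w * z = z * w := fun w hw => congrArg Subtype.val (hz ⟨w, hw⟩)
  have z3' : orderOf (z : X) = 3 := by rw [orderOf_coe]; exact orderOf_eq_prime z3 z1
  have zH : (z : X) ∈ H := ctl y hyH y3 z (by
    rwa [← hz' y (hyP (mem_zpowers y)), mul_inv_cancel_right])
  have h1 : c * x * c⁻¹ ∈ P := by
    rw [← e, H9.mem_conj_smul_iff]
    simpa [mul_assoc] using hxQ (mem_zpowers x)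
  exact ⟨c, hc, ctl z zH z3' _ (by rwa [hz' _ h1, mul_inv_cancel_right])⟩

variable (A H) in
/-- the hypotheses about weak closure. -/
structure Hyp : Prop where
  hH : H = normalizer (A : Set X)
  hA : Nat.card A = 2 ^ 20
  hex : ∀ a ∈ A, a * a = 1
  ctl : ∀ x ∈ H, orderOf x = 3 → ∀ g : X, g * x * g⁻¹ ∈ H → g ∈ H
  h1 : ∀ a ∈ A, ∃ x ∈ H, orderOf x = 3 ∧ x * a = a * x
  h3 : ∀ U : Subgroup X, U ≤ H → (∀ u ∈ U, u * u = 1) →
      (∀ u ∈ U, u ∉ A → ∀ x ∈ H, orderOf x = 3 → x * u ≠ u * x) →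
      Nat.card U ≤ 16 * Nat.card ↥(U ⊓ A) ∧ (¬ U ≤ A → Nat.card ↥(U ⊓ A) < 2 ^ 12)

namespace Hyp

variable (h : Hyp A H)
include h

omit [Finite X] in
theorem nrm {k a : X} (hk : k ∈ H) (ha : a ∈ A) : k * a * k⁻¹ ∈ A :=
  (mem_normalizer_iff.1 (h.hH ▸ hk) a).1 ha

omit [Finite X] in
theorem le : A ≤ H := h.hH ▸ le_normalizer

omit [Finite X] in
theorem inv {a : X} (ha : a ∈ A) : a⁻¹ = a := inv_eq_of_mul_eq_one_left (h.hex a ha)

omit [Finite X] in
theorem comm {a b : X} (ha : a ∈ A) (hb : b ∈ A) : a * b = b * a := by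
  rw [← h.inv (mul_mem ha hb), mul_inv_rev, h.inv ha, h.inv hb]

theorem mem {g a x : X} (ha : a ∈ A) (hx : x ∈ H) (x3 : orderOf x = 3)
    (hc : x * (g * a * g⁻¹) = g * a * g⁻¹ * x) : g * a * g⁻¹ ∈ A := by
  obtain ⟨w, hw, w3, hwa⟩ := h.h1 a ha
  obtain ⟨c, hc, e⟩ := syl3 h.ctl (C := centralizer {g * a * g⁻¹}) (x := g * w * g⁻¹)
    (mem_centralizer_singleton_iff.2 hc) hx x3 (mem_centralizer_singleton_iff.2 (by
      calc _ = g * (w * a) * g⁻¹ := by group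
        _ = _ := by rw [hwa]; group)) (by
      rw [← w3]; exact (MulAut.conj g).orderOf_eq w)
  have h2 := h.nrm (h.ctl w hw w3 (c * g) (by convert e using 1; group)) ha
  rw [mem_centralizer_singleton_iff] at hc
  rwa [show c * g * a * (c * g)⁻¹ = c * (g * a * g⁻¹) * c⁻¹ by group, hc,
    mul_inv_cancel_right] at h2

theorem bound (g : X) : Nat.card ↥(MulAut.conj g • A ⊓ H) ≤ 16 * Nat.card ↥(MulAut.conj g • A ⊓ A) ∧
    (¬ MulAut.conj g • A ⊓ H ≤ A → Nat.card ↥(MulAut.conj g • A ⊓ A) < 2 ^ 12) := by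
  have := h.h3 (MulAut.conj g • A ⊓ H) inf_le_right (fun u hu => by
    have := h.hex _ (H9.mem_conj_smul_iff.1 hu.1)
    calc _ = g * (g⁻¹ * u * g * (g⁻¹ * u * g)) * g⁻¹ := by group
      _ = _ := by rw [this]; group) (fun u hu hu' x hx x3 e => hu' (by
    have := h.mem (g := g) (H9.mem_conj_smul_iff.1 hu.1) hx x3
    rw [show g * (g⁻¹ * u * g) * g⁻¹ = u by group] at this
    exact this e))
  rwa [inf_assoc, inf_eq_right.2 h.le] at this

theorem wc {g : X} (hg : ∀ a ∈ A, g * a * g⁻¹ ∈ H) : g ∈ H := by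
  have h1 : MulAut.conj g • A ≤ H := fun u hu => by
    simpa [mul_assoc] using hg _ (H9.mem_conj_smul_iff.1 hu)
  have h2 := h.bound g
  rw [inf_eq_left.2 h1, H9.card_conj_smul, h.hA] at h2
  have h3 : MulAut.conj g • A ≤ A := by_contra fun e => by have := h2.2 e; omega
  rw [h.hH]
  exact H9.mem_normalizer_of_conj_smul_eq
    (eq_of_le_of_card_ge h3 (H9.card_conj_smul A g).ge)

variable {D : Subgroup X} (hD : D ≤ A)
  (hM : ∀ a ∈ A, a ∉ D → ∀ w, (∀ d ∈ D, w * d = d * w) → w * a = a * w → w ∈ H)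
include hD hM

theorem ti {n a : X} (hn : n ∈ normalizer (D : Set X)) (ha : a ∈ A) (haD : a ∉ D)
    (hna : n * a * n⁻¹ ∈ A) : n ∈ H := by
  have key : ∀ b ∈ A, ∀ c, n * c * n⁻¹ ∈ A → n⁻¹ * b * n⁻¹⁻¹ * c = c * (n⁻¹ * b * n⁻¹⁻¹) :=
    fun b hb c hc => by
      calc _ = n⁻¹ * (b * (n * c * n⁻¹)) * n := by group
        _ = _ := by rw [h.comm hb hc]; group
  exact inv_mem_iff.1 (h.wc fun b hb => hM a ha haD _
    (fun d hd => key b hb d (hD ((mem_normalizer_iff.1 hn d).1 hd))) (key b hb a hna))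

theorem inf {n : X} (hn : n ∈ normalizer (D : Set X)) (hnH : n ∉ H) :
    MulAut.conj n • A ⊓ A = D := by
  refine le_antisymm (fun u hu => ?_) fun d hd => mem_inf.2 ⟨H9.mem_conj_smul_iff.2
    (hD ((mem_normalizer_iff''.1 hn d).1 hd)), hD hd⟩
  by_contra hu'
  exact hnH (inv_mem_iff.1 (h.ti hD hM (inv_mem hn) hu.2 hu' (by
    rw [inv_inv]; exact H9.mem_conj_smul_iff.1 hu.1)))

theorem av {n a : X} (hn : n ∈ normalizer (D : Set X)) (hnH : n ∉ H) (ha : a ∈ A)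
    (hb : n * a * n⁻¹ ∈ H) : a ∈ D := by
  by_contra haD
  have h1 := (h.bound n).2 fun e => hnH (h.ti hD hM hn ha haD (e (mem_inf.2
    ⟨H9.mem_conj_smul_iff.2 (by simpa [mul_assoc] using ha), hb⟩)))
  have h2 := (h.bound n⁻¹).1
  rw [h.inf hD hM hn hnH] at h1
  rw [h.inf hD hM (inv_mem hn) (by rwa [inv_mem_iff])] at h2
  set b := n * a * n⁻¹ with hbd
  have bb : b * b = 1 := by
    rw [hbd, show n * a * n⁻¹ * (n * a * n⁻¹) = n * (a * a) * n⁻¹ by group, h.hex a ha]; group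
  have bi : b⁻¹ = b := inv_eq_of_mul_eq_one_left bb
  let φ : A →* A := MonoidHom.mk' (fun c => ⟨c * (b * c * b⁻¹), mul_mem c.2 (h.nrm hb c.2)⟩)
    fun c c' => Subtype.ext (by
      have := h.comm c'.2 (h.nrm hb c.2)
      calc _ = c * (c' * (b * c * b⁻¹)) * (b * c' * b⁻¹) := by
            simp only [coe_mul]; group
        _ = _ := by rw [this]; simp only [coe_mul, mul_assoc])
  have hφ : ∀ c : A, (φ c : X) = c * (b * c * b⁻¹) := fun c => rfl
  have h3 : φ.range ≤ (D.subgroupOf A).comap φ := by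
    rintro _ ⟨c, rfl⟩
    rw [mem_comap, mem_subgroupOf, hφ, hφ]
    have : b * (c * (b * c * b⁻¹)) * b⁻¹ = c * (b * c * b⁻¹) := by
      rw [h.comm c.2 (h.nrm hb c.2)]
      calc _ = b * b * c * (b⁻¹ * c * b⁻¹) := by group
        _ = _ := by rw [bb, one_mul, h.comm (h.nrm hb c.2) c.2, bi]
    rw [this, h.hex _ (mul_mem c.2 (h.nrm hb c.2))]
    exact one_mem _
  have h4 : D.subgroupOf A ≤ (D.subgroupOf A).comap φ := fun c hc => by
    have h5 := h.comm ha (hD ((mem_normalizer_iff''.1 hn c).1 hc))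
    rw [mem_comap, mem_subgroupOf, hφ, show b * c * b⁻¹ = c by
      calc _ = n * (a * (n⁻¹ * c * n)) * a⁻¹ * n⁻¹ := by rw [hbd]; group
        _ = _ := by rw [h5]; group, h.hex _ c.2]
    exact one_mem _
  have h5 : Nat.card ((D.subgroupOf A).comap φ) ≤ Nat.card ↥(MulAut.conj n⁻¹ • A ⊓ H) :=
    Nat.card_le_card_of_injective (fun c => ⟨n⁻¹ * c * n, mem_inf.2 ⟨H9.mem_conj_smul_iff.2 (by
      simp [mul_assoc]), h.ti hD hM (mul_mem (mul_mem (inv_mem hn)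
        (mem_normalizer_iff.2 fun d => ?_)) hn) ha haD ?_⟩⟩) fun c c' e => by
      simpa using e
  · have h6 := ((D.subgroupOf A).comap φ).card_mul_index
    have h7 := H9.card_mul_relIndex_of_le h4
    rw [index_comap, h.hA] at h6
    have h8 := relIndex_le_of_le_right h3 (index_ne_zero_of_finite (H := (D.subgroupOf A).subgroupOf _))
    rw [Nat.card_congr (subgroupOfEquivOfLe hD).toEquiv] at h7
    have h9 : 0 < Nat.card D := Nat.card_pos
    have h10 : (D.subgroupOf A).relIndex ((D.subgroupOf A).comap φ) ≤ 16 :=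
      Nat.le_of_mul_le_mul_left (by omega) h9
    have h11 := Nat.mul_le_mul (h5.trans h2) (h8.trans h10)
    omega
  · constructor
    · intro hd
      rwa [h.comm c.1.2 (hD hd), mul_inv_cancel_right]
    · intro hd
      have e : d = (c.1 : X)⁻¹ * (c * d * (c.1 : X)⁻¹) * c := by group
      rwa [e, h.comm (inv_mem c.1.2) (hD hd), inv_mul_cancel_right]
  · have h6 := mul_mem (hD ((mem_normalizer_iff''.1 hn _).1 (mem_subgroupOf.1 c.2))) ha
    rw [hφ] at h6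
    convert h6 using 1
    rw [mul_inv_rev, mul_inv_rev, h.inv c.1.2, hbd, mul_inv_rev, mul_inv_rev, h.inv ha]
    calc _ = n⁻¹ * c * n * a * n⁻¹ * c * n * (a * a) := by rw [h.hex a ha]; group
      _ = _ := by group

end Hyp

theorem arith : ∀ k ≤ 20, 2 ^ k - 1 ∣ 2 ^ 36 * 3 ^ 6 * 5 * 7 * 11 → k ≤ 6 := by decide

theorem final {X : Type*} [Group X] [Finite X] (A H : Subgroup X)
    (hH : H = Subgroup.normalizer (A : Set X)) (hA : Nat.card A = 2 ^ 20)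
    (hex : ∀ a ∈ A, a * a = 1)
    (ctl : ∀ x ∈ H, orderOf x = 3 → ∀ g : X, g * x * g⁻¹ ∈ H → g ∈ H)
    (h1 : ∀ a ∈ A, ∃ x ∈ H, orderOf x = 3 ∧ x * a = a * x)
    (h2 : ∀ D : Subgroup X, D ≤ A → Nat.card D = 2 ^ 19 → ∃ x ∈ H, ∃ y ∈ H, x * y = y * x ∧
      orderOf x = 3 ∧ orderOf y = 3 ∧ orderOf (x * y) = 3 ∧ orderOf (x * y⁻¹) = 3 ∧
      (∀ d ∈ D, x * d * x⁻¹ ∈ D) ∧ (∀ d ∈ D, y * d * y⁻¹ ∈ D))
    (h3 : ∀ U : Subgroup X, U ≤ H → (∀ u ∈ U, u * u = 1) →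
      (∀ u ∈ U, u ∉ A → ∀ x ∈ H, orderOf x = 3 → x * u ≠ u * x) →
      Nat.card U ≤ 16 * Nat.card ↥(U ⊓ A) ∧ (¬ U ≤ A → Nat.card ↥(U ⊓ A) < 2 ^ 12))
    (h4 : ∀ x ∈ H, (orderOf x).Prime → orderOf x ≠ 2 →
      Nat.card ↥(A ⊓ Subgroup.centralizer {x}) < 2 ^ 14)
    (h5 : Nat.card H ∣ 2 ^ 36 * 3 ^ 6 * 5 * 7 * 11) : H = ⊤ := by
  have h : Hyp A H := ⟨hH, hA, hex, ctl, h1, h3⟩
  by_contra hne
  obtain ⟨D, ⟨hD, hC⟩, hmax⟩ := (wellFounded_gt (α := Subgroup X)).has_min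
    {D : Subgroup X | D ≤ A ∧ ¬ centralizer (D : Set X) ≤ H} ⟨⊥, bot_le, fun e => hne
      (eq_top_iff.2 fun g _ => e (mem_centralizer_iff.2 fun d hd => by simp [mem_bot.1 hd]))⟩
  have hM : ∀ a ∈ A, a ∉ D → ∀ w, (∀ d ∈ D, w * d = d * w) → w * a = a * w → w ∈ H := by
    intro a ha haD w hw hwa
    have h6 : centralizer ((D ⊔ zpowers a : Subgroup X) : Set X) ≤ H := by_contra fun e =>
      hmax _ ⟨sup_le hD (zpowers_le.2 ha), e⟩ (lt_of_le_of_ne le_sup_left fun e' =>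
        haD (e'.ge (mem_sup_right (mem_zpowers a))))
    refine h6 (mem_centralizer_iff.2 fun d hd => mem_centralizer_singleton_iff.1
      ((sup_le (fun d hd => ?_) (zpowers_le.2 ?_) : D ⊔ zpowers a ≤ centralizer {w}) hd))
    · exact mem_centralizer_singleton_iff.2 (hw d hd).symm
    · exact mem_centralizer_singleton_iff.2 hwa.symm
  have hAC : A ≤ centralizer (D : Set X) := fun a ha =>
    mem_centralizer_iff.2 fun d hd => h.comm (hD hd) ha
  have hCN : centralizer (D : Set X) ≤ normalizer (D : Set X) := centralizer_le_normalizer _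
  let N := normalizer (D : Set X)
  let π := QuotientGroup.mk' (D.subgroupOf N)
  have hs : Function.Surjective π := QuotientGroup.mk'_surjective _
  have hπ : ∀ n : N, π n = 1 ↔ (n : X) ∈ D := fun n => QuotientGroup.eq_one_iff n
  let im : Subgroup X → Subgroup (N ⧸ D.subgroupOf N) := fun S => (S.subgroupOf N).map π
  have him : ∀ {S : Subgroup X}, D ≤ S → ∀ n : N, π n ∈ im S ↔ (n : X) ∈ S := fun hS n =>
    ⟨fun ⟨m, hm, e⟩ => by
      have := hS ((hπ (m⁻¹ * n)).1 (by rw [map_mul, map_inv, e, inv_mul_cancel]))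
      exact (mul_mem_cancel_left (inv_mem hm)).1 this, fun hn => ⟨n, hn, rfl⟩⟩
  have hDH := hD.trans h.le
  have hti : TI (im A) (im H) := by
    refine ⟨map_mono (comap_mono h.le), ?_, ?_, fun g => ?_, fun g hg => ?_⟩
    · rintro _ ⟨a, ha, rfl⟩
      rw [← map_mul, show a * a = 1 from Subtype.ext (hex a ha), map_one]
    · rintro _ ⟨k, hk, rfl⟩ _ ⟨a, ha, rfl⟩
      exact ⟨k * a * k⁻¹, h.nrm hk ha, by simp⟩
    · obtain ⟨g, rfl⟩ := hs g
      rintro _ ⟨a, ha, rfl⟩ a1 e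
      rw [← map_inv, ← map_mul, ← map_mul, him hD] at e
      exact (him hDH g).2 (h.ti hD hM g.2 ha (mt (hπ a).2 a1) e)
    · obtain ⟨g, rfl⟩ := hs g
      rintro _ ⟨a, ha, rfl⟩ e
      rw [← map_inv, ← map_mul, ← map_mul, him hDH] at e
      exact (hπ a).2 (h.av hD hM g.2 (mt (him hDH g).2 hg) ha e)
  have hY : (im (centralizer (D : Set X))).Normal := Normal.map inferInstance π hs
  have hAY : im A ≤ im (centralizer (D : Set X)) := map_mono (comap_mono hAC)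
  obtain ⟨y, hyC, hyH⟩ := SetLike.not_le_iff_exists.1 hC
  have hy : π ⟨y, hCN hyC⟩ ∉ im H := mt (him hDH _).1 hyH
  have hc : Nat.card D * Nat.card (im A) = 2 ^ 20 := by
    rw [← hA, ← H9.card_mul_relIndex_of_le hD, ← relIndex_subgroupOf (hAC.trans hCN),
      ← relIndex_ker, QuotientGroup.ker_mk']
  have hodd : 2 ^ 14 ≤ Nat.card D → ∀ w ∈ im H, w ∈ im (centralizer (D : Set X)) →
      ∀ l : ℕ, l.Prime → l ≠ 2 → ¬ l ∣ orderOf w := fun hd w hw hw' l hl l2 e => by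
    obtain ⟨w, rfl⟩ := hs w
    obtain ⟨k, hk⟩ := H9.exists_orderOf_eq_of_map π e
    rw [← orderOf_coe] at hk
    have h6 := h4 ((w ^ k : N) : X) (pow_mem ((him hDH w).1 hw) k) (hk ▸ hl) (hk ▸ l2)
    have h7 : D ≤ A ⊓ centralizer {((w ^ k : N) : X)} := fun d hd => mem_inf.2 ⟨hD hd,
      mem_centralizer_singleton_iff.2 (mem_centralizer_iff.1
        (pow_mem ((him (hD.trans hAC) w).1 hw') k) d hd)⟩
    have := card_le_of_le h7
    omega
  obtain ⟨k, hk, hk'⟩ := (Nat.dvd_prime_pow Nat.prime_two).1 (Dvd.intro_left _ hc)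
  have hd : Nat.card D = 2 ^ (20 - k) := Nat.eq_of_mul_eq_mul_right (pow_pos two_pos k) (by
    rw [← pow_add, Nat.sub_add_cancel hk, ← hk', hc])
  have k0 : k ≠ 0 := by
    rintro rfl
    rw [eq_of_le_of_card_ge hD (by rw [hd, hA])] at hC
    exact hC (hH ▸ centralizer_le_normalizer _)
  by_cases k1 : k = 1
  · subst k1
    obtain ⟨x, hx, z, hz, hxz, x3, z3, xz3, xz3', hxD, hzD⟩ := h2 D hD hd
    let E := closure {x, z}
    have hE : ∀ S : Subgroup X, x ∈ S → z ∈ S → E ≤ S := fun S h h' =>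
      (closure_le _).2 (by simp [Set.insert_subset_iff, h, h'])
    have xE : x ∈ E := subset_closure (by simp)
    have zE : z ∈ E := subset_closure (by simp)
    have hab : ∀ a ∈ E, ∀ b ∈ E, a * b = b * a := fun a ha b hb =>
      mem_centralizer_singleton_iff.1 (hE (centralizer {b})
        (mem_centralizer_singleton_iff.2 (mem_centralizer_singleton_iff.1 (hE (centralizer {x})
          (mem_centralizer_singleton_iff.2 rfl) (mem_centralizer_singleton_iff.2 hxz.symm) hb)).symm)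
        (mem_centralizer_singleton_iff.2 (mem_centralizer_singleton_iff.1 (hE (centralizer {z})
          (mem_centralizer_singleton_iff.2 hxz) (mem_centralizer_singleton_iff.2 rfl) hb)).symm) ha)
    have h33 : ∀ e ∈ E, e ^ 3 = 1 := fun e he => by
      induction he using closure_induction with
      | mem a ha =>
        rcases ha with rfl | rfl
        exacts [x3 ▸ pow_orderOf_eq_one a, z3 ▸ pow_orderOf_eq_one a]
      | one => simp
      | mul a b ha hb iha ihb => rw [Commute.mul_pow (hab a ha b hb), iha, ihb, mul_one]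
      | inv a _ ih => rw [inv_pow, ih, inv_one]
    have hEN : E ≤ N := hE N (mem_normalizer_fintype hxD) (mem_normalizer_fintype hzD)
    have hn : ∀ n : N, orderOf (n : X) = 3 → π n ≠ 1 := fun n n3 e => by
      have := orderOf_dvd_of_pow_eq_one (n := 2) ((sq _).trans (hex _ (hD ((hπ n).1 e))))
      rw [n3] at this
      omega
    refine hy ((hti.top hAY hk' (fun w hw hw' ho => ?_) (E := im E) ⟨⟨?_⟩⟩ ?_ ?_).ge (mem_top _))
    · by_contra w1
      obtain ⟨l, hl, e⟩ := Nat.exists_prime_and_dvd (mt orderOf_eq_one_iff.1 w1)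
      refine hodd (by rw [hd]; norm_num) w hw hw' l hl ?_ e
      rintro rfl
      exact (Nat.not_even_iff_odd.2 ho) (even_iff_two_dvd.2 e)
    · rintro ⟨_, a, ha, rfl⟩ ⟨_, b, hb, rfl⟩
      exact Subtype.ext (show π a * π b = π b * π a by
        rw [← map_mul, ← map_mul, show a * b = b * a from Subtype.ext (hab a ha b hb)])
    · rintro ⟨⟨⟨_, g, hg, rfl⟩, hgen⟩⟩
      have g3 : π g ^ (3 : ℤ) = 1 := by
        rw [← map_zpow, show g ^ (3 : ℤ) = 1 from Subtype.ext (by simpa using h33 g hg), map_one]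
      obtain ⟨i, hi⟩ := hgen ⟨π ⟨x, hEN xE⟩, _, xE, rfl⟩
      obtain ⟨j, hj⟩ := hgen ⟨π ⟨z, hEN zE⟩, _, zE, rfl⟩
      replace hi : π g ^ i = π ⟨x, hEN xE⟩ := congrArg Subtype.val hi
      replace hj : π g ^ j = π ⟨z, hEN zE⟩ := congrArg Subtype.val hj
      have key : ∀ (m : ℤ) (n : N), orderOf (n : X) = 3 → π g ^ m = π n → m % 3 ≠ 0 :=
        fun m n n3 e e' => hn n n3 (by rw [← e, zpow_eq_zpow_emod m g3, e', zpow_zero])
      have e1 := key i _ x3 hi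
      have e2 := key j _ z3 hj
      have e3 := key (i + j) (⟨x, hEN xE⟩ * ⟨z, hEN zE⟩) xz3 (by rw [zpow_add, hi, hj, map_mul])
      have e4 := key (i - j) (⟨x, hEN xE⟩ * ⟨z, hEN zE⟩⁻¹) xz3' (by
        rw [zpow_sub, hi, hj, map_mul, map_inv])
      rcases (by omega : i % 3 = 1 ∨ i % 3 = 2) with e5 | e5 <;>
        rcases (by omega : j % 3 = 1 ∨ j % 3 = 2) with e6 | e6 <;> omega
    · rintro _ ⟨e, he, rfl⟩ e1 w hw
      obtain ⟨w, rfl⟩ := hs w
      have eH : (e : X) ∈ H := hE H hx hz he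
      refine (him hDH w).2 (ctl e eH (orderOf_eq_prime (h33 e he) fun e' => e1 (by
        rw [show e = 1 from Subtype.ext e', map_one])) w ((him hDH (w * e * w⁻¹)).1 ?_))
      rw [map_mul, map_mul, hw, map_inv, mul_inv_cancel_right]
      exact (him hDH e).2 eH
  have h6 := hti.dvd hAY hy (by
    rw [← one_lt_card_iff_ne_bot, hk']; exact Nat.one_lt_two_pow k0)
  rw [hk'] at h6
  have h7 : 2 ^ k - 1 ∣ 2 ^ 36 * 3 ^ 6 * 5 * 7 * 11 := h6.trans ((card_dvd_of_le inf_le_left).trans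
    ((card_map_dvd _ _).trans ((card_comap_dvd_of_injective _ _ N.subtype_injective).trans h5)))
  have h8 : 2 ≤ k ∧ k ≤ 6 := ⟨by omega, arith k hk h7⟩
  have h9 : 2 ^ 2 ≤ 2 ^ k := Nat.pow_le_pow_right two_pos h8.1
  obtain ⟨l, hl, e⟩ := Nat.exists_prime_and_dvd (show 2 ^ k - 1 ≠ 1 by omega)
  obtain ⟨w, hw, hwl⟩ := H3.exists_orderOf_eq_mem hl (e.trans h6)
  refine hodd (hd ▸ Nat.pow_le_pow_right two_pos (by omega)) w hw.1 hw.2 l hl ?_ hwl.symm.dvd
  rintro rfl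
  have := (Nat.dvd_sub_iff_right (by omega) (dvd_pow_self 2 k0)).1 e
  omega

end Cfsg.Agent.H6.U6
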