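import Cfsg.Agent.H6.C12Chars
import Cfsg.Agent.L0.C12Def4

/-!
# The character-theoretic output for `|V| = 4`
-/

set_option autoImplicit false

namespace Cfsg.Agent.L0.C12

open Finset Subgroup

universe u

variable {G : Type u} [Group G] [Finite G] {x s : G} {V : Subgroup G}

theorem Chars.cross {d γ e b : ℕ} {y : G → ℕ} (k : Chars s V d γ e b y) {u u' : G}
    (hu : u * u = 1) (u1 : u ≠ 1) (hu' : u' * u' = 1) (u1' : u' ≠ 1) :
    y u * (fcl s V u' * Nat.card (centralizer ({u'} : Set G))) =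
      y u' * (fcl s V u * Nat.card (centralizer ({u} : Set G))) := by
  have f1 := k.form u u' hu u1 hu' u1'
  have f2 := k.form u' u' hu' u1' hu' u1'
  have p := k.pos u' hu' u1'
  have n0 : 0 < Nat.card G := Nat.card_pos
  have v0 : 0 < Nat.card V := Nat.card_pos
  refine Nat.eq_of_mul_eq_mul_left (show 0 < Nat.card V * Nat.card G * y u' by positivity) ?_
  zify at f1 f2 ⊢
  linear_combination (fcl s V u' * Nat.card (centralizer ({u'} : Set G)) : ℤ) * f1 -
    (fcl s V u * Nat.card (centralizer ({u} : Set G)) : ℤ) * f2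

theorem Ctx.c4 (c : Ctx x s V) (h : Nat.card V = 4) : C4 x s V := by
  classical
  have := Fintype.ofFinite G
  obtain ⟨d, γ, e, b, y, k⟩ := c.chars
  have yc : ∀ u v, IsConj u v → y u = y v := fun u v h => by
    obtain ⟨g, rfl⟩ := isConj_iff.1 h
    rw [k.conj]
  have hφ : ∀ v : V, ∃ w : V, v ≠ 1 → IsConj (v : G) (s * w) := fun v => by
    by_cases e : v = 1
    · exact ⟨1, fun e' => absurd e e'⟩
    · obtain ⟨w, hw, e'⟩ := k.fpos v (c.sq v.2) fun e' => e (Subtype.ext e')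
      exact ⟨⟨w, hw⟩, fun _ => e'⟩
  choose φ hφ using hφ
  set A : Finset V := univ.erase 1 with hA
  have mA : ∀ v, v ∈ A ↔ v ≠ 1 := fun v => by simp [hA]
  have cV : Fintype.card V = 4 := by rw [← Nat.card_eq_fintype_card, h]
  have cA : #A = 3 := by rw [hA, card_erase_of_mem (mem_univ _), card_univ, cV]
  have inj : ∀ a ∈ A, ∀ a' ∈ A, φ a = φ a' → a = a' := fun a ha a' ha' e => Subtype.ext
    (c.eq_of_isConj a.2 a'.2 ((hφ a ((mA a).1 ha)).trans (e ▸ (hφ a' ((mA a').1 ha')).symm)))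
  have cB : #(A.image φ) = 3 := by rw [card_image_of_injOn inj, cA]
  obtain ⟨w, hw⟩ : ∃ w, (A.image φ)ᶜ = {w} := card_eq_one.1 (by rw [card_compl, cB, cV])
  have mw : ∀ v, v = w ∨ ∃ a, a ≠ 1 ∧ φ a = v := fun v => by
    by_cases e : v ∈ A.image φ
    · obtain ⟨a, ha, e⟩ := mem_image.1 e
      exact Or.inr ⟨a, (mA a).1 ha, e⟩
    · exact Or.inl (mem_singleton.1 (hw ▸ mem_compl.2 e))
  have h1 := k.sumV
  have h2 := k.sumS
  rw [finsum_eq_sum_of_fintype, ← add_sum_erase _ _ (mem_univ 1), ← hA, h] at h1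
  rw [finsum_eq_sum_of_fintype, ← sum_compl_add_sum (A.image φ), hw, sum_singleton,
    sum_image inj, sum_congr rfl fun a ha => (yc _ _ (hφ a ((mA a).1 ha))).symm, h] at h2
  simp only [OneMemClass.coe_one, k.one] at h1
  have h3 : y (s * w) = 4 * e := by omega
  have h4 := k.lo w w.2
  have h5 := k.hi w w.2
  have bd : ∀ u, u * u = 1 → u ≠ 1 → 2 * b + e ≤ y u ∧ y u ≤ 4 * b + e := fun u hu u1 => by
    obtain ⟨v, hv, e⟩ := k.fpos u hu u1
    rw [yc _ _ e]
    exact ⟨k.lo v hv, k.hi v hv⟩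
  refine ⟨c, h, k.fpos, fun u u' hu u1 hu' u1' => ?_, fun n hn u hu u1 hz => ?_⟩
  · have e1 := k.cross hu u1 hu' u1'
    have b1 := bd u hu u1
    have b2 := bd u' hu' u1'
    have p := k.pos u' hu' u1'
    refine Nat.le_of_mul_le_mul_left ?_ p
    have : 4 * y u ≤ 7 * y u' := by omega
    nlinarith [Nat.mul_le_mul_right (fcl s V u' * Nat.card (centralizer ({u'} : Set G))) this]
  · obtain ⟨v, hv, e1⟩ := k.fpos u hu u1
    have nz : ∀ v : V, IsConj u (s * v) → v = w := fun v e => (mw v).resolve_right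
      fun ⟨a, ha, e'⟩ => hz a a.2 (e.trans (e' ▸ (hφ a ha).symm))
    obtain rfl : w = ⟨v, hv⟩ := (nz ⟨v, hv⟩ e1).symm
    have f1 : fcl s V u = 1 := Nat.card_eq_one_iff_exists.2
      ⟨⟨_, e1⟩, fun a => Subtype.ext (nz a a.2)⟩
    have f2 : ∀ a : V, a ≠ 1 → fcl s V a = 1 := fun a ha => Nat.card_eq_one_iff_exists.2
      ⟨⟨_, hφ a ha⟩, fun a' => Subtype.ext (by
        rcases mw a' with e | ⟨a'', ha'', e⟩
        · exact absurd (e1.trans (by simpa [e] using a'.2.symm)) (hz a a.2)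
        · rw [← e, show a'' = a from Subtype.ext (c.eq_of_isConj a''.2 a.2
            ((hφ a'' ha'').trans (e ▸ a'.2.symm)))])⟩
    have e2 : ∀ a ∈ A, y u * n = y a * Nat.card (centralizer ({u} : Set G)) := fun a ha => by
      have a1 : (a : G) ≠ 1 := fun e => (mA a).1 ha (Subtype.ext e)
      have := k.cross hu u1 (c.sq a.2) a1
      rwa [f1, f2 a ((mA a).1 ha), hn a a.2 a1, one_mul, one_mul] at this
    have e3 := sum_congr rfl e2
    rw [sum_const, cA, ← sum_mul, smul_eq_mul, yc _ _ e1, h3,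
      show ∑ a ∈ A, y a = 12 * b by omega] at e3
    have p := k.pos u hu u1
    rw [yc _ _ e1, h3] at p
    have b0 : 0 < b := by omega
    refine ⟨Nat.le_of_mul_le_mul_left ?_ b0, Nat.le_of_mul_le_mul_left ?_ b0⟩
    · nlinarith [Nat.mul_le_mul_right n (show 2 * b ≤ 3 * e by omega)]
    · nlinarith [Nat.mul_le_mul_right n (show 3 * e ≤ 4 * b by omega)]

end Cfsg.Agent.L0.C12
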