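import Cfsg.Agent.H1.ElDef

set_option autoImplicit false

namespace Cfsg.Agent.H1.El

section general
variable {G : Type*} [Group G] [Finite G]

theorem b_mem_norm {V : Subgroup G} {y : G} (h : ∀ v ∈ V, y * v * y⁻¹ ∈ V) :
    y ∈ Subgroup.normalizer (V : Set G) :=
  Subgroup.mem_normalizer_fintype (fun v hv => h v hv)

omit [Finite G] in
theorem b_of_pow {H : Subgroup G} {p : ℕ} (hp : p.Prime) {y : G} (hy : y ^ p = 1) {k : ℕ}
    (hk : ¬ p ∣ k) (h : y ^ k ∈ H) : y ∈ H := by
  have h1 : k.Coprime (orderOf y) :=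
    Nat.Coprime.coprime_dvd_right (orderOf_dvd_of_pow_eq_one hy)
      ((Nat.Prime.coprime_iff_not_dvd hp).2 hk).symm
  obtain ⟨m, hm⟩ := exists_pow_eq_self_of_coprime h1
  rw [← hm]; exact H.pow_mem h m

omit [Finite G] in
theorem b_eq_of_mem {H : Subgroup G} {p : ℕ} (hp : p.Prime) {y : G} (hy : y ^ p = 1) (hH : y ∉ H)
    {i j : ℕ} (hi : i < p) (hj : j < p) (h : (y ^ i)⁻¹ * y ^ j ∈ H) : i = j := by
  by_contra hne
  rcases lt_or_gt_of_ne hne with hl | hl
  · obtain ⟨d, rfl⟩ := Nat.exists_eq_add_of_lt hl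
    rw [add_assoc, pow_add, inv_mul_cancel_left] at h
    exact hH (b_of_pow hp hy (Nat.not_dvd_of_pos_of_lt (by omega) (by omega)) h)
  · obtain ⟨d, rfl⟩ := Nat.exists_eq_add_of_lt hl
    have h' := H.inv_mem h
    rw [mul_inv_rev, inv_inv, add_assoc, pow_add, inv_mul_cancel_left] at h'
    exact hH (b_of_pow hp hy (Nat.not_dvd_of_pos_of_lt (by omega) (by omega)) h')

omit [Finite G] in
/-- a point moved by an element of order `p` has `p` images -/
theorem b_le_card {Ω : Type*} [MulAction G Ω] {p : ℕ} (hp : p.Prime) {y : G} (hy : y ^ p = 1)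
    {S : Finset Ω} (hS : ∀ a ∈ S, y • a ∈ S) {a : Ω} (ha : a ∈ S) (hm : y • a ≠ a) :
    p ≤ S.card := by
  have hk : ∀ k : ℕ, y ^ k • a ∈ S := by
    intro k
    induction k with
    | zero => simpa using ha
    | succ k ih => rw [pow_succ', mul_smul]; exact hS _ ih
  have := Finset.card_le_card_of_injOn (s := Finset.range p) (t := S) (fun k => y ^ k • a)
    (fun k _ => hk k) (fun i hi j hj hij => by
      refine b_eq_of_mem (H := MulAction.stabilizer G a) hp hy hm (by simpa using hi)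
        (by simpa using hj) ?_
      rw [MulAction.mem_stabilizer_iff, mul_smul, inv_smul_eq_iff]
      exact hij.symm)
  simpa using this

/-- the elements normalising `V` and keeping the `V`-orbit of `a` -/
def bH {Ω : Type*} [MulAction G Ω] (V : Subgroup G) (a : Ω) : Subgroup G where
  carrier := {g | g ∈ Subgroup.normalizer (V : Set G) ∧ ∃ v ∈ V, v • a = g • a}
  one_mem' := ⟨Subgroup.one_mem _, 1, V.one_mem, rfl⟩
  mul_mem' := by
    rintro g h ⟨hg, v, hv, e1⟩ ⟨hh, w, hw, e2⟩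
    refine ⟨Subgroup.mul_mem _ hg hh, g * w * g⁻¹ * v,
      V.mul_mem ((Subgroup.mem_normalizer_iff.1 hg w).1 hw) hv, ?_⟩
    rw [mul_smul, e1, mul_smul, inv_smul_smul, mul_smul, e2, mul_smul]
  inv_mem' := by
    rintro g ⟨hg, v, hv, e1⟩
    refine ⟨Subgroup.inv_mem _ hg, g⁻¹ * v⁻¹ * g⁻¹⁻¹,
      (Subgroup.mem_normalizer_iff.1 (Subgroup.inv_mem _ hg) _).1 (V.inv_mem hv), ?_⟩
    rw [inv_inv, mul_smul, ← e1, mul_smul, inv_smul_smul]

/-- TR: `S` = generators, each of order dividing `p`, moving `< 2p` points of `O` -/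
theorem trn {Ω : Type*} [MulAction G Ω] [DecidableEq Ω] {p : ℕ} (hp : p.Prime) (S : Set G)
    (O : Finset Ω) (hS : ∀ y ∈ S, y ^ p = 1 ∧ (∀ a ∈ O, y • a ∈ O) ∧
      (O.filter fun a => y • a ≠ a).card < 2 * p)
    (tr : ∀ a ∈ O, ∀ b ∈ O, ∃ g ∈ Subgroup.closure S, g • a = b) (V : Subgroup G)
    (hn : ∀ y ∈ S, ∀ v ∈ V, y * v * y⁻¹ ∈ V) (inv : ∀ v ∈ V, ∀ a ∈ O, v • a ∈ O)
    (hmv : ∃ v ∈ V, ∃ a ∈ O, v • a ≠ a) : ∀ a ∈ O, ∀ b ∈ O, ∃ v ∈ V, v • a = b := by
  classical
  have hN : Subgroup.closure S ≤ Subgroup.normalizer (V : Set G) :=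
    (Subgroup.closure_le _).2 fun y hy => b_mem_norm (hn y hy)
  intro a ha b hb
  obtain ⟨v0, hv0, a0, ha0, hm0⟩ := hmv
  obtain ⟨g0, hg0, rfl⟩ := tr a0 ha0 a ha
  set a := g0 • a0 with ha_def
  have hv : g0 * v0 * g0⁻¹ ∈ V := (Subgroup.mem_normalizer_iff.1 (hN hg0) v0).1 hv0
  have hm : (g0 * v0 * g0⁻¹) • a ≠ a := by
    rw [ha_def, mul_smul, inv_smul_smul, mul_smul]
    exact fun h => hm0 (smul_left_cancel _ h)
  set v := g0 * v0 * g0⁻¹
  have hVH : V ≤ bH V a := fun w hw => ⟨Subgroup.le_normalizer hw, w, hw, rfl⟩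
  have hst : ∀ g ∈ Subgroup.normalizer (V : Set G), g • a = a → g ∈ bH V a :=
    fun g hg e => ⟨hg, 1, V.one_mem, by rw [one_smul, e]⟩
  have hle : Subgroup.closure S ≤ bH V a := by
    refine (Subgroup.closure_le _).2 fun y hy => ?_
    by_contra hH
    obtain ⟨hy1, hy2, hy3⟩ := hS y hy
    have hyN : y ∈ Subgroup.normalizer (V : Set G) := b_mem_norm (hn y hy)
    have key : ∀ (c d : G), c ∈ Subgroup.normalizer (V : Set G) →
        d ∈ Subgroup.normalizer (V : Set G) → ∀ w ∈ V, ∀ w' ∈ V, c • w • a = d • w' • a →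
        c⁻¹ * d ∈ bH V a := by
      intro c d hc hd w hw w' hw' e
      have h1 : w⁻¹ * (c⁻¹ * d) * w' ∈ bH V a := by
        refine hst _ (Subgroup.mul_mem _ (Subgroup.mul_mem _
          (Subgroup.le_normalizer (V.inv_mem hw)) (Subgroup.mul_mem _ (Subgroup.inv_mem _ hc) hd))
          (Subgroup.le_normalizer hw')) ?_
        rw [mul_smul, mul_smul, mul_smul, ← e, inv_smul_smul, inv_smul_smul]
      have h2 := Subgroup.mul_mem _ (Subgroup.mul_mem _ (hVH hw) h1) (hVH (V.inv_mem hw'))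
      simpa [mul_assoc] using h2
    have hk : ∀ c ∈ O, ∀ k : ℕ, y ^ k • c ∈ O := by
      intro c hc k
      induction k with
      | zero => simpa using hc
      | succ k ih => rw [pow_succ', mul_smul]; exact hy2 _ ih
    have hne : (1 : G) ≠ v := fun e => hm (by rw [← e, one_smul])
    have hW : ∀ w ∈ ({1, v} : Finset G), w ∈ V := by
      intro w hw
      rcases Finset.mem_insert.1 hw with rfl | hw
      · exact V.one_mem
      · rw [Finset.mem_singleton.1 hw]; exact hv
    have := Finset.card_le_card_of_injOn (s := Finset.range p ×ˢ ({1, v} : Finset G))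
      (t := O.filter fun a => y • a ≠ a) (fun t => y ^ t.1 • t.2 • a) (fun t ht => by
        have ht' := Finset.mem_product.1 (Finset.mem_coe.1 ht)
        refine Finset.mem_coe.2 (Finset.mem_filter.2 ⟨hk _ (inv _ (hW _ ht'.2) _ ha) _, fun e => ?_⟩)
        have e' : (1 : G) • t.2 • a = y • t.2 • a := by
          apply smul_left_cancel (y ^ t.1)
          rw [one_smul, ← mul_smul (y ^ t.1) y, ← pow_succ, pow_succ', mul_smul]
          exact e.symm
        have := key 1 y (Subgroup.one_mem _) hyN _ (hW _ ht'.2) _ (hW _ ht'.2) e'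
        exact hH (by simpa using this)) (fun s hs t ht e => by
        have hs' := Finset.mem_product.1 (Finset.mem_coe.1 hs)
        have ht' := Finset.mem_product.1 (Finset.mem_coe.1 ht)
        have h1 := b_eq_of_mem hp hy1 hH (Finset.mem_range.1 hs'.1) (Finset.mem_range.1 ht'.1)
          (key _ _ (Subgroup.pow_mem _ hyN _) (Subgroup.pow_mem _ hyN _) _ (hW _ hs'.2) _
            (hW _ ht'.2) e)
        have e2 : s.2 • a = t.2 • a := by
          have e' : y ^ s.1 • s.2 • a = y ^ t.1 • t.2 • a := e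
          rw [h1] at e'
          exact smul_left_cancel _ e'
        refine Prod.ext h1 ?_
        have hs2 := hs'.2
        have ht2 := ht'.2
        simp only [Finset.mem_insert, Finset.mem_singleton] at hs2 ht2
        rcases hs2 with h3 | h3 <;> rcases ht2 with h4 | h4
        · rw [h3, h4]
        · rw [h3, h4, one_smul] at e2; exact absurd e2.symm hm
        · rw [h3, h4, one_smul] at e2; exact absurd e2 hm
        · rw [h3, h4])
    rw [Finset.card_product, Finset.card_range, Finset.card_pair hne] at this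
    omega
  obtain ⟨g, hg, rfl⟩ := tr a ha b hb
  exact (hle hg).2

/-- CL -/
theorem cl {Ω : Type*} [MulAction G Ω] [DecidableEq Ω] {p q : ℕ} (hp : p.Prime) (hq : q.Prime)
    (q2 : q ≠ 2) (qp : q < p) (U : Subgroup G) (hU : ¬ p ∣ Nat.card U) (z : G) (hz : z ^ p = 1)
    (hn : ∀ u ∈ U, z * u * z⁻¹ ∈ U) (O : Finset Ω) (hO : O.card = 2 * q)
    (inv : ∀ u ∈ U, ∀ a ∈ O, u • a ∈ O) (tr : ∀ a ∈ O, ∀ b ∈ O, ∃ u ∈ U, u • a = b)
    (hf : ∃ a ∈ O, z • a = a) (hlt : (O.filter fun a => z • a = a).card < q) : False := by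
  classical
  have : Fact p.Prime := ⟨hp⟩
  have : Fact q.Prime := ⟨hq⟩
  obtain ⟨a, ha, hza⟩ := hf
  have hzN : z ∈ Subgroup.normalizer (U : Set G) := b_mem_norm hn
  let φ : MulAut U := U.normalizerMonoidHom ⟨z, hzN⟩
  have hφ : φ ^ p = 1 := by
    have : (⟨z, hzN⟩ : Subgroup.normalizer (U : Set G)) ^ p = 1 := Subtype.ext (by simpa using hz)
    simp only [φ]
    rw [← map_pow, this, map_one]
  have : Fintype (Sylow q U) := Fintype.ofFinite _
  obtain ⟨R0⟩ : Nonempty (Sylow q U) := inferInstance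
  have hc : ¬ p ∣ Fintype.card (Sylow q U) := by
    rw [← Nat.card_eq_fintype_card]
    exact fun h => hU (h.trans ((Sylow.card_dvd_index R0).trans (Subgroup.index_dvd_card _)))
  obtain ⟨R, hR⟩ := Equiv.Perm.exists_fixed_point_of_prime (n := 1) hc
    (σ := MulAction.toPermHom (MulAut U) (Sylow q U) φ) (by rw [pow_one, ← map_pow, hφ, map_one])
  have hR' : φ • R = R := hR
  have hRz : ∀ r : U, r ∈ (R : Subgroup U) → φ r ∈ (R : Subgroup U) := by
    intro r hr
    have : φ • r ∈ ((φ • R : Sylow q U) : Subgroup U) := by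
      rw [Sylow.pointwise_smul_def]
      exact Subgroup.smul_mem_pointwise_smul _ _ _ hr
    rwa [hR'] at this
  have hφv : ∀ r : U, ((φ r : U) : G) = z * r * z⁻¹ := fun r => rfl
  -- orbit of `a` under `U` and under `R`
  have hUo : (MulAction.stabilizer U a).index = 2 * q := by
    rw [MulAction.index_stabilizer, ← hO, ← Set.ncard_coe_finset]
    congr 1
    ext b
    constructor
    · rintro ⟨u, rfl⟩; exact inv _ u.2 _ ha
    · intro hb
      obtain ⟨u, hu, e⟩ := tr a ha b hb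
      exact ⟨⟨u, hu⟩, e⟩
  let S : Finset Ω := O.filter fun b => ∃ r ∈ (R : Subgroup U), r • a = b
  have hSo : MulAction.orbit (R : Subgroup U) a = (S : Set Ω) := by
    ext b
    constructor
    · rintro ⟨r, rfl⟩
      exact Finset.mem_coe.2 (Finset.mem_filter.2 ⟨inv _ r.1.2 _ ha, r.1, r.2, rfl⟩)
    · intro hb
      obtain ⟨-, r, hr, e⟩ := Finset.mem_filter.1 (Finset.mem_coe.1 hb)
      exact ⟨⟨r, hr⟩, e⟩
  have : Finite (MulAction.orbit (R : Subgroup U) a) := by rw [hSo]; infer_instance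
  obtain ⟨n, hn'⟩ := R.isPGroup'.card_orbit a
  rw [hSo, Nat.card_coe_set_eq, Set.ncard_coe_finset] at hn'
  have haS : a ∈ S := Finset.mem_filter.2 ⟨ha, 1, Subgroup.one_mem _, one_smul _ _⟩
  have hle : S.card ≤ 2 * q := hO ▸ Finset.card_le_card (Finset.filter_subset _ _)
  have h3 : 3 ≤ q := by have := hq.two_le; omega
  have hn1 : n = 1 := by
    rcases n with _ | _ | n
    · exfalso
      have hst : (R : Subgroup U) ≤ MulAction.stabilizer U a := fun r hr =>
        Finset.card_le_one.1 (by rw [hn']; simp) _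
          (Finset.mem_filter.2 ⟨inv _ r.2 _ ha, r, hr, rfl⟩) _ haS
      have := Subgroup.index_dvd_of_le hst
      rw [hUo] at this
      exact R.not_dvd_index ((Dvd.intro_left 2 rfl).trans this)
    · rfl
    · exfalso
      rw [hn', pow_succ, pow_succ] at hle
      have : 1 ≤ q ^ n := Nat.one_le_pow _ _ hq.pos
      have h4 : 3 * q ≤ q ^ n * q * q := Nat.mul_le_mul_right _ (by nlinarith)
      omega
  rw [hn1, pow_one] at hn'
  have hzS : ∀ b ∈ S, z • b ∈ S := by
    intro b hb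
    obtain ⟨-, r, hr, rfl⟩ := Finset.mem_filter.1 hb
    have e : φ r • a = z • r • a := by
      change ((φ r : U) : G) • a = z • (r : G) • a
      rw [hφv, mul_smul, mul_smul, inv_smul_eq_iff.2 hza.symm]
    exact Finset.mem_filter.2 ⟨e ▸ inv _ (φ r).2 _ ha, φ r, hRz r hr, e⟩
  have hsub : S ⊆ O.filter fun a => z • a = a := by
    intro b hb
    refine Finset.mem_filter.2 ⟨(Finset.mem_filter.1 hb).1, ?_⟩
    by_contra hm
    have := b_le_card hp hz hzS hb hm
    omega
  have := Finset.card_le_card hsub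
  omega

end general

end Cfsg.Agent.H1.El
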