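import Cfsg.Agent.H6.B22C
import Cfsg.Agent.H3.B22Col
import Cfsg.Agent.H9.M22e

/-! A simple group of order `443520` is the Mathieu group `M22`. -/

set_option autoImplicit false

namespace Cfsg.Agent.H6.B22

open Cfsg Cfsg.Agent.H2.D1 Cfsg.Agent.H3 Finset Subgroup
open scoped ComplexConjugate Classical

variable {G : Type*} [Group G] [Finite G] {p : ℕ} [hp : Fact p.Prime] {e : ℕ} {L : List Ent}

/-- A character of given degree. -/
noncomputable def ch (G : Type*) [Group G] [Finite G] (d : ℕ) : IrrCharacter G :=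
  if h : ∃ χ : IrrCharacter G, dg χ = d then h.choose else triv

theorem dg_ch {d : ℕ} (h : ∃ χ : IrrCharacter G, dg χ = d) : dg (ch G d) = d := by
  rw [ch, dif_pos h]
  exact h.choose_spec

/-- The number of characters of given degree. -/
noncomputable def nb (G : Type*) [Group G] [Finite G] (d : ℕ) : ℕ :=
  #{χ : IrrCharacter G | dg χ = d}

theorem sum_nb (d : ℕ) (c : ℂ) : ∑ χ : IrrCharacter G, (if dg χ = d then c else 0) = nb G d * c := by
  rw [← sum_filter, sum_const, nsmul_eq_mul, nb]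

omit [Finite G] in
theorem Reg.isPReg {g : G} (hg : Reg g) (h : p ∣ 385) : IsPReg p g :=
  (isPReg_iff_not_dvd hp.out).2 fun k => hp.out.one_lt.ne' (Nat.eq_one_of_dvd_coprimes hg k h)

namespace Bd

variable (a : Bd G p e 1 L)
include a

theorem mem {χ : IrrCharacter G} (h : ¬ p ∣ dg χ) : χ ∈ B0 p G :=
  by_contra fun k => h (a.h.dvd_dg a.hA k)

theorem dg_mem {χ : IrrCharacter G} (h : ¬ p ∣ dg χ) : dg χ = 1 ∨ dg χ ∈ L.map fun a => a.2.1 :=
  a.hL ▸ a.B.dg_mem a.hl (a.mem h)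

theorem sum_eq (f : Ent → ℂ) : ∑ χ ∈ a.B.R, f (a.B.ent χ) = (L.map f).sum := by
  rw [a.B.sum_R a.hl, ← congrArg (fun L => (L.map f).sum) a.hL, List.map_map]
  rfl

theorem nb_eq {d : ℕ} (h : ¬ p ∣ d) :
    nb G d = (if 1 = d then 1 else 0) + (L.map fun x => if x.2.1 = d then x.2.2 else 0).sum := by
  have h1 := a.B.sum (fun χ => if dg χ = d then 1 else 0) fun χ ψ e => by simp only [regF_dg e]
  have h2 := sum_nb (G := G) d 1
  rw [← sum_subset (subset_univ (B0 p G)) fun χ _ k =>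
      if_neg fun e : dg χ = d => k (a.mem (e ▸ h)), h1,
    sum_congr rfl fun χ hχ => by rw [a.B.dg_ent a.hl ((a.B.mem_R a.hl).1 hχ)],
    a.sum_eq fun x => x.2.2 * if x.2.1 = d then 1 else 0, dg_triv, mul_one] at h2
  apply Nat.cast_injective (R := ℂ)
  rw [← h2]
  simp [Nat.cast_list_sum, Function.comp_def]

theorem same {χ ψ : IrrCharacter G} (h : ¬ p ∣ dg χ) (hd : dg χ = dg ψ) (h1 : dg χ ≠ 1)
    (hL : L.Pairwise fun x y => ¬ (x.2.1 = dg χ ∧ y.2.1 = dg χ)) {g : G} (hg : IsPReg p g) :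
    (χ : G → ℂ) g = (ψ : G → ℂ) g := by
  rw [← a.hL, List.pairwise_map] at hL
  rcases a.B.cover' a.hl (a.mem h) with rfl | ⟨θ, h2, h3⟩
  · exact absurd dg_triv h1
  rcases a.B.cover' a.hl (a.mem (hd ▸ h)) with rfl | ⟨η, h4, h5⟩
  · exact absurd (hd.trans dg_triv) h1
  have : Std.Symm fun x y : IrrCharacter G =>
      ¬ ((a.B.ent x).2.1 = dg χ ∧ (a.B.ent y).2.1 = dg χ) := ⟨fun _ _ k k' => k k'.symm⟩
  obtain rfl : θ = η := by_contra fun k => hL.forall h2 h4 k
    ⟨by rw [← a.B.dg_ent a.hl h2, regF_dg h3], by rw [← a.B.dg_ent a.hl h4, hd, regF_dg h5]⟩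
  rw [h3 g hg, h5 g hg]

theorem lin {g : G} (hg : IsPReg p g) (h : ∀ χ : IrrCharacter G, (χ : G → ℂ) g =
    (ch G (dg χ) : G → ℂ) g) : (L.map fun x => (x.1 : ℂ) * (ch G x.2.1 : G → ℂ) g).sum = 1 := by
  rw [← a.sum_eq, ← a.B.lin a.h hg]
  exact sum_congr rfl fun χ hχ => by rw [h χ, a.B.dg_ent a.hl ((a.B.mem_R a.hl).1 hχ)]

theorem ord {g : G} (h : p ∣ orderOf g) : orderOf g = p := by
  have h1 : g ^ p = 1 := by_contra fun k => a.not_dvd (fun k' => a.h.nsq (by
    rw [orderOf_pow_of_dvd hp.out.ne_zero h] at k'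
    exact (sq p ▸ Nat.mul_dvd_of_dvd_div h k').trans (orderOf_dvd_natCard g))) k
    (h.trans (Subgroup.orderOf_dvd_natCard _ (mem_centralizer_singleton_iff.2
      (Commute.self_pow g p).eq)))
  exact Nat.dvd_antisymm (orderOf_dvd_of_pow_eq_one h1) h

end Bd

variable [NS G] (hn : Nat.card G = 443520)
include hn

theorem exists_tab : ∃ X : Fin 9 → IrrCharacter G, Tab X := by
  obtain ⟨e, e', ⟨a⟩, ⟨b⟩, ⟨c⟩⟩ := three_blocks hn
  have hd : ∀ χ : IrrCharacter G, dg χ = 1 ∨ ∃ i, dg χ = D i := fun χ => by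
    have h1 := dg_sq_le χ
    have h2 := a.dg_mem (χ := χ)
    have h3 := b.dg_mem (χ := χ)
    have h4 := c.dg_mem (χ := χ)
    have h5 := dg_pos χ
    simp only [List.map, List.mem_cons, List.not_mem_nil, Fin.exists_fin_succ, D,
      Matrix.cons_val_zero, Matrix.cons_val_succ, IsEmpty.exists_iff, or_false] at h2 h3 h4 ⊢
    have h6 : dg χ < 666 := by nlinarith
    omega
  have hs : ∀ F : ℕ → ℂ, ∑ χ : IrrCharacter G, F (dg χ) =
      nb G 1 * F 1 + ∑ i, nb G (D i) * F (D i) := fun F => by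
    simp only [← sum_nb]
    rw [sum_comm, ← sum_add_distrib]
    refine sum_congr rfl fun χ _ => ?_
    rcases hd χ with h | ⟨i, h⟩
    · simp [h, D_ne]
    · rw [h, if_neg (D_ne i).symm, sum_eq_single i (fun j _ k => if_neg fun k' => k (D_inj _ _ k').symm)
        (by simp), if_pos rfl, zero_add]
  have n1 : nb G 1 = 1 := a.nb_eq (by norm_num)
  have n8 : ∀ i : Fin 8, nb G (D i.castSucc) = M i.castSucc := fun i => by
    fin_cases i
    exacts [a.nb_eq (by decide), b.nb_eq (by decide), b.nb_eq (by decide), b.nb_eq (by decide),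
      c.nb_eq (by decide), a.nb_eq (by decide), c.nb_eq (by decide), a.nb_eq (by decide)]
  have n9 : ∀ i, nb G (D i) = M i := fun i => by
    refine i.lastCases ?_ n8
    have h1 := hs fun d => d ^ 2
    have h2 : ∑ χ : IrrCharacter G, (dg χ : ℂ) ^ 2 = Nat.card G := by exact_mod_cast sum_dg_sq
    rw [h2, hn, n1, Fin.sum_univ_castSucc] at h1
    simp only [n8] at h1
    have h3 : 443520 = 1 * 1 ^ 2 + (∑ i : Fin 8, M i.castSucc * D i.castSucc ^ 2 +
      nb G (D (Fin.last 8)) * D (Fin.last 8) ^ 2) := by exact_mod_cast h1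
    rw [show ∑ i : Fin 8, M i.castSucc * D i.castSucc ^ 2 = 295294 by decide,
      show D (Fin.last 8) ^ 2 = 148225 by decide] at h3
    change _ = 1
    omega
  have ex : ∀ i, dg (ch G (D i)) = D i := fun i => dg_ch (by
    obtain ⟨χ, h⟩ := card_pos.1 (show 0 < nb G (D i) by rw [n9]; revert i; decide)
    exact ⟨χ, (mem_filter.1 h).2⟩)
  have un : ∀ χ ψ : IrrCharacter G, nb G (dg χ) = 1 → dg ψ = dg χ → χ = ψ := fun χ ψ h k =>
    card_le_one.1 h.le _ (by simp) _ (by simp [k])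
  have sm : ∀ g, Reg g → ∀ χ : IrrCharacter G, (χ : G → ℂ) g = (ch G (dg χ) : G → ℂ) g := by
    intro g hg χ
    have h1 := dg_ch ⟨χ, rfl⟩
    by_cases k : dg χ = 45
    · exact b.same (by omega) h1.symm (by omega) (by rw [k]; decide) (hg.isPReg (by norm_num))
    by_cases k' : dg χ = 280
    · exact a.same (by omega) h1.symm (by omega) (by rw [k']; decide) (hg.isPReg (by norm_num))
    rw [← un χ _ ?_ h1]
    rcases hd χ with h | ⟨i, h⟩
    · rw [h, n1]
    · rw [h] at k k' ⊢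
      rw [n9]
      clear h
      revert i
      decide
  have t1 : ch G 1 = triv :=
    (un _ _ (by rw [dg_triv, n1]) (by rw [dg_triv, dg_ch ⟨_, dg_triv⟩])).symm
  refine ⟨fun i => ch G (D i), hn, fun i => by rw [dg_eq, ex], fun F hF => ?_, fun χ => ?_,
    fun g hg => ?_, fun g hg => ?_, fun g hg => ?_, fun g => ?_, fun t ht => ?_⟩
  · have := hs fun d => F (ch G d)
    simp only [n1, n9, t1, Nat.cast_one, one_mul] at this
    rw [← this]
    exact sum_congr rfl fun χ _ => hF _ _ fun g hg => sm g hg χ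
  · exact (hd χ).imp (fun h : dg χ = 1 => un _ _ (h ▸ n1) (h ▸ dg_triv)) fun ⟨i, h⟩ =>
      ⟨i, fun g hg => h ▸ sm g hg χ⟩
  · have := a.lin (hg.isPReg (by norm_num)) (sm g hg)
    simp only [List.map, List.sum_cons, List.sum_nil] at this
    push_cast at this
    change (ch G 21 : G → ℂ) g - 2 * (ch G 45 : G → ℂ) g - (ch G 210 : G → ℂ) g +
      (ch G 280 : G → ℂ) g = 1
    linear_combination this
  · have := b.lin (hg.isPReg (by norm_num)) (sm g hg)
    simp only [List.map, List.sum_cons, List.sum_nil] at this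
    push_cast at this
    change (ch G 45 : G → ℂ) g + (ch G 55 : G → ℂ) g - (ch G 99 : G → ℂ) g = 1
    linear_combination this
  · have := c.lin (hg.isPReg (by norm_num)) (sm g hg)
    simp only [List.map, List.sum_cons, List.sum_nil] at this
    push_cast at this
    change (ch G 99 : G → ℂ) g + (ch G 154 : G → ℂ) g - (ch G 21 : G → ℂ) g -
      (ch G 231 : G → ℂ) g = 1
    linear_combination this
  · by_cases h5 : 5 ∣ orderOf g
    · simp [c.ord h5]
    by_cases h7 : 7 ∣ orderOf g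
    · simp [b.ord h7]
    by_cases h11 : 11 ∣ orderOf g
    · simp [a.ord h11]
    exact Or.inl (Nat.Coprime.mul_right (Nat.Coprime.mul_right
      ((Nat.Prime.coprime_iff_not_dvd (p := 5) (by norm_num)).2 h5).symm
      ((Nat.Prime.coprime_iff_not_dvd (p := 7) (by norm_num)).2 h7).symm)
      ((Nat.Prime.coprime_iff_not_dvd (p := 11) (by norm_num)).2 h11).symm)
  · obtain ⟨I, -, h1, h2⟩ := formula a.h a.B hn ht
    have rt : Reg t := (Nat.Coprime.coprime_dvd_left (orderOf_dvd_of_pow_eq_one (n := 2)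
      (by rw [sq, ht])) (by norm_num))
    have h3 := a.sum_eq fun x => (x.1 * yv t (ch G x.2.1) ^ 2 * (443520 / x.2.1 : ℕ) : ℤ)
    rw [h1 (by rw [a.he]), a.hA, sum_congr rfl fun χ hχ => by
      rw [show yv t χ = yv t (ch G (a.B.ent χ).2.1) from yv_eq (by
        rw [sm t rt χ, a.B.dg_ent a.hl ((a.B.mem_R a.hl).1 hχ), yv_spec ht])]] at h2
    simp only [List.map, List.sum_cons, List.sum_nil] at h3
    norm_cast at h3
    rw [h3] at h2
    change 2520 - 120 * yv t (ch G 21) ^ 2 + 112 * yv t (ch G 45) ^ 2 +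
      12 * yv t (ch G 210) ^ 2 - 9 * yv t (ch G 280) ^ 2 = 0
    norm_num [show Int.negSucc 0 = -1 from rfl] at h2
    linarith

/-- A simple group of order `443520` is `M22`. -/
theorem b22 : Nonempty (G ≃* Spor.M22) :=
  let ⟨_, h⟩ := exists_tab hn
  h.h22.iso Ma.H22_M22

end Cfsg.Agent.H6.B22
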