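import Cfsg.Agent.H2.D1Ext

/-! The character theoretic skeleton of a simple group of order `443520`. -/

set_option autoImplicit false

namespace Cfsg.Agent.H6.B22

open Cfsg Cfsg.Agent.H2.D1 Finset Subgroup

variable {G : Type*} [Group G] [Finite G]

/-- Elements of order prime to `5 * 7 * 11`. -/
def Reg (g : G) : Prop := (orderOf g).Coprime 385

/-- The degrees. -/
def D : Fin 9 → ℕ := ![21, 45, 55, 99, 154, 210, 231, 280, 385]

/-- The multiplicities. -/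
def M : Fin 9 → ℕ := ![1, 2, 1, 1, 1, 1, 1, 2, 1]

/-- The irreducible characters on the `{2, 3}`-elements. -/
structure Tab (X : Fin 9 → IrrCharacter G) : Prop where
  card : Nat.card G = 443520
  deg : ∀ i, (X i : G → ℂ) 1 = D i
  sum : ∀ F : IrrCharacter G → ℂ,
    (∀ χ ψ : IrrCharacter G, (∀ g, Reg g → (χ : G → ℂ) g = (ψ : G → ℂ) g) → F χ = F ψ) →
      ∑ χ, F χ = F triv + ∑ i, M i * F (X i)
  cover : ∀ χ : IrrCharacter G, χ = triv ∨ ∃ i, ∀ g, Reg g → (χ : G → ℂ) g = (X i : G → ℂ) g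
  l11 : ∀ g, Reg g →
    (X 0 : G → ℂ) g - 2 * (X 1 : G → ℂ) g - (X 5 : G → ℂ) g + (X 7 : G → ℂ) g = 1
  l7 : ∀ g, Reg g → (X 1 : G → ℂ) g + (X 2 : G → ℂ) g - (X 3 : G → ℂ) g = 1
  l5 : ∀ g, Reg g → (X 3 : G → ℂ) g + (X 4 : G → ℂ) g - (X 0 : G → ℂ) g - (X 6 : G → ℂ) g = 1
  ord : ∀ g : G, Reg g ∨ orderOf g = 5 ∨ orderOf g = 7 ∨ orderOf g = 11
  inv : ∀ t : G, t * t = 1 → 2520 - 120 * yv t (X 0) ^ 2 + 112 * yv t (X 1) ^ 2 +
    12 * yv t (X 5) ^ 2 - 9 * yv t (X 7) ^ 2 = 0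

end Cfsg.Agent.H6.B22
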