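import Cfsg.Agent.H6.B22S
import Cfsg.Agent.H6.B22Def
import Cfsg.Agent.H5.MtE

/-! Soundness of the searches for the order `443520`. -/

set_option autoImplicit false

namespace Cfsg.Agent.H6.B22

open Cfsg Cfsg.Agent.H2.D1 Cfsg.Agent.H3 Finset Subgroup
open scoped ComplexConjugate Classical

variable {G : Type*} [Group G] [Finite G] {p : ℕ} [hp : Fact p.Prime] {x : G}

theorem exists_conj_K (h : Ctx p x) {t : G} (ht : IsPReg p t)
    (hc : p ∣ Nat.card (centralizer ({t} : Set G))) : ∃ g, g * t * g⁻¹ ∈ h.K := by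
  obtain ⟨y, hy⟩ := exists_prime_orderOf_dvd_card' p hc
  obtain ⟨g, hg⟩ := h.exists_conj_mem (y := y) ⟨1, by
    rw [pow_one, ← orderOf_dvd_iff_pow_eq_one, orderOf_coe, hy]⟩
  have h1 : g * y * g⁻¹ ≠ 1 := fun e => hp.out.ne_one (by
    rw [← hy, orderOf_eq_one_iff]; simpa using e)
  have h2 : Commute (g * y * g⁻¹) (g * t * g⁻¹) := by
    have := mem_centralizer_singleton_iff.1 y.2
    simp only [Commute, SemiconjBy, _root_.conj_mul, this]
  exact ⟨g, h.mem_K.2 ⟨(h.comm_iff hg h1).1 h2, ht.conj g⟩⟩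

theorem cong_K (h : Ctx p x) {t : G} (ht : t * t = 1)
    (hc : p ∣ Nat.card (centralizer ({t} : Set G))) {χ : IrrCharacter G} (hχ : χ ∈ B0 p G) :
    (p : ℤ) ∣ dg χ - yv t χ := by
  obtain ⟨g, hg⟩ := exists_conj_K h (h.isPReg ht) hc
  have h1 := H5.MT.rad_sub (k := 1) hp.out (irr_isCharacter χ.2) (by rw [pow_one, h.pow_p])
    (h.mem_K.1 hg).1
  have h2 := H5.MT.cong_one hp.out (irr_isCharacter χ.2) h.pow_p
  rw [h.const hχ (mem_zpowers x) h.ne_one hg, char_isClassFunction (irr_isCharacter χ.2)] at h1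
  refine H9.FT.dvd_of_mem_radI hp.out ?_
  have := sub_mem h1 h2
  rw [sub_sub_sub_cancel_left, dg_eq, yv_spec ht] at this
  exact_mod_cast this

variable {e lo : ℕ}

/-- The entries with the values at `t`. -/
noncomputable def Vl (B : Blk p x e lo) (l : List (IrrCharacter G)) (t : G) : V :=
  l.map fun χ => (B.ent χ, yv t χ)

theorem Vl_fst (B : Blk p x e lo) (l : List (IrrCharacter G)) (t : G) :
    (Vl B l t).map Prod.fst = l.map B.ent := by simp [Vl]

theorem yv_one (χ : IrrCharacter G) : yv (1 : G) χ = dg χ := yv_eq (by simp [dg_eq])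

section
variable (h : Ctx p x) (B : Blk p x e lo) {l : List (IrrCharacter G)} (hl : l.Perm B.R.toList)
include hl

theorem Vl_one : Vl B l 1 = dv (l.map B.ent) := by
  rw [Vl, dv, List.map_map]
  exact List.map_congr_left fun χ hχ => by simp [yv_one, B.dg_ent hl hχ]

include h

theorem sumB {t : G} (ht : t * t = 1) (F : ℕ → ℤ → ℤ) : ∑ χ ∈ B0 p G, F (dg χ) (yv t χ) =
    F 1 1 + ((Vl B l t).map fun a => (a.1.2.2 : ℤ) * F a.1.2.1 a.2).sum := by
  have := B.sum (fun χ => F (dg χ) (yv t χ)) fun χ ψ e => by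
    simp only [regF_dg e, regF_yv ht h e]
  rw [dg_triv, yv_triv] at this
  rw [Vl, List.map_map, List.map_congr_left (g := fun χ => ((B.ent χ).2.2 : ℤ) *
    F (dg χ) (yv t χ)) fun χ hχ => by simp [B.dg_ent hl hχ], ← B.sum_R hl]
  exact_mod_cast this

omit hl in
include B in
theorem not_dvd_dg {χ : IrrCharacter G} (hχ : χ ∈ B0 p G) : ¬ p ∣ dg χ := by
  rcases B.cover χ hχ with rfl | ⟨θ, h1, h2⟩
  · rw [dg_triv]; exact fun e => hp.out.ne_one (Nat.dvd_one.1 e)
  · rw [regF_dg h2, dg_of (B.deg θ h1)]; exact B.not_dvd θ h1 h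

theorem cnt_eq {t : G} (ht : t * t = 1) {d : ℕ} (hd : d ≠ 1) (y : ℤ) :
    cnt (Vl B l t) d y = #{χ ∈ B0 p G | dg χ = d ∧ yv t χ = y} := by
  have := sumB h B hl ht fun a b => if a = d ∧ b = y then 1 else 0
  simp only [sum_boole, hd.symm, false_and, if_false, zero_add] at this
  refine Nat.cast_injective (R := ℤ) ?_
  rw [this, cnt, Nat.cast_list_sum, List.map_map]
  refine congrArg List.sum (List.map_congr_left fun a _ => ?_)
  by_cases e : a.1.2.1 = d ∧ a.2 = y
  · simp [e]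
  · simp only [Function.comp, e, if_false, mul_zero]
    rw [show (a.1.2.1 == d && a.2 == y) = false by simpa using e]
    rfl

theorem nrm_eq {t : G} (ht : t * t = 1) (q : ℕ) :
    (if q ∣ 1 then 1 else 0) + nrm q (Vl B l t) =
      ∑ χ ∈ B0 p G, if q ∣ dg χ then yv t χ ^ 2 else 0 := by
  rw [sumB h B hl ht fun a b => if q ∣ a then b ^ 2 else 0, one_pow, nrm]
  refine congrArg _ (congrArg List.sum (List.map_congr_left fun a _ => ?_))
  by_cases e : q ∣ a.1.2.1
  · simp [e, Nat.mod_eq_zero_of_dvd e]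
  · simp only [e, if_false, mul_zero]
    rw [show (a.1.2.1 % q == 0) = false by simpa [← Nat.dvd_iff_mod_eq_zero] using e]
    rfl

theorem central_sound {q : ℕ} (hq : q * (p * Nat.card h.K) = Nat.card G) :
    central q (l.map B.ent) = true := by
  have hi : (centralizer ({x} : Set G)).index = q := by
    have := (centralizer ({x} : Set G)).index_mul_card
    rw [h.card_C, ← hq] at this
    exact Nat.eq_of_mul_eq_mul_right (Nat.mul_pos hp.out.pos Nat.card_pos) this
  simp only [central, List.all_eq_true, List.mem_map, beq_iff_eq]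
  rintro _ ⟨θ, hθ, rfl⟩
  set d := (B.ent θ).2.1
  have d0 : 0 < d := (dg_pos θ).trans_eq (B.dg_ent hl hθ)
  by_cases d1 : d = 1
  · simp [d1]
  have h1 := B.sum' (fun χ => if dg χ = d then 1 else 0) (fun χ ψ e => by simp only [regF_dg e])
    x⁻¹ (inv_mem (mem_zpowers x)) (by simpa using h.ne_one)
  rw [dg_triv, if_neg (Ne.symm d1), zero_sub, B.sum_R hl] at h1
  have h2 : IsIntegral ℤ (∑ χ ∈ B0 p G, if dg χ = d then (q : ℂ) * (χ : G → ℂ) x / d else 0) :=
    IsIntegral.sum _ fun χ _ => by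
      split_ifs with e
      · have := isIntegral_centralChar χ.2 x
        rwa [hi, dg_eq, e] at this
      · exact isIntegral_zero
  refine Int.emod_eq_zero_of_dvd (int_dvd_of_isIntegral_div (by omega) ?_)
  convert h2.neg using 1
  have h3 : (((l.map B.ent).map fun b => bif b.2.1 == d then b.1 else 0).sum : ℤ) =
      ((l.map fun χ => ((B.ent χ).1 : ℂ) * if dg χ = d then 1 else 0).sum : ℂ) := by
    rw [List.map_map, Int.cast_list_sum, List.map_map]
    refine congrArg List.sum (List.map_congr_left fun χ hχ => ?_)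
    rw [B.dg_ent hl hχ]
    by_cases e : (B.ent χ).2.1 = d
    · simp [e]
    · simp [e, beq_eq_false_iff_ne.2 e]
  rw [Int.cast_mul, h3, ← neg_neg (List.sum _), ← h1, mul_neg, neg_div, mul_sum, sum_div]
  refine congrArg _ (sum_congr rfl fun χ _ => ?_)
  rw [char_inv (irr_isCharacter χ.2)]
  split_ifs <;> simp

end

theorem sub_sound {q : ℕ} [Fact q.Prime] {z : G} (h : Ctx p x) (h' : Ctx q z)
    (hA : Nat.card h'.K = 1) (B : Blk p x e lo) {e' lo' : ℕ} (B' : Blk q z e' lo')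
    {l l' : List (IrrCharacter G)} (hl : l.Perm B.R.toList) (hl' : l'.Perm B'.R.toList) {t : G}
    (ht : t * t = 1) [NS G] : sub q (Vl B l t) (Vl B' l' t) = true := by
  simp only [sub, List.all_eq_true, Bool.or_eq_true, beq_iff_eq, decide_eq_true_eq]
  intro a ha
  obtain ⟨χ, hχ, rfl⟩ := List.mem_map.1 ha
  have h1 := (B.mem_R hl).2 hχ
  have h2 : (B.ent χ).2.1 ≠ 1 := by have := two_le_deg (B.mem χ h1).2 (B.deg χ h1); omega
  refine or_iff_not_imp_left.2 fun e => ?_
  rw [cnt_eq h B hl ht h2, cnt_eq h' B' hl' ht h2]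
  refine card_le_card fun ψ hψ => mem_filter.2 ⟨?_, (mem_filter.1 hψ).2⟩
  by_contra k
  exact e (Nat.mod_eq_zero_of_dvd ((mem_filter.1 hψ).2.1 ▸ h'.dvd_dg hA k))

theorem norm3 {t : G} (ht : t * t = 1) {S T U : Finset (IrrCharacter G)} {p q a b : ℕ}
    (hS : ∀ χ ∈ S, ¬ p ∣ dg χ) (hT : ∀ χ ∈ T, ¬ q ∣ dg χ) (ha : p ∣ a) (hb : p ∣ b) (hq : q ∣ b) :
    ∑ χ ∈ S, (if 1 ∣ dg χ then yv t χ ^ 2 else 0) + ∑ χ ∈ T, (if a ∣ dg χ then yv t χ ^ 2 else 0) +
      ∑ χ ∈ U, (if b ∣ dg χ then yv t χ ^ 2 else 0) ≤ Nat.card (centralizer ({t} : Set G)) := by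
  have := sum_yv_yv ht ht
  rw [if_pos (IsConj.refl t)] at this
  rw [← this, ← sum_ite_mem_eq S, ← sum_ite_mem_eq T, ← sum_ite_mem_eq U, ← sum_add_distrib,
    ← sum_add_distrib]
  refine sum_le_sum fun χ _ => ?_
  have h0 := sq_nonneg (yv t χ)
  have h1 := fun h => hS χ h ∘ ha.trans
  have h2 := fun h => hS χ h ∘ hb.trans
  have h3 := fun h => hT χ h ∘ hq.trans
  rw [← sq]
  by_cases e1 : χ ∈ S <;> by_cases e2 : χ ∈ T <;> by_cases e3 : χ ∈ U <;>
    by_cases e4 : a ∣ dg χ <;> by_cases e5 : b ∣ dg χ <;> simp_all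

end Cfsg.Agent.H6.B22
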