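import Cfsg.Agent.H6.B22A

/-! Soundness of the searches for the order `443520`, II. -/

set_option autoImplicit false

namespace Cfsg.Agent.H6.B22

open Cfsg Cfsg.Agent.H2.D1 Cfsg.Agent.H3 Finset Subgroup
open scoped ComplexConjugate Classical

variable {G : Type*} [Group G] [Finite G] {p : ℕ} [hp : Fact p.Prime] {x : G} (h : Ctx p x)
  {lo : ℕ} (B : Blk p x (Nat.card h.H) lo) (hn : Nat.card G = 443520)
include hn

theorem formula {t : G} (t2 : t * t = 1) : ∃ I : ℕ, I ≤ Nat.card h.K ∧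
    (Nat.card h.H % 2 = 1 → I = 0) ∧
    (443520 - ∑ χ ∈ B.R, (B.ent χ).1 * yv t χ ^ 2 * (443520 / (B.ent χ).2.1 : ℕ)) * Nat.card h.K =
      ((p * (Nat.card (centralizer ({t} : Set G)) * I) ^ 2 : ℕ) : ℤ) := by
  have tr := h.isPReg t2
  obtain ⟨I, I1, I2, I3⟩ := h.inv_formula t2
  have h1 := I3 x (mem_zpowers x) h.ne_one
  rw [B.sum' _ (fun χ ψ e => by simp only [e t tr, e 1 (IsPReg.one p)]) x (mem_zpowers x)
    h.ne_one] at h1
  refine ⟨I, I1, fun e => I2.2 fun v _ hv => ?_, Int.cast_injective (α := ℂ) ?_⟩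
  · have := orderOf_dvd_natCard _ (h.neg_one_mem hv)
    rw [h.orderOf_neg_one] at this
    omega
  push_cast
  rw [← h1, hn, mul_right_comm, mul_sub, mul_sum]
  congr 2
  · simp
  refine sum_congr rfl fun χ hχ => ?_
  rw [yv_spec t2, show (443520 : ℤ) = (443520 : ℕ) from rfl, ← Int.natCast_div, Int.cast_natCast,
    Nat.cast_div (hn ▸ irr_degree_dvd_card χ.2 (B.deg χ hχ)) (B.deg χ hχ ▸ irr_one_ne_zero χ.2),
    B.deg χ hχ]
  ring

variable [NS G]

theorem invG_sound {l : List (IrrCharacter G)} (hl : l.Perm B.R.toList) {t : G}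
    (ht : orderOf t = 2) {ex : V → Bool} (hx : ex (Vl B l t) = true) :
    invG p (Nat.card h.H) (Nat.card h.K) (Nat.card (centralizer ({t} : Set G))) ex
      (l.map B.ent) = true := by
  have t1 : t ≠ 1 := by rintro rfl; simp at ht
  have t2 := sq_eq_one_of_orderOf ht
  have tr := h.isPReg t2
  set c := Nat.card (centralizer ({t} : Set G)) with hc
  simp only [invG, Bool.and_eq_true, beq_iff_eq, Bool.or_eq_true, bne_iff_ne]
  refine ⟨?_, Vl_fst B l t ▸ vs_sound _ _ _ _ _ (fun w hw => ?_) zero_le_one ?_ ?_ ?_⟩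
  · by_contra! e
    exact e.1 (Nat.mod_eq_zero_of_dvd (ht ▸ h.dvd_K tr (Nat.dvd_of_mod_eq_zero e.2)))
  · obtain ⟨χ, hχ, rfl⟩ := List.mem_map.1 hw
    have hχ' := (B.mem_R hl).2 hχ
    obtain ⟨k, k1, k2, k3⟩ := inv_val (B.mem χ hχ').2 (B.deg χ hχ') t2 t1
    have k4 := yv_eq k3
    refine ⟨?_, B.mu_pos χ hχ'⟩
    simp only [okv, Bool.and_eq_true, decide_eq_true_eq, beq_iff_eq]
    refine ⟨by omega, Int.emod_eq_zero_of_dvd ?_, Int.emod_eq_zero_of_dvd
      (int_dvd_of_isIntegral_div (by omega) ?_)⟩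
    · have k5 : (4 : ℤ) ∣ (B.ent χ).2.1 - yv t χ := ⟨k, by omega⟩
      by_cases e : c % p = 0
      · have k6 := cong_K h t2 (Nat.dvd_of_mod_eq_zero e) (B.mem χ hχ').1
        rw [B.dg_ent hl hχ] at k6
        rw [beq_iff_eq.2 e, cond_true, Nat.cast_mul]
        exact IsCoprime.mul_dvd (Nat.isCoprime_iff_coprime.2 (Nat.Coprime.pow_left 2
          ((Nat.coprime_primes Nat.prime_two hp.out).2 h.odd.symm))) k5 k6
      · rwa [beq_eq_false_iff_ne.2 e, cond_false]
    · have := isIntegral_centralChar χ.2 t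
      rw [yv_spec t2, B.deg χ hχ'] at this
      rw [← hn, ← (centralizer {t}).index_mul_card, ← hc, Nat.mul_div_cancel _ Nat.card_pos]
      exact_mod_cast this
  · have := B.lin h tr
    simp only [yv_spec t2] at this
    rw [Vl, List.map_map, ← B.sum_R hl, neg_add_eq_zero]
    exact_mod_cast this.symm
  · have := B.col_le tr
    simp only [yv_spec t2, Complex.norm_intCast, sq_abs] at this
    rw [Vl, List.map_map, ← B.sum_R hl]
    exact_mod_cast this
  · obtain ⟨I, I1, I2, h2⟩ := formula h B hn t2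
    rw [Vl, List.map_map, ← B.sum_R hl]
    simp only [Function.comp, Bool.and_eq_true, finI, h2, beq_iff_eq,
      List.any_eq_true, List.mem_range, Bool.or_eq_true, Bool.not_eq_true', bne_iff_ne]
    refine ⟨⟨Int.emod_eq_zero_of_dvd (Int.natCast_dvd_natCast.2 ⟨I ^ 2, by ring⟩), I, ?_, rfl,
      Or.inl trivial⟩, hx⟩
    split_ifs with e
    · rw [I2 e]; exact one_pos
    · omega

omit [NS G] in
theorem blk2_sound {e : ℕ} (B : Blk p x e lo) {q : ℕ} (hq : q * (p * Nat.card h.K) = Nat.card G)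
    {D : List ℕ} (hD : ∀ χ ∈ B.R, (B.ent χ).2.1 ∈ D)
    {lf : List Ent → Bool} (hl : ∀ l : List _, l.Perm B.R.toList → lf (l.map B.ent) = true) :
    ∃ i < 9, blk2 p e lo q i D lf = true ∧ blk2 p e lo q 9 D lf = true := by
  have hi : (centralizer ({x} : Set G)).index = q := by
    have := (centralizer ({x} : Set G)).index_mul_card
    rw [h.card_C, ← hq] at this
    exact Nat.eq_of_mul_eq_mul_right (Nat.mul_pos hp.out.pos Nat.card_pos) this
  have h0 := hn ▸ B.deg_le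
  have ho : (∀ χ ∈ B.N, χ ∈ B.R) → ∑ χ ∈ B.N, (B.ent χ).1 ^ 2 ≤ e → ∀ χ ∈ B.N.toList,
      (B.ent χ).2.2 = 1 ∧ (B.ent χ).1 ≠ 0 ∧ ((B.ent χ).1, (B.ent χ).2.1) ∈
        (opts p lo D (irange (rt e))).filter fun o : ℤ × ℕ => (q * o.1) % o.2 == 0 :=
      fun h1 h2 χ hχ => by
    rw [mem_toList] at hχ
    obtain ⟨h3, h4, m, h5, h6, h7⟩ := B.opt χ hχ
    refine ⟨h3, h4, List.mem_filter.2 ⟨List.mem_flatMap.2 ⟨_, hD χ (h1 χ hχ), List.mem_map.2
      ⟨_, List.mem_filter.2 ⟨mem_irange (le_rt ?_), by simpa [h4] using okm_sound h5 h6 h7 h7⟩,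
        rfl⟩⟩, beq_iff_eq.2 (Int.emod_eq_zero_of_dvd (int_dvd_of_isIntegral_div ?_ ?_))⟩⟩
    · have := (single_le_sum (f := fun χ => (B.ent χ).1 ^ 2) (fun _ _ => sq_nonneg _) hχ).trans h2
      zify
      rwa [sq_abs]
    · exact_mod_cast (dg_of (B.deg χ (h1 χ hχ)) ▸ dg_pos χ).ne'
    · have := (isIntegral_centralChar χ.2 x).neg
      rw [hi, B.val χ (h1 χ hχ) h3 x (mem_zpowers x) h.ne_one, B.deg χ (h1 χ hχ)] at this
      convert this using 1
      push_cast
      ring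
  have hs : ((B.N.toList.map fun χ => (B.ent χ).1.natAbs ^ 2).sum : ℤ) =
      ∑ χ ∈ B.N, (B.ent χ).1 ^ 2 := by simp
  have hs' : ∑ χ ∈ B.N, (B.ent χ).2.2 * (B.ent χ).2.1 ^ 2 = ∑ χ ∈ B.N, (B.ent χ).2.1 ^ 2 :=
    sum_congr rfl fun χ hχ => by rw [(B.opt χ hχ).1, one_mul]
  rcases B.enum with ⟨h1, h2, h3⟩ | ⟨θ, h1, t, b, ε, m, t2, h2, h3, h4, h5, h6, h7, h8, h9, h10, h11⟩
  · simp only [blk2, beq_iff_eq.2 h1, cond_true, and_self]
    refine ⟨0, by norm_num, go_sound B.ent _ B.N.toList [] _ _ (ho (fun χ hχ => h2 ▸ hχ) h3.le)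
      (by omega) ?_ fun l' h => hl l' (by simpa [h2] using h)⟩
    rwa [sum_map_toList, ← hs', ← h2]
  · have e0 : 0 < e := Nat.pos_of_ne_zero fun e0 => hp.out.ne_one (by rw [← h2, e0]; simp)
    have e1 : (p - 1) / e = t := by rw [← h2, Nat.add_sub_cancel, Nat.mul_div_cancel_left _ e0]
    have e2 : B.R = insert θ B.N := by ext χ; simp [h4]
    have e3 : 0 ≤ ∑ χ ∈ B.N, (B.ent χ).1 ^ 2 := sum_nonneg fun _ _ => sq_nonneg _
    have e4 : b ^ 2 ≤ (t - 1) * b ^ 2 := le_mul_of_one_le_left (sq_nonneg _) (by omega)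
    have e5 := sq_nonneg (b + ε)
    have e6 := sq_nonneg b
    have key : ∀ i, i = 9 ∨ (B.ent θ).2.1 % 9 = i → blk2 p e lo q i D lf = true := fun i hi => by
      simp only [blk2, beq_eq_false_iff_ne.2 (show e + 1 ≠ p by nlinarith), cond_false, e1,
        List.any_eq_true, Bool.and_eq_true, decide_eq_true_eq, Bool.or_eq_true, beq_iff_eq]
      refine ⟨b, mem_irange (le_rt (by zify; rw [sq_abs]; linarith)), ε, by simpa using h3,
        by linarith, (B.ent θ).2.1, hD θ ((h4 θ).2 (Or.inl rfl)), hi,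
        okm_sound h7 h8 h9 (by rwa [← add_assoc]), ?_⟩
      rw [show [(ε + t * b, (B.ent θ).2.1, t)] = [θ].map B.ent by rw [← h5, ← h6]; rfl]
      refine go_sound B.ent _ B.N.toList [θ] _ _ (ho (fun χ hχ => (h4 χ).2 (Or.inr hχ))
        (by linarith)) (by omega) ?_ fun l' h => hl l' (h.trans ?_)
      · rwa [e2, sum_insert h1, h6, hs', ← add_assoc, ← sum_map_toList] at h0
      · rw [e2]
        exact List.perm_append_comm.trans (toList_insert h1).symm
    exact ⟨_, Nat.mod_lt _ (by norm_num), key _ (Or.inr rfl), key _ (Or.inl rfl)⟩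

include h in
omit [NS G] in
theorem exists_chc : ∃ t : G, orderOf t = 2 ∧
    chc p (Nat.card h.K) (Nat.card (centralizer ({t} : Set G))) = true := by
  by_cases e : Nat.card h.K % 2 = 0
  swap
  · obtain ⟨T, t, -, h3, h4⟩ := Ctx.exists_central (G := G) (by rw [hn]; norm_num)
    refine ⟨t, h3, ?_⟩
    rw [chc, beq_eq_false_iff_ne.2 e, cond_false, beq_iff_eq]
    exact Nat.mod_eq_zero_of_dvd ((T.pow_dvd_card_of_pow_dvd_card (n := 7)
      (by rw [hn]; norm_num)).trans (card_dvd_of_le h4))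
  obtain ⟨T, t, -, h3, h4⟩ := Ctx.exists_central (G := h.K) (Nat.dvd_of_mod_eq_zero e)
  refine ⟨t, by rwa [orderOf_coe], ?_⟩
  let y : centralizer ({(t : G)} : Set G) :=
    ⟨x, mem_centralizer_singleton_iff.2 (h.mem_K.1 t.2).1⟩
  have hy : orderOf y = p := by rw [← orderOf_coe]; exact h.ord
  obtain ⟨f, n, f1, f2, -, f3, -⟩ := H5.MT.sylow_cyc hp.out hy fun k =>
    h.nsq (k.trans (card_subgroup_dvd_card _))
  set Z := (centralizer ({y} : Set _)).map (centralizer ({(t : G)} : Set G)).subtype with hZ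
  have z1 : Nat.card Z = Nat.card (centralizer ({y} : Set _)) := card_subtype _ _
  have z2 : Nat.card Z ∣ p * Nat.card h.K := by
    rw [← h.card_C]
    refine card_dvd_of_le ?_
    rintro _ ⟨g, hg, rfl⟩
    exact mem_centralizer_singleton_iff.2
      (congrArg Subtype.val (mem_centralizer_singleton_iff.1 hg))
  have z3 : p ∣ Nat.card Z := by
    rw [z1]
    exact hy.symm.dvd.trans (orderOf_dvd_natCard _ (mem_centralizer_singleton_iff.2 rfl))
  have z4 : (Nat.card h.K).gcd 128 ∣ Nat.card Z := by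
    obtain ⟨i, -, hi⟩ := (Nat.dvd_prime_pow Nat.prime_two).1
      (Nat.gcd_dvd_right (Nat.card h.K) (2 ^ 7))
    have h5 : 2 ^ i ∣ Nat.card T := T.pow_dvd_card_of_pow_dvd_card (hi ▸ Nat.gcd_dvd_left _ _)
    rw [show 128 = 2 ^ 7 from rfl, hi]
    refine (h5.trans (card_subtype h.K T).symm.dvd).trans (card_dvd_of_le ?_)
    rintro _ ⟨g, hg, rfl⟩
    exact ⟨⟨g, mem_centralizer_singleton_iff.2 (congrArg Subtype.val
      (mem_centralizer_singleton_iff.1 (h4 hg)))⟩, mem_centralizer_singleton_iff.2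
        (Subtype.ext (h.mem_K.1 g.2).1.symm), rfl⟩
  obtain ⟨j, hj⟩ := z3
  rw [← z1, hj] at f3
  rw [hj] at z2 z4
  have j1 : j ∣ Nat.card h.K := Nat.dvd_of_mul_dvd_mul_left hp.out.pos z2
  have j2 : (Nat.card h.K).gcd 128 ∣ j := (h.cop_K.coprime_dvd_left
    (Nat.gcd_dvd_left _ _)).dvd_of_dvd_mul_left z4
  have p1 := hp.out.one_lt
  have f0 : 0 < f := Nat.pos_of_dvd_of_pos f1 (by omega)
  have j0 : 0 < j := Nat.pos_of_dvd_of_pos j1 Nat.card_pos
  simp only [chc, beq_iff_eq.2 e, cond_true, sy, Bool.and_eq_true, beq_iff_eq, List.any_eq_true,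
    List.mem_range'_1, ← f3]
  refine ⟨Nat.mod_eq_zero_of_dvd (((mul_dvd_mul_left p j2).mul_left _).mul_left _), j,
    mem_DV (j1.trans (hn ▸ card_subgroup_dvd_card _)), Nat.mod_eq_zero_of_dvd j1,
    Nat.mod_eq_zero_of_dvd j2, f, ⟨f0, ?_⟩, Nat.mod_eq_zero_of_dvd f1, Nat.mul_mod_left _ _, ?_⟩
  · have := Nat.le_of_dvd (by omega) f1
    omega
  · rwa [Nat.mul_div_cancel _ (by positivity)]

theorem alive_sound (B : Blk p x (Nat.card h.H) (bif Nat.card h.K == 1 then 0 else 2)) {r : ℕ}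
    (hr : (Nat.card h.K).gcd r = 1) (h11 : r = 1 ∨ ∀ χ : IrrCharacter G,
      dg χ % 11 ∈ [0, 1, 5, 6, 10]) {t : G} (ht : orderOf t = 2)
    (hc : chc p (Nat.card h.K) (Nat.card (centralizer ({t} : Set G))) = true)
    (hc' : (Nat.card (centralizer ({t} : Set G))).gcd (r.gcd 11) = 1)
    {Q : ℕ → ℕ → List Ent → Bool}
    (hQ : alive p r (Nat.card h.H) 9 (fun A c L => !Q A c L) = false ∨
      ∀ i < 9, alive p r (Nat.card h.H) i (fun A c L => !Q A c L) = false) :
    ∃ l : List _, l.Perm B.R.toList ∧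
      Q (Nat.card h.K) (Nat.card (centralizer ({t} : Set G))) (l.map B.ent) = true := by
  by_contra! k
  have h1 := h.card_eq
  have p0 := hp.out.pos
  have e0 : 0 < Nat.card h.H := Nat.card_pos
  have A0 : 0 < Nat.card h.K := Nat.card_pos
  have h2 : 443520 / (p * Nat.card h.K) * (p * Nat.card h.K) = Nat.card G := by
    rw [hn]
    exact Nat.div_mul_cancel ⟨Nat.card (Sylow p G) * Nat.card h.H, by rw [← hn, ← h1]; ring⟩
  have h3 : 443520 = Nat.card (Sylow p G) * (p * Nat.card h.H * Nat.card h.K) := by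
    rw [← hn, ← h1]; ring
  obtain ⟨i, i1, i2, i3⟩ := blk2_sound h hn B h2 (D := DV.filter fun d => d % p != 0 &&
    (decide (2 ≤ d) && (decide (d < 666) && (r == 1 || [0, 1, 5, 6, 10].contains (d % 11)))))
    (fun χ hχ => by
      have e1 := dg_of (B.deg χ hχ)
      have e2 := B.deg_sq_lt χ hχ
      simp only [List.mem_filter, Bool.and_eq_true, bne_iff_ne, decide_eq_true_eq,
        Bool.or_eq_true, beq_iff_eq, List.contains_iff_mem]
      exact ⟨mem_DV (hn ▸ e1 ▸ dg_dvd χ), fun e => B.not_dvd χ hχ h (Nat.dvd_of_mod_eq_zero e),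
        two_le_deg (B.mem χ hχ).2 (B.deg χ hχ), by nlinarith, h11.imp_right fun e => e1 ▸ e χ⟩)
    (lf := fun L => (L.map fun a : Ent => a.1 * (a.2.1 : ℤ)).sum == 1 &&
      (central (443520 / (p * Nat.card h.K)) L && DV.any fun c => c.gcd (r.gcd 11) == 1 &&
        (chc p (Nat.card h.K) c && (!Q (Nat.card h.K) c L &&
          invG p (Nat.card h.H) (Nat.card h.K) c (fun _ => true) L)))) fun l hl => by
      simp only [Bool.and_eq_true, beq_iff_eq, List.any_eq_true]
      refine ⟨?_, central_sound h B hl h2, _, mem_DV (hn ▸ card_subgroup_dvd_card _), hc', hc,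
        by simpa using k l hl, invG_sound h B hn hl ht rfl⟩
      have := B.lin h (IsPReg.one p)
      rw [sum_congr rfl fun χ hχ => by rw [B.deg χ hχ]] at this
      rw [List.map_map, ← B.sum_R hl]
      exact_mod_cast this
  have key : ∀ i, blk2 p (Nat.card h.H) _ _ i _ _ = true →
      alive p r (Nat.card h.H) i (fun A c L => !Q A c L) = true := fun i hi => by
    simp only [alive, List.any_eq_true, Bool.and_eq_true, beq_iff_eq]
    refine ⟨_, mem_DV (hn ▸ card_subgroup_dvd_card h.K), ?_, ?_, hr, hi⟩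
    · rw [h3, Nat.mul_mod_left]
    · rw [h3, Nat.mul_div_cancel _ (by positivity)]
      exact Eq.trans (card_sylow_modEq_one p G) (Nat.mod_eq_of_lt hp.out.one_lt)
  rcases hQ with e | e
  · exact Bool.false_ne_true (e.symm.trans (key _ i3))
  · exact Bool.false_ne_true ((e i i1).symm.trans (key _ i2))

end Cfsg.Agent.H6.B22
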