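import Cfsg.Agent.H6.B22T

/-! Kernel computations for the order `443520`. -/

set_option autoImplicit false

namespace Cfsg.Agent.H6.B22

open Cfsg.Agent.H2.D1

theorem K11a : alive 11 1 2 9 (fun _ _ _ => true) = false := by decide +kernel

theorem K11b : alive 11 1 10 9 (fun _ _ _ => true) = false := by decide +kernel

/-- The search for `e = 5`. -/
def a5 (i : ℕ) : Bool :=
  alive 11 1 5 i fun A _ L => !(A == 1 && (PA.map Prod.fst ++ (PB ++ PC)).contains L)

theorem K11c0 : a5 0 = false := by decide +kernel

theorem K11c1 : a5 1 = false := by decide +kernel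

theorem K11c2 : a5 2 = false := by decide +kernel

theorem K11c3 : a5 3 = false := by decide +kernel

theorem K11c4 : a5 4 = false := by decide +kernel

theorem K11c5 : a5 5 = false := by decide +kernel

theorem K11c6 : a5 6 = false := by decide +kernel

theorem K11c7 : a5 7 = false := by decide +kernel

theorem K11c8 : a5 8 = false := by decide +kernel

theorem K11c (i : ℕ) (hi : i < 9) : a5 i = false := by
  interval_cases i
  exacts [K11c0, K11c1, K11c2, K11c3, K11c4, K11c5, K11c6, K11c7, K11c8]

end Cfsg.Agent.H6.B22
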