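import Cfsg.Agent.H6.B22T

/-! Kernel computations for the order `443520`. -/

set_option autoImplicit false

namespace Cfsg.Agent.H6.B22

open Cfsg.Agent.H2.D1

theorem K7a : alive 7 11 2 9 (fun A c L => !inT G7 2 A c L) = false := by decide +kernel

theorem K7b : alive 7 11 3 9 (fun A c L => !inT G7 3 A c L) = false := by decide +kernel

theorem K7c : alive 7 11 6 9 (fun A c L => !inT G7 6 A c L) = false := by decide +kernel

theorem K5a : alive 5 77 2 9 (fun A c L => !(inT G5 2 A c L ||
    !(A != 1 || G7.any fun X => sub 5 (dv X.2.2.1) (dv L)))) = false := by decide +kernel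

theorem K5b : alive 5 77 4 9 (fun A c L => !(inT G5 4 A c L ||
    !(A != 1 || G7.any fun X => sub 5 (dv X.2.2.1) (dv L)))) = false := by decide +kernel

end Cfsg.Agent.H6.B22
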