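import Cfsg.Agent.H6.B22T

/-! Kernel computations for the order `443520`. -/

set_option autoImplicit false

namespace Cfsg.Agent.H6.B22

open Cfsg.Agent.H2.D1

theorem KC : PC.all (fun P => !G7.any fun X => j2 7 X.2.1 443520 (dv P) (dv X.2.2.1) &&
    G5.any fun Y => j2 5 Y.2.1 443520 (dv P) (dv Y.2.2.1) &&
      j3 X.2.1 Y.2.1 443520 (dv P) (dv X.2.2.1) (dv Y.2.2.1)) = true := by decide +kernel

theorem KB : PB.all (fun P => !DV.any fun c => chc 11 1 c &&
    invG 11 5 1 c (fun _ => true) P) = true := by decide +kernel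

theorem mod11 : (PA.map Prod.fst ++ PC).all
    (fun P => P.all fun a => [0, 1, 5, 6, 10].contains (a.2.1 % 11)) = true := by decide +kernel

theorem KF : PA.all (fun P => G7.zipIdx.all fun X => !P.2.1.contains X.2 || G5.zipIdx.all fun Y =>
    !(P.2.2.contains Y.2 && f3 P.1 X.1 Y.1) ||
      (P.1 == [(-1, 210, 1), (-1, 45, 1), (-1, 45, 1), (1, 21, 1), (1, 280, 2)] &&
      (X.1.2.1 == 1 && (X.1.2.2.1 == [(-1, 99, 1), (1, 55, 1), (1, 45, 2)] && (Y.1.2.1 == 1 &&
        Y.1.2.2.1 == [(-1, 231, 1), (1, 154, 1), (1, 99, 1), (-1, 21, 1)]))))) = true := by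
  decide +kernel

end Cfsg.Agent.H6.B22
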