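import Cfsg.Agent.H6.B22T

/-! Kernel computations for the order `443520`. -/

set_option autoImplicit false

namespace Cfsg.Agent.H6.B22

open Cfsg.Agent.H2.D1

/-- The test with two blocks. -/
def fc (P : List Ent × List ℕ × List ℕ) : Bool :=
  DV.all fun c => !g2 P.1 (rows 7 c P.1 G7 P.2.1) (rows 5 c P.1 G5 P.2.2) c

theorem KA1 : (PA.take 9).all fc = true := by decide +kernel

theorem KA2 : ((PA.drop 9).take 8).all fc = true := by decide +kernel

theorem KA3 : (((PA.drop 9).drop 8).take 2).all fc = true := by decide +kernel

theorem KA4 : (((PA.drop 9).drop 8).drop 2).all fc = true := by decide +kernel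

theorem KA : PA.all fc = true := by
  rw [← List.take_append_drop 9 PA, ← List.take_append_drop 8 (PA.drop 9),
    ← List.take_append_drop 2 ((PA.drop 9).drop 8)]
  simp only [List.all_append, KA1, KA2, KA3, KA4, Bool.and_self]

end Cfsg.Agent.H6.B22
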