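import Cfsg.Agent.H6.B22B
import Cfsg.Agent.H6.B22K1
import Cfsg.Agent.H6.B22K2
import Cfsg.Agent.H6.B22K3
import Cfsg.Agent.H6.B22K4
import Cfsg.Agent.H2.D1Util

/-! The three principal blocks of a simple group of order `443520`. -/

set_option autoImplicit false

namespace Cfsg.Agent.H6.B22

open Cfsg Cfsg.Agent.H2.D1 Cfsg.Agent.H3 Finset Subgroup
open scoped ComplexConjugate Classical

instance instFact5 : Fact (Nat.Prime 5) := ⟨by norm_num⟩
instance instFact7 : Fact (Nat.Prime 7) := ⟨by norm_num⟩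
instance instFact11 : Fact (Nat.Prime 11) := ⟨by norm_num⟩

/-- A principal block with a listing of its characters. -/
structure Bd (G : Type*) [Group G] [Finite G] (p : ℕ) [Fact p.Prime] (e A : ℕ) (L : List Ent) where
  x : G
  h : Ctx p x
  lo : ℕ
  B : Blk p x (Nat.card h.H) lo
  l : List (IrrCharacter G)
  hl : l.Perm B.R.toList
  he : Nat.card h.H = e
  hA : Nat.card h.K = A
  hL : l.map B.ent = L

variable {G : Type*} [Group G] [Finite G] {p : ℕ} [hp : Fact p.Prime] {e A e' A' : ℕ}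
  {L P L' : List Ent} {t : G}

namespace Bd

/-- The values. -/
noncomputable def V (b : Bd G p e A L) (t : G) : B22.V := Vl b.B b.l t

theorem V_one (b : Bd G p e A L) : b.V 1 = dv L := by rw [V, Vl_one b.B b.hl, b.hL]

theorem nrm1 (b : Bd G p e A L) (ht : t * t = 1) :
    1 + nrm 1 (b.V t) = ∑ χ ∈ B0 p G, if 1 ∣ dg χ then yv t χ ^ 2 else 0 := by
  simpa only [dvd_refl, if_true, V] using nrm_eq b.h b.B b.hl ht 1

theorem nrmq (b : Bd G p e A L) (ht : t * t = 1) {q : ℕ} (hq : q ≠ 1) :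
    nrm q (b.V t) = ∑ χ ∈ B0 p G, if q ∣ dg χ then yv t χ ^ 2 else 0 := by
  simpa only [Nat.dvd_one, hq, if_false, zero_add, V] using nrm_eq b.h b.B b.hl ht q

theorem nd (b : Bd G p e A L) (χ : IrrCharacter G) (hχ : χ ∈ B0 p G) : ¬ p ∣ dg χ :=
  not_dvd_dg b.h b.B hχ

variable [NS G]

theorem sub' {q : ℕ} [Fact q.Prime] (b : Bd G p e A L) (b' : Bd G q e' A' L') (ht : t * t = 1) :
    (A' != 1 || sub q (b.V t) (b'.V t)) = true := by
  by_cases k : A' = 1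
  · rw [V, V, sub_sound b.h b'.h (b'.hA.trans k) b.B b'.B b.hl b'.hl ht, Bool.or_true]
  · simp [k]

theorem j2' (a : Bd G 11 5 1 P) (b : Bd G p e A L) (ht : t * t = 1) :
    j2 p A (Nat.card (centralizer ({t} : Set G))) (a.V t) (b.V t) = true := by
  have := norm3 ht (U := ∅) a.nd b.nd dvd_rfl (dvd_zero _) (dvd_zero _)
  rw [sum_empty, add_zero, ← a.nrm1 ht, ← b.nrmq ht (by norm_num)] at this
  simp only [j2, Bool.and_eq_true, decide_eq_true_eq]
  exact ⟨by simpa using b.sub' a ht, a.sub' b ht, this⟩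

theorem j3' (a : Bd G 11 5 1 P) (b : Bd G 7 e A L) (c : Bd G 5 e' A' L') (ht : t * t = 1) :
    j3 A A' (Nat.card (centralizer ({t} : Set G))) (a.V t) (b.V t) (c.V t) = true := by
  have h1 := norm3 ht (U := B0 5 G) (b := 77) a.nd b.nd dvd_rfl (by norm_num) (by norm_num)
  have h2 := norm3 ht (U := B0 7 G) (b := 55) a.nd c.nd dvd_rfl (by norm_num) (by norm_num)
  rw [← a.nrm1 ht, ← b.nrmq ht (by norm_num), ← c.nrmq ht (by norm_num)] at h1 h2
  simp only [j3, Bool.and_eq_true, decide_eq_true_eq]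
  exact ⟨b.sub' c ht, c.sub' b ht, h1, h2⟩

variable (hn : Nat.card G = 443520)
include hn

theorem inv' (b : Bd G p e A L) (ht : orderOf t = 2) {ex : B22.V → Bool} (hx : ex (b.V t) = true) :
    invG p e A (Nat.card (centralizer ({t} : Set G))) ex L = true := by
  have := invG_sound b.h b.B hn b.hl ht hx
  rw [b.hL, b.hA] at this
  exact b.he ▸ this

omit [NS G] in
theorem cent1 : Nat.card (centralizer ({1} : Set G)) = 443520 := by
  rw [show centralizer ({1} : Set G) = ⊤ by ext; simp [mem_centralizer_singleton_iff], card_top, hn]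

theorem j2d (a : Bd G 11 5 1 P) (b : Bd G p e A L) : j2 p A 443520 (dv P) (dv L) = true := by
  have := a.j2' b (one_mul 1)
  rwa [cent1 hn, V_one, V_one] at this

theorem j3d (a : Bd G 11 5 1 P) (b : Bd G 7 e A L) (c : Bd G 5 e' A' L') :
    j3 A A' 443520 (dv P) (dv L) (dv L') = true := by
  have := a.j3' b c (one_mul 1)
  rwa [cent1 hn, V_one, V_one, V_one] at this

end Bd

variable [NS G] (hn : Nat.card G = 443520)
include hn

theorem step11 : ∃ P ∈ PA.map Prod.fst ++ PC, Nonempty (Bd G 11 5 1 P) := by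
  obtain ⟨x, h⟩ := exists_ctx (G := G) (p := 11) (by norm_num) (by rw [hn]; norm_num)
    (by rw [hn]; norm_num)
  obtain ⟨B⟩ := h.exists_blk
  obtain ⟨t, ht, hc⟩ := exists_chc h hn
  have key := fun Q => alive_sound h hn B (r := 1) (by simp) (Or.inl rfl) ht hc (by simp) (Q := Q)
  have e1 : Nat.card h.H ∈ Nat.divisors 10 := Nat.mem_divisors.2
    ⟨⟨h.H.index, by have := h.card_H_mul; omega⟩, by norm_num⟩
  have e2 := h.two_le_e
  rw [show Nat.divisors 10 = {1, 2, 5, 10} by decide] at e1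
  simp only [mem_insert, mem_singleton] at e1
  rcases e1 with e | e | e | e
  · omega
  · obtain ⟨_, -, k⟩ := key (fun _ _ _ => false) (Or.inl (e ▸ K11a))
    simp at k
  · obtain ⟨l, hl, k⟩ := key (fun A _ L => A == 1 && (PA.map Prod.fst ++ (PB ++ PC)).contains L)
      (Or.inr (e ▸ K11c))
    simp only [Bool.and_eq_true, beq_iff_eq, List.contains_iff_mem, List.mem_append] at k
    let b : Bd G 11 5 1 _ := ⟨x, h, _, B, l, hl, e, k.1, rfl⟩
    refine ⟨_, List.mem_append.2 (k.2.imp_right fun k' => k'.resolve_left fun k' => ?_), ⟨b⟩⟩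
    have := List.all_eq_true.1 KB _ k'
    rw [List.any_eq_true.2 ⟨_, mem_DV (hn ▸ card_subgroup_dvd_card _), Bool.and_eq_true_iff.2
      ⟨k.1 ▸ hc, b.inv' hn ht rfl⟩⟩] at this
    simp at this
  · obtain ⟨_, -, k⟩ := key (fun _ _ _ => false) (Or.inl (e ▸ K11b))
    simp at k

omit [NS G] hn in
theorem Bd.not_dvd (a : Bd G p e 1 P) {g : G} (hg : ¬ p ∣ orderOf g) (h1 : g ≠ 1) :
    ¬ p ∣ Nat.card (centralizer ({g} : Set G)) :=
  fun k => h1 (a.h.eq_one a.hA ((isPReg_iff_not_dvd hp.out).2 hg) k)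

theorem step (a : Bd G 11 5 1 P) (hP : P ∈ PA.map Prod.fst ++ PC) {x : G} (h : Ctx p x) {r : ℕ}
    (hr : (Nat.card h.K).gcd r = 1) (h11 : r.gcd 11 = 11) {Q : ℕ → ℕ → ℕ → List Ent → Bool}
    (hQ : alive p r (Nat.card h.H) 9 (fun A c L => !Q (Nat.card h.H) A c L) = false) :
    ∃ L, ∃ t : G, orderOf t = 2 ∧ Nonempty (Bd G p (Nat.card h.H) (Nat.card h.K) L) ∧
      Q (Nat.card h.H) (Nat.card h.K) (Nat.card (centralizer ({t} : Set G))) L = true := by
  obtain ⟨B⟩ := h.exists_blk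
  obtain ⟨t, ht, hc⟩ := exists_chc h hn
  have h1 : ∀ χ : IrrCharacter G, dg χ % 11 ∈ [0, 1, 5, 6, 10] := fun χ => by
    by_cases k : χ ∈ B0 11 G
    · rcases a.B.dg_mem a.hl k with e | e
      · simp [e]
      · obtain ⟨b, hb, e⟩ := List.mem_map.1 e
        simpa [← e] using List.all_eq_true.1 (List.all_eq_true.1 mod11 P hP) b (a.hL ▸ hb)
    · simp [Nat.mod_eq_zero_of_dvd (a.h.dvd_dg a.hA k)]
  obtain ⟨l, hl, k⟩ := alive_sound h hn B hr (Or.inr h1) ht hc (by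
    rw [h11]
    exact ((Nat.Prime.coprime_iff_not_dvd (by norm_num)).2 (a.not_dvd (by rw [ht]; norm_num)
      (by rintro rfl; simp at ht))).symm) (Or.inl hQ)
  exact ⟨_, t, ht, ⟨⟨x, h, _, B, l, hl, rfl, rfl, rfl⟩⟩, k⟩

omit hp [NS G] hn in
theorem of_inT {T : List Row} {c : ℕ} (h : inT T e A c L = true) :
    ∃ cs, (e, A, L, cs) ∈ T ∧ c ∈ cs := by
  simp only [inT, List.any_eq_true, Bool.and_eq_true, beq_iff_eq, List.contains_iff_mem] at h
  obtain ⟨⟨_, _, _, cs⟩, h1, rfl, rfl, rfl, h2⟩ := h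
  exact ⟨cs, h1, h2⟩

omit [NS G] hn in
theorem Bd.not_dvd_K (a : Bd G 11 5 1 P) {x : G} (h : Ctx p x) (h11 : ¬ 11 ∣ p) :
    ¬ 11 ∣ Nat.card h.K := fun k =>
  a.not_dvd (h.ord ▸ h11) h.ne_one (h.card_C ▸ k.mul_left p)

theorem step7 (a : Bd G 11 5 1 P) (hP : P ∈ PA.map Prod.fst ++ PC) : ∃ X ∈ G7, ∃ t : G,
    orderOf t = 2 ∧ Nat.card (centralizer ({t} : Set G)) ∈ X.2.2.2 ∧
      Nonempty (Bd G 7 X.1 X.2.1 X.2.2.1) := by
  obtain ⟨x, h⟩ := exists_ctx (G := G) (p := 7) (by norm_num) (by rw [hn]; norm_num)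
    (by rw [hn]; norm_num)
  have e1 : Nat.card h.H ∈ Nat.divisors 6 := Nat.mem_divisors.2
    ⟨⟨h.H.index, by have := h.card_H_mul; omega⟩, by norm_num⟩
  have e2 := h.two_le_e
  rw [show Nat.divisors 6 = {1, 2, 3, 6} by decide] at e1
  simp only [mem_insert, mem_singleton] at e1
  obtain ⟨L, t, ht, b, k⟩ := step hn a hP h (r := 11) ((Nat.Prime.coprime_iff_not_dvd
    (by norm_num)).2 (a.not_dvd_K h (by norm_num))).symm rfl (Q := inT G7) (by
      rcases e1 with e | e | e | e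
      exacts [by omega, e ▸ K7a, e ▸ K7b, e ▸ K7c])
  obtain ⟨cs, h1, h2⟩ := of_inT k
  exact ⟨_, h1, t, ht, h2, b⟩

theorem step5 (a : Bd G 11 5 1 P) (hP : P ∈ PA.map Prod.fst ++ PC) {X : Row} (hX : X ∈ G7)
    (b : Bd G 7 X.1 X.2.1 X.2.2.1) : ∃ Y ∈ G5, ∃ t : G,
    orderOf t = 2 ∧ Nat.card (centralizer ({t} : Set G)) ∈ Y.2.2.2 ∧
      Nonempty (Bd G 5 Y.1 Y.2.1 Y.2.2.1) := by
  obtain ⟨x, h⟩ := exists_ctx (G := G) (p := 5) (by norm_num) (by rw [hn]; norm_num)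
    (by rw [hn]; norm_num)
  have e1 : Nat.card h.H ∈ Nat.divisors 4 := Nat.mem_divisors.2
    ⟨⟨h.H.index, by have := h.card_H_mul; omega⟩, by norm_num⟩
  have e2 := h.two_le_e
  rw [show Nat.divisors 4 = {1, 2, 4} by decide] at e1
  simp only [mem_insert, mem_singleton] at e1
  have h7 : ¬ 7 ∣ Nat.card h.K := fun k => by
    have h1 := b.h.dvd_K (t := x) ((isPReg_iff_not_dvd (by norm_num)).2 (by rw [h.ord]; norm_num))
      (h.card_C ▸ k.mul_left 5)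
    rw [h.ord, b.hA] at h1
    exact (by decide : ∀ X ∈ G7, ¬ 5 ∣ X.2.1) X hX h1
  obtain ⟨L, t, ht, ⟨c⟩, k⟩ := step hn a hP h (r := 77) (Nat.Coprime.mul_right
    ((Nat.Prime.coprime_iff_not_dvd (p := 7) (by norm_num)).2 h7).symm
    ((Nat.Prime.coprime_iff_not_dvd (by norm_num)).2 (a.not_dvd_K h (by norm_num))).symm) rfl
    (Q := fun e A c L => inT G5 e A c L ||
      !(A != 1 || G7.any fun X => sub 5 (dv X.2.2.1) (dv L))) (by
      rcases e1 with e | e | e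
      exacts [by omega, e ▸ K5a, e ▸ K5b])
  have h1 := b.sub' c (one_mul 1)
  rw [Bd.V_one, Bd.V_one] at h1
  rw [show (Nat.card h.K != 1 || G7.any fun X => sub 5 (dv X.2.2.1) (dv L)) = true by
    rw [Bool.or_eq_true] at h1 ⊢
    exact h1.imp_right fun h1 => List.any_eq_true.2 ⟨X, hX, h1⟩, Bool.not_true, Bool.or_false] at k
  obtain ⟨cs, h1, h2⟩ := of_inT k
  exact ⟨_, h1, t, ht, h2, ⟨c⟩⟩

omit [NS G] hn hp in
theorem mem_rows {T : List Row} {X : Row} {i c : ℕ} {I : List ℕ} (h1 : (X, i) ∈ T.zipIdx)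
    (h2 : i ∉ I) (h3 : c ∈ X.2.2.2) (h4 : j2 p X.2.1 443520 (dv P) (dv X.2.2.1) = true) :
    X ∈ rows p c P T I :=
  List.mem_map.2 ⟨_, List.mem_filter.2 ⟨h1, by simp [h2, h3, h4]⟩, rfl⟩

theorem three_blocks : ∃ e e',
    Nonempty (Bd G 11 5 1 [(-1, 210, 1), (-1, 45, 1), (-1, 45, 1), (1, 21, 1), (1, 280, 2)]) ∧
    Nonempty (Bd G 7 e 1 [(-1, 99, 1), (1, 55, 1), (1, 45, 2)]) ∧
    Nonempty (Bd G 5 e' 1 [(-1, 231, 1), (1, 154, 1), (1, 99, 1), (-1, 21, 1)]) := by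
  obtain ⟨P, hP, ⟨a⟩⟩ := step11 hn
  obtain ⟨X, hX, s, hs, hs', ⟨b⟩⟩ := step7 hn a hP
  obtain ⟨Y, hY, t, ht, ht', ⟨c⟩⟩ := step5 hn a hP hX b
  have s2 := sq_eq_one_of_orderOf hs
  have t2' := sq_eq_one_of_orderOf ht
  rcases List.mem_append.1 hP with hP | hP
  swap
  · have := List.all_eq_true.1 KC _ hP
    rw [List.any_eq_true.2 ⟨X, hX, Bool.and_eq_true_iff.2 ⟨a.j2d hn b, List.any_eq_true.2
      ⟨Y, hY, Bool.and_eq_true_iff.2 ⟨a.j2d hn c, a.j3d hn b c⟩⟩⟩⟩] at this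
    simp at this
  obtain ⟨P, hP', rfl⟩ := List.mem_map.1 hP
  obtain ⟨i, hi⟩ : ∃ i, (X, i) ∈ G7.zipIdx := by
    obtain ⟨i, h1, rfl⟩ := List.getElem_of_mem hX
    exact ⟨i, List.mem_zipIdx_iff_getElem?.2 (by simp [h1])⟩
  obtain ⟨j, hj⟩ : ∃ i, (Y, i) ∈ G5.zipIdx := by
    obtain ⟨i, h1, rfl⟩ := List.getElem_of_mem hY
    exact ⟨i, List.mem_zipIdx_iff_getElem?.2 (by simp [h1])⟩
  have hA := List.all_eq_true.1 (List.all_eq_true.1 KA P hP')
  have h1 : i ∈ P.2.1 := by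
    by_contra k
    have h2 := mem_rows hi k hs' (a.j2d hn b)
    have := hA _ (mem_DV (hn ▸ card_subgroup_dvd_card (centralizer {s})))
    rw [g2, a.inv' hn hs (by
      rw [List.any_eq_true.2 ⟨X, h2, b.inv' hn hs (a.j2' b s2)⟩, Bool.true_or])] at this
    simp [List.ne_nil_of_mem h2] at this
  have h2 : j ∈ P.2.2 := by
    by_contra k
    have h2 := mem_rows hj k ht' (a.j2d hn c)
    have := hA _ (mem_DV (hn ▸ card_subgroup_dvd_card (centralizer {t})))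
    rw [g2, a.inv' hn ht (by
      rw [List.any_eq_true.2 ⟨Y, h2, c.inv' hn ht (a.j2' c t2')⟩, Bool.or_true])] at this
    simp [List.ne_nil_of_mem h2] at this
  have h3 : f3 P.1 X Y = true := by
    simp only [f3, t2, Bool.and_eq_true, List.any_eq_true]
    exact ⟨a.j3d hn b c, ⟨_, ht', c.inv' hn ht (a.inv' hn ht (Bool.and_eq_true_iff.2
      ⟨a.j2' c t2', b.inv' hn ht (Bool.and_eq_true_iff.2 ⟨a.j2' b t2', a.j3' b c t2'⟩)⟩))⟩,
      _, hs', b.inv' hn hs (a.inv' hn hs (Bool.and_eq_true_iff.2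
      ⟨a.j2' b s2, c.inv' hn hs (Bool.and_eq_true_iff.2 ⟨a.j2' c s2, a.j3' b c s2⟩)⟩))⟩
  have h4 := List.all_eq_true.1 (List.all_eq_true.1 KF P hP') _ hi
  simp only [List.contains_iff_mem.2 h1, Bool.not_true, Bool.false_or] at h4
  have h5 := List.all_eq_true.1 h4 _ hj
  simp only [List.contains_iff_mem.2 h2, h3, Bool.and_self, Bool.not_true, Bool.false_or,
    Bool.and_eq_true, beq_iff_eq] at h5
  obtain ⟨e1, e2, e3, e4, e5⟩ := h5
  exact ⟨_, _, ⟨e1 ▸ a⟩, ⟨e2 ▸ e3 ▸ b⟩, ⟨e4 ▸ e5 ▸ c⟩⟩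

end Cfsg.Agent.H6.B22
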