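import Cfsg.Agent.H2.D1Search

/-! Searches for the principal blocks of a simple group of order `443520`. -/

set_option autoImplicit false

namespace Cfsg.Agent.H6.B22

open Cfsg.Agent.H2.D1

/-- The divisors of `443520`. -/
def DV : List ℕ :=
  [1, 2, 3, 4, 5, 6, 7, 8, 9, 10, 11, 12, 14, 15, 16, 18, 20, 21, 22, 24, 28, 30, 32, 33, 35,
   36, 40, 42, 44, 45, 48, 55, 56, 60, 63, 64, 66, 70, 72, 77, 80, 84, 88, 90, 96, 99, 105, 110,
   112, 120, 126, 128, 132, 140, 144, 154, 160, 165, 168, 176, 180, 192, 198, 210, 220, 224,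
   231, 240, 252, 264, 280, 288, 308, 315, 320, 330, 336, 352, 360, 384, 385, 396, 420, 440,
   448, 462, 480, 495, 504, 528, 560, 576, 616, 630, 640, 660, 672, 693, 704, 720, 770, 792,
   840, 880, 896, 924, 960, 990, 1008, 1056, 1120, 1152, 1155, 1232, 1260, 1320, 1344, 1386,
   1408, 1440, 1540, 1584, 1680, 1760, 1848, 1920, 1980, 2016, 2112, 2240, 2310, 2464, 2520,
   2640, 2688, 2772, 2880, 3080, 3168, 3360, 3465, 3520, 3696, 3960, 4032, 4224, 4480, 4620,
   4928, 5040, 5280, 5544, 5760, 6160, 6336, 6720, 6930, 7040, 7392, 7920, 8064, 9240, 9856,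
   10080, 10560, 11088, 12320, 12672, 13440, 13860, 14784, 15840, 18480, 20160, 21120, 22176,
   24640, 27720, 29568, 31680, 36960, 40320, 44352, 49280, 55440, 63360, 73920, 88704, 110880,
   147840, 221760, 443520]

theorem DV_small : (List.range 667).all (fun d => 443520 % d != 0 ||
    (DV.contains d && DV.contains (443520 / d))) = true := by decide +kernel

theorem mem_DV {d : ℕ} (h : d ∣ 443520) : d ∈ DV := by
  have key : ∀ a, a < 667 → a ∣ 443520 → a ∈ DV ∧ 443520 / a ∈ DV := fun a h1 h2 => by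
    simpa [Nat.mod_eq_zero_of_dvd h2] using List.all_eq_true.1 DV_small a (List.mem_range.2 h1)
  by_cases e : d < 667
  · exact (key d e h).1
  · obtain ⟨c, hc⟩ := h
    have c0 : 0 < c := Nat.pos_of_ne_zero (by rintro rfl; simp at hc)
    have := (key c (by nlinarith) ⟨d, by rw [hc, mul_comm]⟩).2
    rwa [hc, Nat.mul_div_cancel _ c0] at this

/-- Entries with a value. -/
abbrev V := List (Ent × ℤ)

/-- The conditions on the value at an involution. -/
def okv (c md d : ℕ) (y : ℤ) : Bool :=
  decide (y.natAbs < d) && (((d : ℤ) - y) % md == 0 && ((443520 / c : ℕ) * y) % d == 0)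

/-- The candidates for the value at an involution. -/
def cand (c md d : ℕ) : List ℤ :=
  (((List.range' 1 ((2 * d - 1) / md)).filter fun k => (443520 / c * (md * k)) % d == 0 &&
    decide (d * d + md * k * (md * k) ≤ c + 2 * d * (md * k))).map fun k => (d : ℤ) - (md * k : ℕ))

theorem mem_cand {c md d : ℕ} {y : ℤ} (h : okv c md d y = true) (hc : y ^ 2 ≤ c) :
    y ∈ cand c md d := by
  simp only [okv, Bool.and_eq_true, decide_eq_true_eq, beq_iff_eq] at h
  obtain ⟨h1, h2, h3⟩ := h
  obtain ⟨k, hk⟩ := Int.dvd_of_emod_eq_zero h2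
  have m0 : 0 < md := Nat.pos_of_ne_zero (by rintro rfl; simp at hk; omega)
  have k0 : 0 < k := by
    by_contra! e
    have : (md : ℤ) * k ≤ 0 := mul_nonpos_of_nonneg_of_nonpos (by positivity) e
    omega
  lift k to ℕ using k0.le
  have hy : y = d - (md * k : ℕ) := by push_cast; linarith
  refine List.mem_map.2 ⟨k, List.mem_filter.2 ⟨List.mem_range'_1.2 ⟨by omega, ?_⟩, ?_⟩, hy.symm⟩
  · have : k ≤ (2 * d - 1) / md := (Nat.le_div_iff_mul_le m0).2 (by rw [mul_comm]; omega)
    omega
  · simp only [Bool.and_eq_true, decide_eq_true_eq, beq_iff_eq]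
    refine ⟨Nat.mod_eq_zero_of_dvd (Int.natCast_dvd_natCast.1 ?_), ?_⟩
    · have := (Dvd.intro_left ((443520 / c : ℕ) : ℤ) rfl).sub (Int.dvd_of_emod_eq_zero h3)
      rwa [← mul_sub, hy, sub_sub_cancel, ← Nat.cast_mul] at this
    · zify
      rw [hy] at hc
      push_cast at hc
      nlinarith

/-- Search through the values at an involution with centralizer order `c`. -/
def vs (c md : ℕ) : List Ent → ℤ → ℤ → ℤ → (ℤ → V → Bool) → Bool
  | [], _, _, _, _ => true
  | [(a, d, m)], lin, S, sq, k => a == 0 || (lin % a == 0 && (okv c md d (-lin / a) &&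
      (decide (sq + m * (-lin / a) ^ 2 ≤ c) &&
        k (S - a * (-lin / a) ^ 2 * (443520 / d : ℕ)) [((a, d, m), -lin / a)])))
  | (a, d, m) :: b :: l, lin, S, sq, k => (cand c md d).any fun y =>
      decide (sq + m * y ^ 2 ≤ c) && vs c md (b :: l) (lin + a * y)
        (S - a * y ^ 2 * (443520 / d : ℕ)) (sq + m * y ^ 2) fun S v => k S (((a, d, m), y) :: v)

theorem vs_sound {c md : ℕ} (W : V) (lin S sq : ℤ) (k : ℤ → V → Bool)
    (h1 : ∀ w ∈ W, okv c md w.1.2.1 w.2 = true ∧ 0 < w.1.2.2) (h0 : 0 ≤ sq)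
    (h2 : lin + (W.map fun w => w.1.1 * w.2).sum = 0)
    (h3 : sq + (W.map fun w => (w.1.2.2 : ℤ) * w.2 ^ 2).sum ≤ c)
    (h4 : k (S - (W.map fun w : Ent × ℤ => w.1.1 * w.2 ^ 2 * (443520 / w.1.2.1 : ℕ)).sum) W =
      true) :
    vs c md (W.map Prod.fst) lin S sq k = true := by
  induction W generalizing lin S sq k with
  | nil => rfl
  | cons w W ih =>
    obtain ⟨⟨a, d, m⟩, y⟩ := w
    obtain ⟨k1, k2⟩ := h1 _ List.mem_cons_self
    have h5 : 0 ≤ (W.map fun w => (w.1.2.2 : ℤ) * w.2 ^ 2).sum :=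
      List.sum_nonneg fun z hz => by
        obtain ⟨j, -, rfl⟩ := List.mem_map.1 hz
        positivity
    simp only [List.map_cons, List.sum_cons] at h2 h3 h4 k1 k2
    rcases W with _ | ⟨⟨b, z⟩, W⟩
    · simp only [List.map_cons, List.map_nil, vs, Bool.or_eq_true, beq_iff_eq, Bool.and_eq_true,
        decide_eq_true_eq]
      simp only [List.map_nil, List.sum_nil, add_zero] at h2 h3 h4
      refine or_iff_not_imp_left.2 fun a0 => ?_
      have e : -lin / a = y := by
        rw [show -lin = a * y by linarith, Int.mul_ediv_cancel_left _ a0]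
      rw [e]
      exact ⟨Int.emod_eq_zero_of_dvd ⟨-y, by linarith⟩, k1, h3, h4⟩
    · have h6 : y ^ 2 ≤ (m : ℤ) * y ^ 2 := le_mul_of_one_le_left (sq_nonneg _) (by omega)
      rw [List.map_cons, List.map_cons, vs, List.any_eq_true]
      refine ⟨y, mem_cand k1 (by linarith), ?_⟩
      rw [Bool.and_eq_true, decide_eq_true_eq]
      exact ⟨by linarith, ih _ _ _ _ (fun j hj => h1 j (List.mem_cons_of_mem _ hj))
        (by positivity) (by linarith) (by linarith) (by rwa [sub_sub])⟩

/-- The values at an involution with centralizer order `c`. -/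
def invG (p e A c : ℕ) (ex : V → Bool) (L : List Ent) : Bool :=
  (A % 2 == 0 || c % p != 0) && vs c (bif c % p == 0 then 4 * p else 4) L (-1) 443520 1
    fun S v => finI p e A c false S && ex v

/-- The number of characters with given degree and value. -/
def cnt (W : V) (d : ℕ) (y : ℤ) : ℕ :=
  (W.map fun b => bif b.1.2.1 == d && b.2 == y then b.1.2.2 else 0).sum

/-- The characters of degree prime to `q` occur in the second list. -/
def sub (q : ℕ) (U W : V) : Bool :=
  U.all fun a => a.1.2.1 % q == 0 || decide (cnt U a.1.2.1 a.2 ≤ cnt W a.1.2.1 a.2)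

/-- The contribution of the characters of degree divisible by `q` to the norm. -/
def nrm (q : ℕ) (U : V) : ℤ :=
  (U.map fun a => bif a.1.2.1 % q == 0 then (a.1.2.2 : ℤ) * a.2 ^ 2 else 0).sum

/-- The values at the identity. -/
def dv (L : List Ent) : V := L.map fun a => (a, a.2.1)

/-- Compatibility with the block for `11`. -/
def j2 (p A c : ℕ) (U W : V) : Bool :=
  sub 11 W U && ((A != 1 || sub p U W) && decide (1 + nrm 1 U + nrm 11 W ≤ c))

/-- Compatibility of the three blocks. -/
def j3 (A B c : ℕ) (U W Z : V) : Bool :=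
  (B != 1 || sub 5 W Z) && ((A != 1 || sub 7 Z W) &&
    (decide (1 + nrm 1 U + nrm 11 W + nrm 77 Z ≤ c) &&
      decide (1 + nrm 1 U + nrm 11 Z + nrm 55 W ≤ c)))

/-- The condition from the central characters. -/
def central (q : ℕ) (L : List Ent) : Bool :=
  L.all fun a => (q * (L.map fun b => bif b.2.1 == a.2.1 then b.1 else 0).sum) % a.2.1 == 0

/-- Counting Sylow subgroups in the centralizer of an involution. -/
def sy (p A c : ℕ) : Bool :=
  c % (p * A.gcd 128) == 0 && DV.any fun j => A % j == 0 && (j % A.gcd 128 == 0 &&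
    (List.range' 1 p).any fun f => (p - 1) % f == 0 && (c % (f * (p * j)) == 0 &&
      c / (f * (p * j)) % p == 1))

/-- The choice of the involution. -/
def chc (p A c : ℕ) : Bool := bif A % 2 == 0 then sy p A c else c % 128 == 0

/-- Search through the shapes of the block. -/
def blk2 (p e lo q i : ℕ) (D : List ℕ) (lf : List Ent → Bool) : Bool :=
  (fun os => bif e + 1 == p then go 443520 lf os e 1 [] else (fun t : ℕ =>
    (irange (rt e)).any fun b => [1, -1].any fun ε : ℤ =>
      decide ((b + ε) ^ 2 + (t - 1) * b ^ 2 ≤ e) && D.any fun d => (i == 9 || d % 9 == i) &&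
        (okm p lo d (e * (ε + t * b)) b (b + ε) &&
          go 443520 lf os (e - ((b + ε) ^ 2 + (t - 1) * b ^ 2)).toNat (1 + t * d ^ 2)
            [(ε + t * b, d, t)]))
    ((p - 1) / e)) ((opts p lo D (irange (rt e))).filter fun o => (q * o.1) % o.2 == 0)

/-- Search through all possibilities for a prime. -/
def alive (p r e i : ℕ) (ex : ℕ → ℕ → List Ent → Bool) : Bool :=
  DV.any fun A =>
    443520 % (p * e * A) == 0 && (443520 / (p * e * A) % p == 1 && (A.gcd r == 1 &&
      blk2 p e (bif A == 1 then 0 else 2) (443520 / (p * A)) i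
        (DV.filter fun d => d % p != 0 && (decide (2 ≤ d) && (decide (d < 666) &&
          (r == 1 || [0, 1, 5, 6, 10].contains (d % 11))))) fun L =>
          (L.map fun a : Ent => a.1 * (a.2.1 : ℤ)).sum == 1 && (central (443520 / (p * A)) L &&
            DV.any fun c => c.gcd (r.gcd 11) == 1 && (chc p A c && (ex A c L &&
              invG p e A c (fun _ => true) L)))))

/-- `e`, `|K|`, the shape, the centralizer orders of the chosen involution. -/
abbrev Row := ℕ × ℕ × List Ent × List ℕ

/-- Membership in a table. -/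
def inT (T : List Row) (e A c : ℕ) (L : List Ent) : Bool :=
  T.any fun r => r.1 == e && (r.2.1 == A && (r.2.2.1 == L && r.2.2.2.contains c))

/-- Two blocks. -/
def t2 (p : ℕ) (P : List Ent) (X : Row) (k : ℕ → V → V → Bool) : Bool :=
  X.2.2.2.any fun c => invG p X.1 X.2.1 c (fun W => invG 11 5 1 c
    (fun U => j2 p X.2.1 c U W && k c U W) P) X.2.2.1

/-- The rows not in `I` to be tested for the centralizer order `c`. -/
def rows (p c : ℕ) (P : List Ent) (T : List Row) (I : List ℕ) : List Row :=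
  (T.zipIdx.filter fun X => !I.contains X.2 && (X.1.2.2.2.contains c &&
    j2 p X.1.2.1 443520 (dv P) (dv X.1.2.2.1))).map Prod.fst

/-- Two blocks, several rows. -/
def g2 (P : List Ent) (R T : List Row) (c : ℕ) : Bool :=
  !(R.isEmpty && T.isEmpty) && invG 11 5 1 c (fun U =>
    (R.any fun X => invG 7 X.1 X.2.1 c (j2 7 X.2.1 c U) X.2.2.1) ||
      T.any fun X => invG 5 X.1 X.2.1 c (j2 5 X.2.1 c U) X.2.2.1) P

/-- Three blocks. -/
def f3 (P : List Ent) (X Y : Row) : Bool :=
  j3 X.2.1 Y.2.1 443520 (dv P) (dv X.2.2.1) (dv Y.2.2.1) &&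
    ((t2 5 P Y fun c U Z => invG 7 X.1 X.2.1 c
      (fun W => j2 7 X.2.1 c U W && j3 X.2.1 Y.2.1 c U W Z) X.2.2.1) &&
    t2 7 P X fun c U W => invG 5 Y.1 Y.2.1 c
      (fun Z => j2 5 Y.2.1 c U Z && j3 X.2.1 Y.2.1 c U W Z) Y.2.2.1)

end Cfsg.Agent.H6.B22
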