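import Cfsg.Agent.H6.B22S

/-! The tables of surviving shapes. -/

set_option autoImplicit false

namespace Cfsg.Agent.H6.B22

open Cfsg.Agent.H2.D1

/-- Shapes for the prime `11` with the possible partners. -/
def PA : List (List Ent × List ℕ × List ℕ) :=
  [([(1, 120, 1), (-1, 56, 1), (1, 21, 1), (-1, 12, 1), (-1, 72, 2)],
    [], [0, 1, 2, 3, 4, 5, 6, 7, 8, 9, 10, 11, 12, 13, 14, 15, 16]),
   ([(-1, 320, 1), (1, 120, 1), (1, 21, 1), (-1, 12, 1), (1, 192, 2)],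
    [0, 1, 2, 3, 4, 5, 6, 7, 8, 9, 10, 11], []),
   ([(-1, 144, 1), (-1, 45, 1), (-1, 45, 1), (-1, 45, 1), (1, 280, 2)],
    [0, 1, 2, 3, 4, 5, 6, 7, 8, 9, 10, 11], []),
   ([(-1, 45, 1), (-1, 45, 1), (-1, 45, 1), (1, 10, 1), (1, 126, 2)],
    [0, 1, 2, 3, 4, 5, 6, 7, 8, 9, 10, 11], []),
   ([(-1, 56, 1), (-1, 45, 1), (-1, 45, 1), (1, 21, 1), (1, 126, 2)],
    [0, 1, 2, 3, 4, 5, 6, 7, 8, 9, 10, 11], []),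
   ([(-1, 210, 1), (-1, 45, 1), (-1, 45, 1), (1, 21, 1), (1, 280, 2)],
    [0], [4, 5]),
   ([(-1, 45, 1), (-1, 45, 1), (1, 21, 1), (1, 10, 1), (1, 60, 2)],
    [], [0, 1, 2, 3, 4, 5, 6, 7, 8, 9, 10, 11, 12, 13, 14, 15, 16]),
   ([(-1, 144, 1), (1, 120, 1), (-1, 56, 1), (-1, 45, 1), (1, 126, 2)],
    [0, 1, 2, 3, 4, 5, 6, 7, 8, 9, 10, 11], []),
   ([(-1, 210, 1), (-1, 144, 1), (1, 120, 1), (-1, 45, 1), (1, 280, 2)],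
    [], [0, 1, 2, 3, 4, 5, 6, 7, 8, 9, 10, 11, 12, 13, 14, 15, 16]),
   ([(-1, 144, 1), (1, 120, 1), (-1, 45, 1), (1, 10, 1), (1, 60, 2)],
    [3, 9], [2, 3, 6]),
   ([(-1, 210, 1), (1, 120, 1), (-1, 45, 1), (1, 10, 1), (1, 126, 2)],
    [0, 1, 2, 3, 4, 5, 6, 7, 8, 9, 10, 11], []),
   ([(-1, 320, 1), (1, 120, 1), (1, 120, 1), (-1, 45, 1), (1, 126, 2)],
    [0, 1, 2, 3, 4, 5, 6, 7, 8, 9, 10, 11], []),
   ([(1, 120, 1), (-1, 45, 1), (1, 21, 1), (1, 10, 1), (-1, 105, 2)],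
    [3, 9, 10], [4, 7]),
   ([(-1, 144, 1), (1, 120, 1), (-1, 56, 1), (1, 21, 1), (1, 60, 2)],
    [], [0, 1, 2, 3, 4, 5, 6, 7, 8, 9, 10, 11, 12, 13, 14, 15, 16]),
   ([(-1, 210, 1), (1, 120, 1), (-1, 56, 1), (1, 21, 1), (1, 126, 2)],
    [1], [0, 1, 13]),
   ([(1, 120, 1), (-1, 56, 1), (1, 21, 1), (1, 21, 1), (-1, 105, 2)],
    [1], [0, 1, 10, 12, 13, 14, 16]),
   ([(1, 252, 1), (1, 120, 1), (-1, 56, 1), (1, 21, 1), (-1, 336, 2)],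
    [0, 1, 2, 3, 4, 5, 6, 7, 8, 9, 10, 11], []),
   ([(-1, 144, 1), (1, 120, 1), (1, 10, 1), (1, 10, 1), (1, 5, 2)],
    [], [0, 1, 2, 3, 4, 5, 6, 7, 8, 9, 10, 11, 12, 13, 14, 15, 16]),
   ([(-1, 144, 1), (1, 120, 1), (1, 21, 1), (1, 10, 1), (-1, 6, 2)],
    [0, 1, 2, 3, 4, 5, 6, 7, 8, 9, 10, 11], []),
   ([(-1, 144, 1), (1, 120, 1), (1, 120, 1), (1, 10, 1), (-1, 105, 2)],
    [], [0, 1, 2, 3, 4, 5, 6, 7, 8, 9, 10, 11, 12, 13, 14, 15, 16]),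
   ([(-1, 210, 1), (-1, 210, 1), (1, 120, 1), (1, 21, 1), (1, 280, 2)],
    [1, 3, 9, 10], [4, 5, 7]),
   ([(-1, 210, 1), (1, 120, 1), (1, 21, 1), (1, 10, 1), (1, 60, 2)],
    [], [0, 1, 2, 3, 4, 5, 6, 7, 8, 9, 10, 11, 12, 13, 14, 15, 16]),
   ([(-1, 320, 1), (1, 252, 1), (1, 120, 1), (1, 21, 1), (-1, 72, 2)],
    [], [0, 1, 2, 3, 4, 5, 6, 7, 8, 9, 10, 11, 12, 13, 14, 15, 16]),
   ([(1, 120, 1), (1, 21, 1), (1, 10, 1), (1, 10, 1), (-1, 160, 2)],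
    [0, 1, 2, 3, 4, 5, 6, 7, 8, 9, 10, 11], [])]

/-- Shapes for the prime `11`. -/
def PB : List (List Ent) :=
  [[(-2, 2, 1), (1, 5, 2)],
   [(-1, 144, 1), (1, 120, 1), (1, 21, 1), (-1, 12, 1), (1, 16, 2)],
   [(1, 120, 1), (1, 32, 1), (1, 21, 1), (-1, 12, 1), (-1, 160, 2)],
   [(1, 120, 1), (-1, 56, 1), (-1, 56, 1), (1, 21, 1), (-1, 28, 2)],
   [(-1, 144, 1), (1, 120, 1), (1, 32, 1), (1, 21, 1), (-1, 28, 2)],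
   [(-1, 320, 1), (1, 120, 1), (1, 120, 1), (1, 21, 1), (1, 60, 2)]]

/-- Shapes for the prime `11`. -/
def PC : List (List Ent) :=
  [[(1, 21, 1), (-1, 12, 1), (-1, 12, 1), (-1, 12, 1), (1, 16, 2)],
   [(1, 32, 1), (-1, 12, 1), (-1, 12, 1), (-1, 12, 1), (1, 5, 2)],
   [(-1, 56, 1), (-1, 45, 1), (-1, 12, 1), (-1, 12, 1), (1, 126, 2)],
   [(-1, 210, 1), (-1, 45, 1), (-1, 12, 1), (-1, 12, 1), (1, 280, 2)],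
   [(-1, 45, 1), (-1, 12, 1), (-1, 12, 1), (1, 10, 1), (1, 60, 2)],
   [(-1, 56, 1), (1, 21, 1), (-1, 12, 1), (-1, 12, 1), (1, 60, 2)],
   [(-1, 12, 1), (-1, 12, 1), (1, 10, 1), (1, 10, 1), (1, 5, 2)],
   [(1, 21, 1), (-1, 12, 1), (-1, 12, 1), (1, 10, 1), (-1, 6, 2)],
   [(1, 120, 1), (-1, 12, 1), (-1, 12, 1), (1, 10, 1), (-1, 105, 2)],
   [(1, 32, 1), (1, 21, 1), (-1, 12, 1), (-1, 12, 1), (-1, 28, 2)],
   [(1, 120, 1), (-1, 56, 1), (-1, 45, 1), (-1, 12, 1), (-1, 6, 2)],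
   [(-1, 144, 1), (-1, 45, 1), (-1, 12, 1), (1, 10, 1), (1, 192, 2)],
   [(1, 252, 1), (-1, 210, 1), (-1, 45, 1), (-1, 12, 1), (1, 16, 2)],
   [(-1, 320, 1), (1, 252, 1), (-1, 45, 1), (-1, 12, 1), (1, 126, 2)],
   [(1, 384, 1), (-1, 320, 1), (-1, 45, 1), (-1, 12, 1), (-1, 6, 2)],
   [(-1, 45, 1), (1, 32, 1), (-1, 12, 1), (1, 10, 1), (1, 16, 2)],
   [(1, 120, 1), (-1, 45, 1), (-1, 12, 1), (1, 10, 1), (-1, 72, 2)],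
   [(1, 384, 1), (-1, 45, 1), (-1, 12, 1), (1, 10, 1), (-1, 336, 2)],
   [(-1, 45, 1), (1, 21, 1), (1, 21, 1), (-1, 12, 1), (1, 16, 2)],
   [(-1, 45, 1), (1, 32, 1), (1, 21, 1), (-1, 12, 1), (1, 5, 2)],
   [(-1, 45, 1), (1, 32, 1), (1, 32, 1), (-1, 12, 1), (-1, 6, 2)],
   [(1, 120, 1), (-1, 56, 1), (-1, 56, 1), (-1, 12, 1), (1, 5, 2)],
   [(-1, 144, 1), (-1, 56, 1), (1, 21, 1), (-1, 12, 1), (1, 192, 2)],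
   [(1, 384, 1), (-1, 210, 1), (-1, 56, 1), (-1, 12, 1), (-1, 105, 2)],
   [(1, 384, 1), (-1, 320, 1), (-1, 56, 1), (-1, 12, 1), (1, 5, 2)],
   [(-1, 56, 1), (1, 32, 1), (1, 21, 1), (-1, 12, 1), (1, 16, 2)],
   [(1, 384, 1), (-1, 56, 1), (1, 21, 1), (-1, 12, 1), (-1, 336, 2)],
   [(-1, 56, 1), (1, 32, 1), (1, 32, 1), (-1, 12, 1), (1, 5, 2)],
   [(-1, 144, 1), (-1, 144, 1), (1, 21, 1), (-1, 12, 1), (1, 280, 2)],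
   [(-1, 144, 1), (1, 21, 1), (-1, 12, 1), (1, 10, 1), (1, 126, 2)],
   [(1, 252, 1), (-1, 144, 1), (-1, 12, 1), (1, 10, 1), (-1, 105, 2)],
   [(-1, 144, 1), (1, 120, 1), (1, 32, 1), (-1, 12, 1), (1, 5, 2)],
   [(-1, 210, 1), (1, 21, 1), (-1, 12, 1), (1, 10, 1), (1, 192, 2)],
   [(-1, 320, 1), (1, 32, 1), (1, 21, 1), (-1, 12, 1), (1, 280, 2)],
   [(-1, 320, 1), (1, 252, 1), (1, 21, 1), (-1, 12, 1), (1, 60, 2)],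
   [(1, 384, 1), (-1, 320, 1), (1, 21, 1), (-1, 12, 1), (-1, 72, 2)],
   [(1, 21, 1), (-1, 12, 1), (1, 10, 1), (1, 10, 1), (-1, 28, 2)],
   [(1, 32, 1), (1, 32, 1), (1, 21, 1), (-1, 12, 1), (-1, 72, 2)],
   [(-1, 56, 1), (-1, 45, 1), (-1, 45, 1), (-1, 45, 1), (1, 192, 2)],
   [(1, 120, 1), (-1, 45, 1), (-1, 45, 1), (-1, 45, 1), (1, 16, 2)],
   [(1, 252, 1), (-1, 56, 1), (-1, 45, 1), (-1, 45, 1), (-1, 105, 2)],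
   [(-1, 56, 1), (-1, 56, 1), (-1, 45, 1), (1, 32, 1), (1, 126, 2)],
   [(1, 252, 1), (-1, 144, 1), (-1, 56, 1), (-1, 45, 1), (-1, 6, 2)],
   [(-1, 210, 1), (-1, 56, 1), (-1, 45, 1), (1, 32, 1), (1, 280, 2)],
   [(-1, 210, 1), (1, 120, 1), (-1, 56, 1), (-1, 45, 1), (1, 192, 2)],
   [(1, 252, 1), (-1, 210, 1), (-1, 56, 1), (-1, 45, 1), (1, 60, 2)],
   [(1, 384, 1), (-1, 210, 1), (-1, 56, 1), (-1, 45, 1), (-1, 72, 2)],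
   [(-1, 56, 1), (-1, 45, 1), (1, 32, 1), (1, 10, 1), (1, 60, 2)],
   [(1, 120, 1), (-1, 56, 1), (-1, 45, 1), (1, 10, 1), (-1, 28, 2)],
   [(1, 252, 1), (-1, 56, 1), (-1, 45, 1), (1, 10, 1), (-1, 160, 2)],
   [(-1, 56, 1), (-1, 45, 1), (1, 21, 1), (1, 21, 1), (1, 60, 2)],
   [(1, 384, 1), (-1, 210, 1), (-1, 144, 1), (-1, 45, 1), (1, 16, 2)],
   [(1, 560, 1), (-1, 210, 1), (-1, 144, 1), (-1, 45, 1), (-1, 160, 2)],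
   [(1, 384, 1), (-1, 320, 1), (-1, 144, 1), (-1, 45, 1), (1, 126, 2)],
   [(1, 252, 1), (-1, 144, 1), (-1, 45, 1), (1, 10, 1), (-1, 72, 2)],
   [(-1, 144, 1), (-1, 45, 1), (1, 32, 1), (1, 32, 1), (1, 126, 2)],
   [(1, 384, 1), (-1, 320, 1), (-1, 210, 1), (-1, 45, 1), (1, 192, 2)],
   [(1, 252, 1), (-1, 210, 1), (-1, 45, 1), (1, 10, 1), (-1, 6, 2)],
   [(-1, 210, 1), (-1, 45, 1), (1, 32, 1), (1, 32, 1), (1, 192, 2)],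
   [(1, 252, 1), (-1, 210, 1), (-1, 45, 1), (1, 32, 1), (-1, 28, 2)],
   [(1, 384, 1), (-1, 210, 1), (-1, 45, 1), (1, 32, 1), (-1, 160, 2)],
   [(-1, 210, 1), (1, 120, 1), (1, 120, 1), (-1, 45, 1), (1, 16, 2)],
   [(1, 384, 1), (-1, 320, 1), (-1, 45, 1), (1, 10, 1), (-1, 28, 2)],
   [(-1, 320, 1), (1, 252, 1), (1, 120, 1), (-1, 45, 1), (-1, 6, 2)],
   [(-1, 45, 1), (1, 10, 1), (1, 10, 1), (1, 10, 1), (1, 16, 2)],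
   [(-1, 45, 1), (1, 21, 1), (1, 10, 1), (1, 10, 1), (1, 5, 2)],
   [(-1, 45, 1), (1, 32, 1), (1, 10, 1), (1, 10, 1), (-1, 6, 2)],
   [(-1, 45, 1), (1, 21, 1), (1, 21, 1), (1, 10, 1), (-1, 6, 2)],
   [(-1, 45, 1), (1, 32, 1), (1, 32, 1), (1, 10, 1), (-1, 28, 2)],
   [(1, 252, 1), (1, 120, 1), (-1, 45, 1), (1, 10, 1), (-1, 336, 2)],
   [(-1, 45, 1), (1, 32, 1), (1, 21, 1), (1, 21, 1), (-1, 28, 2)],
   [(1, 252, 1), (-1, 144, 1), (-1, 56, 1), (-1, 56, 1), (1, 5, 2)],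
   [(-1, 56, 1), (-1, 56, 1), (1, 32, 1), (1, 21, 1), (1, 60, 2)],
   [(1, 252, 1), (-1, 56, 1), (-1, 56, 1), (1, 21, 1), (-1, 160, 2)],
   [(1, 252, 1), (-1, 144, 1), (-1, 56, 1), (1, 21, 1), (-1, 72, 2)],
   [(1, 252, 1), (-1, 210, 1), (-1, 56, 1), (1, 10, 1), (1, 5, 2)],
   [(1, 252, 1), (-1, 210, 1), (-1, 56, 1), (1, 21, 1), (-1, 6, 2)],
   [(1, 252, 1), (-1, 210, 1), (1, 120, 1), (-1, 56, 1), (-1, 105, 2)],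
   [(1, 384, 1), (-1, 320, 1), (-1, 56, 1), (1, 21, 1), (-1, 28, 2)],
   [(-1, 320, 1), (1, 252, 1), (1, 120, 1), (-1, 56, 1), (1, 5, 2)],
   [(-1, 56, 1), (1, 21, 1), (1, 10, 1), (1, 10, 1), (1, 16, 2)],
   [(-1, 56, 1), (1, 32, 1), (1, 10, 1), (1, 10, 1), (1, 5, 2)],
   [(-1, 56, 1), (1, 21, 1), (1, 21, 1), (1, 10, 1), (1, 5, 2)],
   [(-1, 56, 1), (1, 32, 1), (1, 21, 1), (1, 10, 1), (-1, 6, 2)],
   [(1, 120, 1), (-1, 56, 1), (1, 32, 1), (1, 10, 1), (-1, 105, 2)],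
   [(-1, 56, 1), (1, 21, 1), (1, 21, 1), (1, 21, 1), (-1, 6, 2)],
   [(-1, 56, 1), (1, 32, 1), (1, 32, 1), (1, 21, 1), (-1, 28, 2)],
   [(1, 384, 1), (-1, 144, 1), (-1, 144, 1), (1, 10, 1), (-1, 105, 2)],
   [(1, 252, 1), (-1, 144, 1), (-1, 144, 1), (1, 21, 1), (1, 16, 2)],
   [(1, 252, 1), (-1, 144, 1), (-1, 144, 1), (1, 32, 1), (1, 5, 2)],
   [(1, 560, 1), (-1, 210, 1), (-1, 210, 1), (-1, 144, 1), (1, 5, 2)],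
   [(-1, 320, 1), (1, 252, 1), (-1, 144, 1), (1, 21, 1), (1, 192, 2)],
   [(1, 384, 1), (-1, 320, 1), (-1, 144, 1), (1, 21, 1), (1, 60, 2)],
   [(-1, 144, 1), (1, 32, 1), (1, 32, 1), (1, 21, 1), (1, 60, 2)],
   [(1, 252, 1), (-1, 144, 1), (1, 32, 1), (1, 21, 1), (-1, 160, 2)],
   [(1, 384, 1), (-1, 210, 1), (-1, 210, 1), (1, 21, 1), (1, 16, 2)],
   [(1, 384, 1), (-1, 210, 1), (-1, 210, 1), (1, 32, 1), (1, 5, 2)],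
   [(1, 384, 1), (-1, 320, 1), (-1, 210, 1), (1, 21, 1), (1, 126, 2)],
   [(1, 384, 1), (-1, 320, 1), (1, 252, 1), (-1, 210, 1), (-1, 105, 2)],
   [(1, 252, 1), (-1, 210, 1), (1, 21, 1), (1, 10, 1), (-1, 72, 2)],
   [(-1, 210, 1), (1, 32, 1), (1, 32, 1), (1, 21, 1), (1, 126, 2)],
   [(1, 252, 1), (-1, 210, 1), (1, 32, 1), (1, 32, 1), (-1, 105, 2)],
   [(1, 384, 1), (-1, 320, 1), (-1, 320, 1), (1, 252, 1), (1, 5, 2)],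
   [(-1, 320, 1), (1, 21, 1), (1, 10, 1), (1, 10, 1), (1, 280, 2)],
   [(1, 384, 1), (-1, 320, 1), (1, 32, 1), (1, 10, 1), (-1, 105, 2)],
   [(1, 384, 1), (-1, 320, 1), (1, 21, 1), (1, 21, 1), (-1, 105, 2)],
   [(-1, 320, 1), (1, 252, 1), (1, 32, 1), (1, 21, 1), (1, 16, 2)],
   [(-1, 320, 1), (1, 252, 1), (1, 32, 1), (1, 32, 1), (1, 5, 2)],
   [(1, 32, 1), (1, 21, 1), (1, 10, 1), (1, 10, 1), (-1, 72, 2)],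
   [(1, 21, 1), (1, 21, 1), (1, 21, 1), (1, 10, 1), (-1, 72, 2)],
   [(1, 32, 1), (1, 32, 1), (1, 32, 1), (1, 10, 1), (-1, 105, 2)],
   [(1, 32, 1), (1, 32, 1), (1, 21, 1), (1, 21, 1), (-1, 105, 2)],
   [(1, 252, 1), (1, 32, 1), (1, 32, 1), (1, 21, 1), (-1, 336, 2)]]

/-- The surviving shapes. -/
def G7 : List Row :=
  [(3, 1, [(-1, 99, 1), (1, 55, 1), (1, 45, 2)],
    [128, 384, 640, 1920]),
   (3, 1, [(-1, 120, 1), (1, 55, 1), (1, 66, 2)],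
    [128, 384, 640, 1152, 1920, 5760]),
   (3, 8, [(-1, 99, 1), (1, 55, 1), (1, 45, 2)],
    [448, 896]),
   (3, 8, [(-1, 120, 1), (1, 55, 1), (1, 66, 2)],
    [336, 448, 896, 1344, 2688, 4032]),
   (3, 64, [(-1, 99, 1), (1, 55, 1), (1, 45, 2)],
    [448, 896]),
   (6, 4, [(-1, 120, 1), (2, 110, 1), (-1, 99, 1)],
    [448]),
   (6, 4, [(1, 132, 1), (1, 132, 1), (-1, 120, 1), (-1, 99, 1), (-1, 99, 1), (1, 55, 1)],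
    [1344]),
   (6, 4, [(1, 440, 1), (-1, 330, 1), (-1, 120, 1), (-1, 99, 1), (1, 55, 1), (1, 55, 1)],
    [448]),
   (6, 4, [(-1, 120, 1), (-1, 99, 1), (1, 55, 1), (1, 55, 1), (1, 55, 1), (1, 55, 1)],
    [448]),
   (6, 4, [(-1, 120, 1), (1, 55, 1), (2, 33, 1)],
    [168, 224, 448, 672, 1344]),
   (6, 4, [(-1, 176, 1), (1, 132, 1), (1, 132, 1), (-1, 120, 1), (1, 55, 1), (-1, 22, 1)],
    [672, 1344]),
   (6, 4, [(1, 132, 1), (-1, 120, 1), (1, 55, 1), (-1, 22, 1), (-1, 22, 1), (-1, 22, 1)],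
    [8064])]

/-- The surviving shapes. -/
def G5 : List Row :=
  [(2, 12, [(-1, 21, 1), (1, 22, 2)],
    [80, 120, 240, 320, 480, 960, 1920]),
   (2, 192, [(-1, 21, 1), (1, 22, 2)],
    [320, 640, 960, 1920]),
   (4, 1, [(-1, 396, 1), (1, 154, 1), (1, 144, 1), (1, 99, 1)],
    [384, 896, 2688]),
   (4, 1, [(-1, 176, 1), (1, 144, 1), (1, 99, 1), (-1, 66, 1)],
    [2688, 8064]),
   (4, 1, [(-1, 231, 1), (1, 154, 1), (1, 99, 1), (-1, 21, 1)],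
    [384, 896, 1152, 2688]),
   (4, 1, [(1, 154, 1), (-1, 66, 1), (-1, 66, 1), (-1, 21, 1)],
    [384]),
   (4, 1, [(-1, 231, 1), (1, 144, 1), (1, 99, 1), (-1, 11, 1)],
    [896]),
   (4, 1, [(1, 99, 1), (-1, 66, 1), (-1, 21, 1), (-1, 11, 1)],
    [896]),
   (4, 6, [(1, 264, 1), (-1, 176, 1), (-1, 66, 1), (-1, 21, 1)],
    [1920]),
   (4, 6, [(1, 154, 1), (-1, 66, 1), (-1, 66, 1), (-1, 21, 1)],
    [1920]),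
   (4, 6, [(-1, 66, 1), (1, 44, 1), (1, 44, 1), (-1, 21, 1)],
    [1920]),
   (4, 16, [(1, 154, 1), (-1, 126, 1), (-1, 126, 1), (1, 99, 1)],
    [320]),
   (4, 16, [(-1, 231, 1), (1, 154, 1), (1, 99, 1), (-1, 21, 1)],
    [160, 320, 1920]),
   (4, 16, [(1, 154, 1), (-1, 66, 1), (-1, 66, 1), (-1, 21, 1)],
    [1920]),
   (4, 16, [(1, 264, 1), (-1, 231, 1), (-1, 21, 1), (-1, 11, 1)],
    [1920]),
   (4, 96, [(1, 154, 1), (-1, 66, 1), (-1, 66, 1), (-1, 21, 1)],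
    [1920]),
   (4, 96, [(-1, 66, 1), (1, 44, 1), (1, 44, 1), (-1, 21, 1)],
    [1920])]

end Cfsg.Agent.H6.B22
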