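import Cfsg.Agent.H6.B22B
import Cfsg.Agent.H1.B23A
import Cfsg.Agent.H5.MwS

/-! The search for the principal `5`-block of a simple group of order `244823040`. -/

set_option autoImplicit false

namespace Cfsg.Agent.H6.B24

open Cfsg.Agent.H2.D1
open Cfsg.Agent.H6.B22 (central)
open Cfsg.Agent.H5.MW (dv dg')

/-- The residues of the degrees. -/
def flt (d : ℕ) : Bool := [0, 1, 10].contains (d % 11) && [0, 1, 11, 12, 22].contains (d % 23)

/-- The degrees prime to `5`. -/
def D5 : List ℕ :=
  [15456, 14168, 13662, 12672, 12144, 10626, 9856, 9108, 8832, 8096, 7084, 6831, 6336, 6072,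
   5796, 5544, 5313, 4554, 4048, 3542, 3312, 3036, 3024, 2772, 2277, 2024, 1771, 1518, 1288,
   1242, 1024, 1012, 759, 736, 528, 506, 483, 276, 264, 253, 252, 231, 23, 22, 12, 11]

theorem D5_all : (dg' 244823040).all (fun d => d % 5 == 0 || (!flt d || D5.contains d)) = true := by
  decide +kernel

theorem D5_sorted : D5.Pairwise fun a b => b ≤ a := by decide +kernel

/-- The orders of the centralizer of the involution. -/
def Cs : List ℕ :=
  [10, 20, 30, 40, 60, 70, 80, 90, 120, 140, 160, 180, 210, 240, 270, 280, 320, 360, 420, 480,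
   540, 560, 630, 640, 720, 840, 960, 1080, 1120, 1260, 1280, 1440, 1680, 1890, 1920, 2160,
   2240, 2520, 2560, 2880, 3360, 3780, 3840, 4320, 4480, 5040, 5120, 5760, 6720, 7560, 7680,
   8640, 8960, 10080, 11520, 13440, 15120, 15360, 17280, 17920, 20160, 23040, 26880, 30240,
   34560, 35840, 40320, 46080, 53760, 60480, 69120, 80640, 107520, 120960, 138240, 161280,
   241920, 322560, 483840, 967680]

theorem Cs_all : (dv 244823040).all (fun c => c % 10 != 0 || (c % 11 == 0 || (c % 23 == 0 ||
    Cs.contains c))) = true := by decide +kernel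

/-- The orders of the complement. -/
def As (e : ℕ) : List ℕ := bif e == 2 then
  [4, 14, 24, 54, 64, 84, 144, 224, 384, 504, 864, 1344, 2304, 3024, 3584, 8064, 13824, 48384] else
  [2, 12, 32, 42, 72, 112, 192, 252, 432, 672, 1152, 1512, 1792, 4032, 6912, 24192]

theorem As_all : [2, 4].all (fun e => (dv 244823040).all fun A => A % 2 != 0 || (A % 11 == 0 ||
    (A % 23 == 0 || (244823040 % (5 * e * A) != 0 || (244823040 / (5 * e * A) % 5 != 1 ||
      (As e).contains A))))) = true := by decide +kernel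

/-- The conditions on the value at the involution. -/
def okv (c : ℕ) (a : Ent) (y : ℤ) : Bool :=
  Nat.ble (y.natAbs ^ 2) c && (((a.2.1 : ℤ) - y) % 20 == 0 &&
    (((244823040 / c : ℕ) * y) % a.2.1 == 0 && Nat.ble (11 * y.natAbs) (a.2.1 + 10)))

/-- The candidates for the value at the involution. -/
def cand (c : ℕ) (a : Ent) : List ℤ :=
  ((List.range' ((a.2.1 - (a.2.1 + 10) / 11) / 20) ((a.2.1 + 10) / 110 + 2)).map
    fun k => (a.2.1 : ℤ) - (20 * k : ℕ)).filter (okv c a)

theorem mem_cand {c : ℕ} {a : Ent} {y : ℤ} (h0 : 2 ≤ a.2.1) (h : okv c a y = true) :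
    y ∈ cand c a := by
  refine List.mem_filter.2 ⟨?_, h⟩
  simp only [okv, Bool.and_eq_true, Nat.ble_eq, beq_iff_eq] at h
  obtain ⟨-, h2, -, h3⟩ := h
  refine List.mem_map.2 ⟨((a.2.1 - y) / 20).toNat, List.mem_range'_1.2 ?_, ?_⟩ <;> omega

/-- The search. -/
def alive (e : ℕ) (C : List ℕ) (Q : ℕ → ℕ → List (Ent × ℤ) → Bool) : Bool :=
  H1.B23.blk2 5 e 2 24482304 D5 (fun _ => 0) (fun _ => 0) 244823040 0 0 fun L =>
    (fun X : List ℕ => C.any fun c => H1.B23.vs 244823040 c (okv c) (cand c) (fun S W =>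
      X.any fun A => finI 5 e A c false S && Q A c W) L 0 244823040 1 [])
    ((As e).filter fun A => central (244823040 / (5 * A)) L)

/-- The shapes that remain. -/
def sh (A _c : ℕ) (W : List (Ent × ℤ)) : Bool :=
  !([2, 12, 32, 192].contains A &&
    [[(-1, 5796, 1), (1, 5544, 1), (1, 2024, 1), (-1, 1771, 1)],
     [(-1, 5796, 1), (1, 5544, 1), (1, 759, 1), (-1, 506, 1)]].contains (W.map Prod.fst))

theorem K2 : alive 2 Cs (fun _ _ _ => true) = false := by decide +kernel

theorem K4a : alive 4 (Cs.take 40) sh = false := by decide +kernel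

theorem K4b : alive 4 (Cs.drop 40) sh = false := by decide +kernel

end Cfsg.Agent.H6.B24
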