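import Cfsg.Agent.H6.U3X1

/-! Kernel computations for orders dividing `5515776`. -/

set_option autoImplicit false

namespace Cfsg.Agent.H6.X38

theorem L2 : alive 689472 19 18 2 (fun _ => true) (fun _ => true) = false := by
  decide +kernel

theorem L4 : alive 1378944 19 18 4 (fun _ => true) (fun _ => true) = false := by
  decide +kernel

theorem L8 : alive 2757888 19 18 8 (fun _ => true) (fun _ => true) = false := by
  decide +kernel

theorem L16 : alive 5515776 19 18 16 (fun _ => true) (fun _ => true) = false := by
  decide +kernel

end Cfsg.Agent.H6.X38
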