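import Cfsg.Agent.H6.U3X2
import Cfsg.Agent.H6.U3X3
import Cfsg.Agent.H5.MwE

/-! Simple groups whose order is a multiple of `19` and divides `5515776`. -/

set_option autoImplicit false

namespace Cfsg.Agent.H6.X38

open Cfsg Cfsg.Agent.H2.D1 Cfsg.Agent.H3 Finset Subgroup
open Cfsg.Agent.H6.B22 (V central Vl Vl_fst cong_K central_sound)
open scoped ComplexConjugate Classical

section
variable {G : Type*} [Group G] [Finite G] {p : ℕ} [hp : Fact p.Prime] {x : G} (h : Ctx p x)
  {lo : ℕ} (B : Blk p x (Nat.card h.H) lo) {n : ℕ} (hn : Nat.card G = n)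
include hn

theorem formula {t : G} (t2 : t * t = 1) : ∃ I : ℕ, I ≤ Nat.card h.K ∧
    (Nat.card h.H % 2 = 1 → I = 0) ∧
    ((n : ℤ) - ∑ χ ∈ B.R, (B.ent χ).1 * yv t χ ^ 2 * (n / (B.ent χ).2.1 : ℕ)) * Nat.card h.K =
      ((p * (Nat.card (centralizer ({t} : Set G)) * I) ^ 2 : ℕ) : ℤ) := by
  have tr := h.isPReg t2
  obtain ⟨I, I1, I2, I3⟩ := h.inv_formula t2
  have h1 := I3 x (mem_zpowers x) h.ne_one
  rw [B.sum' _ (fun χ ψ e => by simp only [e t tr, e 1 (IsPReg.one p)]) x (mem_zpowers x)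
    h.ne_one] at h1
  refine ⟨I, I1, fun e => I2.2 fun v _ hv => ?_, Int.cast_injective (α := ℂ) ?_⟩
  · have := orderOf_dvd_natCard _ (h.neg_one_mem hv)
    rw [h.orderOf_neg_one] at this
    omega
  push_cast
  rw [← h1, hn, mul_right_comm, mul_sub, mul_sum]
  congr 2
  · simp
  refine sum_congr rfl fun χ hχ => ?_
  rw [yv_spec t2, ← Int.natCast_div, Int.cast_natCast,
    Nat.cast_div (hn ▸ irr_degree_dvd_card χ.2 (B.deg χ hχ)) (B.deg χ hχ ▸ irr_one_ne_zero χ.2),
    B.deg χ hχ]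
  ring

variable [NS G]

theorem invG_sound {l : List (IrrCharacter G)} (hl : l.Perm B.R.toList) {t : G}
    (ht : orderOf t = 2) :
    invG n p (Nat.card h.H) (Nat.card h.K) (Nat.card (centralizer ({t} : Set G)))
      (l.map B.ent) = true := by
  have t1 : t ≠ 1 := by rintro rfl; simp at ht
  have t2 := sq_eq_one_of_orderOf ht
  have tr := h.isPReg t2
  set c := Nat.card (centralizer ({t} : Set G)) with hc
  simp only [invG, Bool.and_eq_true, beq_iff_eq, Bool.or_eq_true, bne_iff_ne]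
  refine ⟨?_, Vl_fst B l t ▸ vs_sound _ _ _ _ _ (fun w hw => ?_) zero_le_one ?_ ?_ ?_⟩
  · by_contra! e
    exact e.1 (Nat.mod_eq_zero_of_dvd (ht ▸ h.dvd_K tr (Nat.dvd_of_mod_eq_zero e.2)))
  · obtain ⟨χ, hχ, rfl⟩ := List.mem_map.1 hw
    have hχ' := (B.mem_R hl).2 hχ
    obtain ⟨k, k1, k2, k3⟩ := inv_val (B.mem χ hχ').2 (B.deg χ hχ') t2 t1
    have k4 := yv_eq k3
    refine ⟨?_, B.mu_pos χ hχ'⟩
    simp only [okv, Bool.and_eq_true, decide_eq_true_eq, beq_iff_eq]
    refine ⟨by omega, Int.emod_eq_zero_of_dvd ?_, Int.emod_eq_zero_of_dvd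
      (int_dvd_of_isIntegral_div (by omega) ?_)⟩
    · have k5 : (4 : ℤ) ∣ (B.ent χ).2.1 - yv t χ := ⟨k, by omega⟩
      by_cases e : c % p = 0
      · have k6 := cong_K h t2 (Nat.dvd_of_mod_eq_zero e) (B.mem χ hχ').1
        rw [B.dg_ent hl hχ] at k6
        rw [beq_iff_eq.2 e, cond_true, Nat.cast_mul]
        exact IsCoprime.mul_dvd (Nat.isCoprime_iff_coprime.2 (Nat.Coprime.pow_left 2
          ((Nat.coprime_primes Nat.prime_two hp.out).2 h.odd.symm))) k5 k6
      · rwa [beq_eq_false_iff_ne.2 e, cond_false]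
    · have := isIntegral_centralChar χ.2 t
      rw [yv_spec t2, B.deg χ hχ'] at this
      rw [← hn, ← (centralizer {t}).index_mul_card, ← hc, Nat.mul_div_cancel _ Nat.card_pos]
      exact_mod_cast this
  · have := B.lin h tr
    simp only [yv_spec t2] at this
    rw [Vl, List.map_map, ← B.sum_R hl, neg_add_eq_zero]
    exact_mod_cast this.symm
  · have := B.col_le tr
    simp only [yv_spec t2, Complex.norm_intCast, sq_abs] at this
    rw [Vl, List.map_map, ← B.sum_R hl]
    exact_mod_cast this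
  · obtain ⟨I, I1, I2, h2⟩ := formula h B hn t2
    rw [Vl, List.map_map, ← B.sum_R hl]
    simp only [Function.comp, Bool.and_eq_true, finI, h2, beq_iff_eq,
      List.any_eq_true, List.mem_range, Bool.or_eq_true, Bool.not_eq_true', bne_iff_ne]
    refine ⟨Int.emod_eq_zero_of_dvd (Int.natCast_dvd_natCast.2 ⟨I ^ 2, by ring⟩), I, ?_, rfl,
      Or.inl trivial⟩
    split_ifs with e
    · rw [I2 e]; exact one_pos
    · omega

include h in
theorem exists_chc (hd : n ∣ 5515776) : ∃ t : G, orderOf t = 2 ∧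
    chc n p (Nat.card h.K) (Nat.card (centralizer ({t} : Set G))) = true := by
  by_cases e : Nat.card h.K % 2 = 0
  swap
  · obtain ⟨T, t, -, h3, h4⟩ := Ctx.exists_central (G := G) (Dvd.dvd.trans (by norm_num) four_dvd)
    refine ⟨t, h3, ?_⟩
    rw [chc, beq_eq_false_iff_ne.2 e, cond_false, beq_iff_eq]
    obtain ⟨i, -, hi⟩ := (Nat.dvd_prime_pow Nat.prime_two).1 (Nat.gcd_dvd_right n (2 ^ 9))
    rw [show 512 = 2 ^ 9 from rfl, hi]
    exact Nat.mod_eq_zero_of_dvd ((T.pow_dvd_card_of_pow_dvd_card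
      (hi ▸ hn ▸ Nat.gcd_dvd_left _ _)).trans (card_dvd_of_le h4))
  obtain ⟨T, t, -, h3, h4⟩ := Ctx.exists_central (G := h.K) (Nat.dvd_of_mod_eq_zero e)
  refine ⟨t, by rwa [orderOf_coe], ?_⟩
  let y : centralizer ({(t : G)} : Set G) :=
    ⟨x, mem_centralizer_singleton_iff.2 (h.mem_K.1 t.2).1⟩
  have hy : orderOf y = p := by rw [← orderOf_coe]; exact h.ord
  obtain ⟨f, n, f1, f2, -, f3, -⟩ := H5.MT.sylow_cyc hp.out hy fun k =>
    h.nsq (k.trans (card_subgroup_dvd_card _))
  set Z := (centralizer ({y} : Set _)).map (centralizer ({(t : G)} : Set G)).subtype with hZ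
  have z1 : Nat.card Z = Nat.card (centralizer ({y} : Set _)) := card_subtype _ _
  have z2 : Nat.card Z ∣ p * Nat.card h.K := by
    rw [← h.card_C]
    refine card_dvd_of_le ?_
    rintro _ ⟨g, hg, rfl⟩
    exact mem_centralizer_singleton_iff.2
      (congrArg Subtype.val (mem_centralizer_singleton_iff.1 hg))
  have z3 : p ∣ Nat.card Z := by
    rw [z1]
    exact hy.symm.dvd.trans (orderOf_dvd_natCard _ (mem_centralizer_singleton_iff.2 rfl))
  have z4 : (Nat.card h.K).gcd 512 ∣ Nat.card Z := by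
    obtain ⟨i, -, hi⟩ := (Nat.dvd_prime_pow Nat.prime_two).1
      (Nat.gcd_dvd_right (Nat.card h.K) (2 ^ 9))
    have h5 : 2 ^ i ∣ Nat.card T := T.pow_dvd_card_of_pow_dvd_card (hi ▸ Nat.gcd_dvd_left _ _)
    rw [show 512 = 2 ^ 9 from rfl, hi]
    refine (h5.trans (card_subtype h.K T).symm.dvd).trans (card_dvd_of_le ?_)
    rintro _ ⟨g, hg, rfl⟩
    exact ⟨⟨g, mem_centralizer_singleton_iff.2 (congrArg Subtype.val
      (mem_centralizer_singleton_iff.1 (h4 hg)))⟩, mem_centralizer_singleton_iff.2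
        (Subtype.ext (h.mem_K.1 g.2).1.symm), rfl⟩
  obtain ⟨j, hj⟩ := z3
  rw [← z1, hj] at f3
  rw [hj] at z2 z4
  have j1 : j ∣ Nat.card h.K := Nat.dvd_of_mul_dvd_mul_left hp.out.pos z2
  have j2 : (Nat.card h.K).gcd 512 ∣ j := (h.cop_K.coprime_dvd_left
    (Nat.gcd_dvd_left _ _)).dvd_of_dvd_mul_left z4
  have p1 := hp.out.one_lt
  have f0 : 0 < f := Nat.pos_of_dvd_of_pos f1 (by omega)
  have j0 : 0 < j := Nat.pos_of_dvd_of_pos j1 Nat.card_pos
  simp only [chc, beq_iff_eq.2 e, cond_true, sy, Bool.and_eq_true, beq_iff_eq, List.any_eq_true,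
    List.mem_range'_1, ← f3]
  refine ⟨Nat.mod_eq_zero_of_dvd (((mul_dvd_mul_left p j2).mul_left _).mul_left _), j,
    mem_DV (j1.trans ((hn ▸ card_subgroup_dvd_card _).trans hd)), Nat.mod_eq_zero_of_dvd j1,
    Nat.mod_eq_zero_of_dvd j2, f, ⟨f0, ?_⟩, Nat.mod_eq_zero_of_dvd f1, Nat.mul_mod_left _ _, ?_⟩
  · have := Nat.le_of_dvd (by omega) f1
    omega
  · rwa [Nat.mul_div_cancel _ (by positivity)]

include h in
theorem alive_sound (hd : n ∣ 5515776) {flt : ℕ → Bool}
    (hf : ∀ χ : IrrCharacter G, flt (dg χ) = true) {ex : List Ent → Bool}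
    (hx : ∀ lo (B : Blk p x (Nat.card h.H) lo) (l : List _), l.Perm B.R.toList →
      ex (l.map B.ent) = true) : alive n p (Nat.card h.H) (Nat.card h.K) flt ex = true := by
  obtain ⟨B⟩ := h.exists_blk
  obtain ⟨t, ht, hc⟩ := exists_chc h hn hd
  have h2 : n / (p * Nat.card h.K) * (p * Nat.card h.K) = Nat.card G := by
    rw [hn]
    exact Nat.div_mul_cancel (h.card_C ▸ hn ▸ card_subgroup_dvd_card _)
  have hi : (centralizer ({x} : Set G)).index = n / (p * Nat.card h.K) := by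
    have := (centralizer ({x} : Set G)).index_mul_card
    rw [h.card_C, ← h2] at this
    exact Nat.eq_of_mul_eq_mul_right (Nat.mul_pos hp.out.pos Nat.card_pos) this
  refine H1.B23.blk2_sound B h le_rfl (DV_sorted.filter _) (fun χ hχ => ?_) (fun χ hχ h3 => ?_)
    (by have := hn ▸ B.deg_le; omega) (by simp) (by simp) fun l hl => ?_
  · have e1 := dg_of (B.deg χ hχ)
    have e2 : (B.ent χ).2.1 ∣ n := hn ▸ e1 ▸ dg_dvd χ
    simp only [List.mem_filter, Bool.and_eq_true, bne_iff_ne, decide_eq_true_eq, beq_iff_eq]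
    exact ⟨mem_DV (e2.trans hd), Nat.mod_eq_zero_of_dvd e2,
      fun e => B.not_dvd χ hχ h (Nat.dvd_of_mod_eq_zero e),
      two_le_deg (B.mem χ hχ).2 (B.deg χ hχ), hn ▸ B.deg_sq_lt χ hχ, e1 ▸ hf χ⟩
  · refine int_dvd_of_isIntegral_div ?_ ?_
    · exact_mod_cast (dg_of (B.deg χ hχ) ▸ dg_pos χ).ne'
    · have := (isIntegral_centralChar χ.2 x).neg
      rw [hi, B.val χ hχ h3 x (mem_zpowers x) h.ne_one, B.deg χ hχ] at this
      generalize n / (p * Nat.card h.K) = q at this ⊢
      convert this using 1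
      push_cast
      ring
  · have e : Nat.card (centralizer ({t} : Set G)) ∣ n := hn ▸ card_subgroup_dvd_card _
    simp only [Bool.and_eq_true, List.any_eq_true, List.mem_filter, beq_iff_eq]
    exact ⟨hx _ B l hl, central_sound h B hl h2, _, ⟨mem_DV (e.trans hd), Nat.mod_eq_zero_of_dvd e, hc⟩,
      invG_sound h B hn hl ht⟩

end

variable {S : Type*} [Group S] [Finite S] [NS S]

theorem a7_sound {n : ℕ} (hn : Nat.card S = n) (hd : n ∣ 5515776) (h7 : 7 ∣ n) {flt : ℕ → Bool}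
    (hf : ∀ χ : IrrCharacter S, flt (dg χ) = true) : a7 n flt ≠ true := fun k => by
  obtain ⟨y, g⟩ := exists_ctx (G := S) (p := 7) (by norm_num) (hn ▸ h7)
    fun e => absurd (e.trans (hn ▸ hd)) (by norm_num)
  have e1 : Nat.card g.H ∈ Nat.divisors 6 := Nat.mem_divisors.2
    ⟨⟨g.H.index, by have := g.card_H_mul; omega⟩, by norm_num⟩
  have e2 := g.two_le_e
  have e3 : Nat.card g.H ∈ [2, 3, 6] := by
    rw [show Nat.divisors 6 = {1, 2, 3, 6} by decide] at e1
    simp only [mem_insert, mem_singleton, List.mem_cons, List.not_mem_nil] at e1 ⊢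
    omega
  have h1 : n = Nat.card (Sylow 7 S) * (7 * Nat.card g.H * Nat.card g.K) := by
    rw [← hn, ← g.card_eq]; ring
  have k := List.all_eq_true.1 (List.all_eq_true.1 k _ e3) _
    (mem_DV ((hn ▸ card_subgroup_dvd_card g.K).trans hd))
  have A0 : 0 < Nat.card g.K := Nat.card_pos
  have := card_sylow_modEq_one 7 S
  rw [alive_sound g hn hd hf fun _ _ _ _ => rfl, h1, Nat.mul_mod_left,
    Nat.mul_div_cancel _ (by positivity), this] at k
  simp at k

variable [Fact (Nat.Prime 19)] {x : S} (h : Ctx 19 x) (hK : Nat.card h.K = 1)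
include hK

theorem no18 (hn : Nat.card S = 344736) (he : Nat.card h.H = 18) : False := by
  refine a7_sound hn (by norm_num) (by norm_num) (fun χ => ?_) K3
  obtain ⟨B⟩ := h.exists_blk
  rw [List.contains_iff_mem]
  by_cases k : χ ∈ B0 19 S
  swap
  · simp [Nat.mod_eq_zero_of_dvd (h.dvd_dg hK k)]
  rcases B.cover χ k with rfl | ⟨θ, h2, h3⟩
  · simp [dg_triv]
  rw [regF_dg h3, dg_of (B.deg θ h2)]
  rcases B.enum with ⟨-, h4, h5⟩ | ⟨_, -, t, _, _, _, t2, h4, -⟩
  · obtain ⟨-, -, m, h6, -⟩ := B.opt θ (h4 ▸ h2)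
    have h7 := (single_le_sum (f := fun χ => (B.ent χ).1 ^ 2) (fun _ _ => sq_nonneg _)
      (h4 ▸ h2)).trans h5.le
    replace h7 := h7.trans_eq (congrArg Nat.cast he)
    push_cast at h6 h7
    have h8 : (B.ent θ).1 ≤ 4 := by nlinarith
    have h9 : -4 ≤ (B.ent θ).1 := by nlinarith
    simp only [List.mem_cons, List.not_mem_nil]
    generalize (B.ent θ).1 = a at h6 h8 h9
    interval_cases a <;> omega
  · rw [he] at h4
    omega

theorem no9 (hn : Nat.card S = 172368) (he : Nat.card h.H = 9) : False := by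
  by_cases k : ∃ χ : IrrCharacter S, dg χ = 48
  · obtain ⟨χ, k⟩ := k
    have := alive_sound h hn (by norm_num) (flt := fun _ => true) (fun _ => rfl)
      (ex := fun L => (L.map fun a => a.2.1).contains 48) fun _ B l hl =>
        List.contains_iff_mem.2 (k ▸ (B.dg_mem hl (by_contra fun e => absurd (k ▸ h.dvd_dg hK e)
          (by norm_num))).resolve_left (by omega))
    rw [he, hK, K5] at this
    simp at this
  · exact a7_sound hn (by norm_num) (by norm_num) (flt := fun d => d != 48)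
      (fun χ => bne_iff_ne.2 fun e => k ⟨χ, e⟩) K4

end Cfsg.Agent.H6.X38

namespace Cfsg.Agent.L0.U3

open Cfsg Cfsg.Agent.H2.D1 Cfsg.Agent.H6.X38 Finset Subgroup

theorem x38 [Fact (Nat.Prime 19)] (S : Type*) [Group S] [Finite S] [NS S]
    (hd : Nat.card S ∣ 5515776) {x : S} (h : Ctx 19 x) :
    Nat.card S = 5515776 ∧ Nat.card h.K = 1 ∧ Nat.card h.H = 3 := by
  have h1 := h.card_eq
  have h2 := card_sylow_modEq_one 19 S
  have e2 := h.two_le_e
  have e1 : Nat.card h.H ∈ Nat.divisors 18 := Nat.mem_divisors.2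
    ⟨⟨h.H.index, by have := h.card_H_mul; omega⟩, by norm_num⟩
  have e3 : Nat.card h.H ∈ [2, 3, 6, 9, 18] := by
    rw [show Nat.divisors 18 = {1, 2, 3, 6, 9, 18} by decide] at e1
    simp only [mem_insert, mem_singleton, List.mem_cons, List.not_mem_nil] at e1 ⊢
    omega
  have hA := mem_DV ((card_subgroup_dvd_card h.K).trans hd)
  have k := alive_sound h h1.symm (h1 ▸ hd) (flt := fun _ => true) (fun _ => rfl)
    (ex := fun _ => true) fun _ _ _ _ => rfl
  have key : al (Nat.card (Sylow 19 S)) (Nat.card h.H) = true → Nat.card (Sylow 19 S) = 1008 ∧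
      (Nat.card h.H = 18 ∨ Nat.card h.H = 9 ∧ Nat.card h.K = 1) := fun e => by
    have := List.all_eq_true.1 e _ hA
    rw [k, Nat.mod_eq_zero_of_dvd (h1 ▸ hd)] at this
    simpa using this
  have h3 := List.all_eq_true.1 K6 (Nat.card (Sylow 19 S)) (mem_DV (Dvd.dvd.trans ⟨_, by
    rw [← h1, mul_assoc, mul_assoc]⟩ hd))
  rw [h2] at h3
  simp only [Nat.one_mod, bne_self_eq_false, Bool.false_or, List.contains_iff_mem, List.mem_cons,
    List.not_mem_nil, or_false] at h3
  rcases h3 with e | e | e | e | e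
  · exact absurd e (H5.MW.syl_ne h)
  · have := key (e ▸ List.all_eq_true.1 K96 _ e3)
    omega
  · have := key (e ▸ List.all_eq_true.1 K324 _ e3)
    omega
  · obtain ⟨-, e' | ⟨e', e''⟩⟩ := key (by
      rw [e]
      by_cases e' : Nat.card h.H = 6
      · rw [e', K1008']
      · exact List.all_eq_true.1 K1008 _ (by
          simp only [List.mem_cons, List.not_mem_nil, or_false] at e3 ⊢; omega))
    · exfalso
      rw [e, e'] at k h1
      have h4 : Nat.card h.K ∈ Nat.divisors 16 := Nat.mem_divisors.2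
        ⟨Nat.dvd_of_mul_dvd_mul_left (k := 1008 * 19 * 18) (by norm_num) (h1 ▸ hd), by norm_num⟩
      rw [show Nat.divisors 16 = {1, 2, 4, 8, 16} by decide] at h4
      simp only [mem_insert, mem_singleton] at h4
      rcases h4 with a | a | a | a | a
      · exact no18 h a (by rw [← h1, a]) e'
      all_goals rw [a] at k
      exacts [Bool.false_ne_true (L2.symm.trans k), Bool.false_ne_true (L4.symm.trans k),
        Bool.false_ne_true (L8.symm.trans k), Bool.false_ne_true (L16.symm.trans k)]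
    · exact (no9 h e'' (by rw [← h1, e, e', e'']) e').elim
  · rw [e, mul_assoc] at h1
    have h4 : Nat.card h.H * Nat.card h.K ∣ 3 :=
      Nat.dvd_of_mul_dvd_mul_left (k := 96768 * 19) (by norm_num) (h1 ▸ hd)
    have h5 : Nat.card h.H = 3 := ((Nat.dvd_prime Nat.prime_three).1
      ((Dvd.intro _ rfl).trans h4)).resolve_left (by omega)
    have h6 : Nat.card h.K = 1 := by
      rw [h5] at h4
      exact Nat.dvd_one.1 (Nat.dvd_of_mul_dvd_mul_left (k := 3) (by norm_num) h4)
    exact ⟨by rw [← h1, h5, h6]; rfl, h6, h5⟩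

end Cfsg.Agent.L0.U3
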