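import Cfsg.Agent.H6.B24F1
import Cfsg.Agent.H6.U3X4
import Cfsg.Agent.H8.PM4
import Cfsg.Agent.H8.B24Uf
import Cfsg.Agent.H5.MwE

/-! The principal `5`-block of a simple group of order `244823040`. -/

set_option autoImplicit false

namespace Cfsg.Agent.H6.B24

open Cfsg Cfsg.Agent.H2.D1 Cfsg.Agent.H3 Finset Subgroup
open Cfsg.Agent.H6.B22 (central cong_K central_sound)
open scoped ComplexConjugate Classical

variable {G : Type*} [Group G] [Finite G]

theorem top_of {p : ℕ} [Fact p.Prime] {x : G} (h : Ctx p x) (he : Nat.card h.H + 1 = p) :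
    h.H = ⊤ := by
  have h1 := h.card_H_mul
  have h2 : 0 < Nat.card h.H := Nat.card_pos
  exact index_eq_one.1 (Nat.eq_of_mul_eq_mul_left h2 (by omega))

theorem deg_const {p : ℕ} [hp : Fact p.Prime] {x : G} (h : Ctx p x) {χ : IrrCharacter G} {a : ℤ}
    (ha : ∀ u : (ZMod p)ˣ, h.co u χ = a) : (dg χ : ℤ) = p * h.mu χ 0 + (p - 1) * a := by
  have := h.deg_eq χ
  simp only [ha, sum_const, card_univ, ZMod.card_units, dg_eq, nsmul_eq_mul,
    Nat.cast_sub hp.out.one_le] at this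
  exact_mod_cast this

theorem flt11 {y : G} (h : Ctx 11 y) (hH : Nat.card h.H = 10) (hK : Nat.card h.K = 1)
    (χ : IrrCharacter G) : dg χ % 11 ∈ [0, 1, 10] ∧ 11 * h.mu χ 0 ≤ dg χ + 10 := by
  have h1 := deg_const h (χ := χ) fun u => h.co_mul χ (v := 1) (top_of h (by omega) ▸ mem_top _)
  have h2 := H8.PM.co_bound h hK χ (1 : (ZMod 11)ˣ)
  simp only [List.mem_cons, List.not_mem_nil]
  push_cast at h1 h2
  omega

variable [NS G]

theorem flt23 {x : G} (h : Ctx 23 x) (hH : Nat.card h.H = 11) (hK : Nat.card h.K = 1)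
    (χ : IrrCharacter G) : dg χ % 23 ∈ [0, 1, 11, 12, 22] := by
  by_cases k : χ ∈ B0 23 G
  swap
  · simp [Nat.mod_eq_zero_of_dvd (h.dvd_dg hK k)]
  by_cases k1 : χ = triv
  · simp [k1, dg_triv]
  have h1 := H5.MW.typ_sound h (Nat.zero_le _) dvd_rfl k k1
  have h2 := H8.PM.co_bound h hK χ (1 : (ZMod 23)ˣ)
  have h3 := H8.PM.co_bound h hK χ (H5.MW.gen h)
  have h4 := H8.PM.co_sub h hK χ (1 : (ZMod 23)ˣ) (H5.MW.gen h)
  have h5 := H8.PM.co_sub h hK χ (H5.MW.gen h) (1 : (ZMod 23)ˣ)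
  rw [hH] at h1
  simp only [List.mem_cons, List.not_mem_nil]
  rcases h2 with e | e | e <;> rcases h3 with e' | e' | e' <;> rw [e, e'] at h1 h4 h5 <;>
    simp [H5.MW.typ, H5.MW.exc, okm] at h1 h4 h5 <;> omega

/-- The principal `5`-block. -/
structure F5 (z : G) (a b c d : IrrCharacter G) : Prop where
  h : Ctx 5 z
  da : dg a = 1771
  db : dg b = 5796
  dc : dg c = 2024
  dd : dg d = 5544
  b0 : B0 5 G = {triv, a, b, c, d}
  val : ∀ w, ¬ IsPReg 5 w →
    (a : G → ℂ) w = 1 ∧ (b : G → ℂ) w = 1 ∧ (c : G → ℂ) w = -1 ∧ (d : G → ℂ) w = -1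
  e4 : Nat.card h.H = 4
  hA : Nat.card h.K ∈ [2, 12, 32, 192]
  co : ∀ u : (ZMod 5)ˣ, h.co u a = -1 ∧ h.co u b = -1 ∧ h.co u c = 1 ∧ h.co u d = 1

section
variable {x y z j : G} (hn : Nat.card G = 244823040) (hx : Ctx 23 x) (hy : Ctx 11 y)
  (hH : Nat.card hy.H = 10) (hK : Nat.card hy.K = 1) (g : Ctx 5 z) (hj : orderOf j = 2)
  (hjy : j * y * j⁻¹ = y⁻¹) (hjz : j ∈ g.K)
include hn hx hy hH hK g hj hjz

omit hH in
theorem cen_mem : Nat.card (centralizer ({j} : Set G)) % 10 = 0 ∧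
    Nat.card (centralizer ({j} : Set G)) ∈ Cs := by
  have t1 : j ≠ 1 := by rintro rfl; simp at hj
  have t2 := sq_eq_one_of_orderOf hj
  have a2 : 2 ∣ Nat.card (centralizer ({j} : Set G)) :=
    hj ▸ orderOf_dvd_natCard _ (mem_centralizer_singleton_iff.2 rfl)
  have a5 : 5 ∣ Nat.card (centralizer ({j} : Set G)) :=
    g.ord ▸ orderOf_dvd_natCard _ (mem_centralizer_singleton_iff.2 (g.mem_K.1 hjz).1)
  have a11 : ¬ 11 ∣ Nat.card (centralizer ({j} : Set G)) :=
    fun e => t1 (hy.eq_one hK (hy.isPReg t2) e)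
  have a23 : ¬ 23 ∣ Nat.card (centralizer ({j} : Set G)) :=
    fun e => t1 (hx.eq_one (H5.MW.cent23 (Or.inr hn) hx).1 (hx.isPReg t2) e)
  have := List.all_eq_true.1 Cs_all _ (H5.MW.mem_dv dvd_rfl
    (hn ▸ card_subgroup_dvd_card (centralizer ({j} : Set G))))
  simp only [Bool.or_eq_true, bne_iff_ne, beq_iff_eq, List.contains_iff_mem] at this
  exact ⟨by omega, ((this.resolve_left (by omega)).resolve_left (by omega)).resolve_left (by omega)⟩

omit hH in
theorem As_mem : Nat.card g.K % 2 = 0 ∧ Nat.card g.K ∈ As (Nat.card g.H) := by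
  have a2 : 2 ∣ Nat.card g.K := hj ▸ orderOf_dvd_natCard _ hjz
  have a11 := H5.MW.not_dvd_K' hy g (by norm_num) (by rw [hK]; norm_num)
  have a23 := H5.MW.not_dvd_K' hx g (by norm_num)
    (by rw [(H5.MW.cent23 (Or.inr hn) hx).1]; norm_num)
  have h1 : 244823040 = Nat.card (Sylow 5 G) * (5 * Nat.card g.H * Nat.card g.K) := by
    rw [← hn, ← g.card_eq]; ring
  have k := List.all_eq_true.1 (List.all_eq_true.1 As_all _ (H5.MW.e5_mem g)) _
    (H5.MW.mem_dv dvd_rfl (hn ▸ card_subgroup_dvd_card g.K))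
  have A0 : 0 < Nat.card g.K := Nat.card_pos
  have H0 : 0 < Nat.card g.H := Nat.card_pos
  have h2 : Nat.card (Sylow 5 G) % 5 = 1 := card_sylow_modEq_one 5 G
  have h3 : 244823040 % (5 * Nat.card g.H * Nat.card g.K) = 0 := by
    rw [h1, Nat.mul_mod_left]
  have h4 : 244823040 / (5 * Nat.card g.H * Nat.card g.K) % 5 = 1 := by
    rw [h1, Nat.mul_div_cancel _ (by positivity), h2]
  simp only [Bool.or_eq_true, bne_iff_ne, beq_iff_eq, List.contains_iff_mem, h3, h4] at k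
  have b2 : Nat.card g.K % 2 = 0 := by omega
  have b11 : Nat.card g.K % 11 ≠ 0 := by omega
  have b23 : Nat.card g.K % 23 ≠ 0 := by omega
  exact ⟨b2, by simpa [b2, b11, b23] using k⟩

include hjy in
theorem alive_sound (B : Blk 5 z (Nat.card g.H) (bif Nat.card g.K == 1 then 0 else 2))
    {C : List ℕ} (hC : Nat.card (centralizer ({j} : Set G)) ∈ C)
    {Q : ℕ → ℕ → List (Ent × ℤ) → Bool}
    (hQ : ∀ l : List _, l.Perm B.R.toList → Q (Nat.card g.K)
      (Nat.card (centralizer ({j} : Set G))) (l.map fun χ => (B.ent χ, yv j χ)).reverse = true) :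
    alive (Nat.card g.H) C Q = true := by
  have t1 : j ≠ 1 := by rintro rfl; simp at hj
  have t2 := sq_eq_one_of_orderOf hj
  have tr := g.isPReg t2
  obtain ⟨c10, -⟩ := cen_mem hn hx hy hK g hj hjz
  obtain ⟨A2, hA⟩ := As_mem hn hx hy hK g hj hjz
  obtain ⟨K23, H23, -⟩ := H5.MW.cent23 (Or.inr hn) hx
  have h2 : 244823040 / (5 * Nat.card g.K) * (5 * Nat.card g.K) = Nat.card G := by
    rw [hn]
    exact Nat.div_mul_cancel (g.card_C ▸ hn ▸ card_subgroup_dvd_card _)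
  have hi : (centralizer ({z} : Set G)).index ∣ 24482304 := by
    have := (centralizer ({z} : Set G)).index_mul_card
    obtain ⟨k, hk⟩ := Nat.dvd_of_mod_eq_zero A2
    rw [g.card_C, hn, hk] at this
    exact ⟨k, by linarith⟩
  set c := Nat.card (centralizer ({j} : Set G)) with hc
  refine H1.B23.blk2_sound B g (by rw [beq_eq_false_iff_ne.2 (by omega), cond_false]) D5_sorted
    (fun χ hχ => ?_) (fun χ hχ h3 => ?_) (by have := hn ▸ B.deg_le; omega) (by simp) (by simp)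
    fun l hl => ?_
  · have e1 := dg_of (B.deg χ hχ)
    have e2 : (B.ent χ).2.1 ∣ 244823040 := hn ▸ e1 ▸ dg_dvd χ
    have k := List.all_eq_true.1 D5_all _ (H5.MW.mem_dg' dvd_rfl e2
      (two_le_deg (B.mem χ hχ).2 (B.deg χ hχ)) (hn ▸ B.deg_sq_lt χ hχ).le)
    have k1 : flt (B.ent χ).2.1 = true := by
      rw [flt, Bool.and_eq_true, List.contains_iff_mem, List.contains_iff_mem, ← e1]
      exact ⟨(flt11 hy hH hK χ).1, flt23 hx H23 K23 χ⟩
    have k2 : (B.ent χ).2.1 % 5 ≠ 0 := fun e => B.not_dvd χ hχ g (Nat.dvd_of_mod_eq_zero e)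
    simpa [k1, k2] using k
  · obtain ⟨q, hq⟩ := hi
    refine int_dvd_of_isIntegral_div ?_ ?_
    · exact_mod_cast (dg_of (B.deg χ hχ) ▸ dg_pos χ).ne'
    · have := (isIntegral_centralChar χ.2 z).neg.nsmul q
      rw [B.val χ hχ h3 z (mem_zpowers z) g.ne_one, B.deg χ hχ] at this
      rw [hq]
      convert this using 1
      push_cast
      ring
  refine List.any_eq_true.2 ⟨c, hC, H1.B23.vs_sound B.ent (yv j) l _ _ _ _ (fun χ hχ => ?_)
    ?_ ?_ ?_⟩
  · have hχ' := (B.mem_R hl).2 hχ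
    suffices k : okv c (B.ent χ) (yv j χ) = true from
      ⟨k, mem_cand (two_le_deg (B.mem χ hχ').2 (B.deg χ hχ')) k⟩
    have e1 := B.dg_ent hl hχ
    simp only [okv, Bool.and_eq_true, Nat.ble_eq, beq_iff_eq]
    refine ⟨?_, Int.emod_eq_zero_of_dvd ?_, Int.emod_eq_zero_of_dvd
      (int_dvd_of_isIntegral_div (by have := dg_pos χ; omega) ?_), ?_⟩
    · have h5 := B.col_le tr
      simp only [yv_spec t2, Complex.norm_intCast, sq_abs] at h5
      have h6 := single_le_sum (f := fun χ => ((B.ent χ).2.2 : ℝ) * (yv j χ : ℝ) ^ 2)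
        (fun _ _ => by positivity) hχ'
      have h7 : (1 : ℝ) ≤ (B.ent χ).2.2 := by exact_mod_cast B.mu_pos χ hχ'
      have h8 : (yv j χ : ℝ) ^ 2 ≤ c := by nlinarith [sq_nonneg (yv j χ : ℝ)]
      zify
      rw [sq_abs]
      exact_mod_cast h8
    · have := H5.MW.four_p g (B.mem χ hχ').1 t2 hjz (yv_spec t2 χ)
      rwa [e1] at this
    · have := isIntegral_centralChar χ.2 j
      rw [yv_spec t2, B.deg χ hχ'] at this
      rw [← hn, ← (centralizer {j}).index_mul_card, ← hc, Nat.mul_div_cancel _ Nat.card_pos]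
      exact_mod_cast this
    · have h5 := H5.MW.abs_le_mu hy χ hjy (yv_spec t2 χ)
      have h6 := (flt11 hy hH hK χ).2
      rw [← Int.natCast_natAbs] at h5
      rw [← e1]
      omega
  · have := B.lin g tr
    simp only [yv_spec t2] at this
    rw [← B.sum_R hl, zero_add]
    exact_mod_cast this
  · have := B.col_le tr
    simp only [yv_spec t2, Complex.norm_intCast, sq_abs] at this
    rw [← B.sum_R hl]
    zify
    simp only [sq_abs]
    exact_mod_cast this
  · obtain ⟨I, I1, I2, h5⟩ := X38.formula g B hn t2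
    refine List.any_eq_true.2 ⟨_, List.mem_filter.2 ⟨hA, central_sound g B hl h2⟩, ?_⟩
    rw [List.append_nil, hQ l hl, ← B.sum_R hl]
    push_cast at h5
    simp only [Bool.and_eq_true, finI, beq_iff_eq, and_true,
      List.any_eq_true, List.mem_range, Bool.or_eq_true, Bool.not_eq_true', bne_iff_ne]
    push_cast
    rw [h5]
    refine ⟨Int.emod_eq_zero_of_dvd ⟨I ^ 2, by ring⟩, I, ?_, rfl, Or.inl trivial⟩
    split_ifs with e
    · rw [I2 e]; exact one_pos
    · omega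

include hjy in
theorem shape : Nat.card g.H = 4 ∧ Nat.card g.K ∈ [2, 12, 32, 192] ∧
    ∃ a b c d : IrrCharacter G, B0 5 G = {triv, a, b, c, d} ∧ dg b = 5796 ∧ dg d = 5544 ∧
      (dg a = 1771 ∧ dg c = 2024 ∨ dg a = 506 ∧ dg c = 759) ∧
      ∀ u : (ZMod 5)ˣ, g.co u a = -1 ∧ g.co u b = -1 ∧ g.co u c = 1 ∧ g.co u d = 1 := by
  obtain ⟨B⟩ := g.exists_blk
  obtain ⟨-, hc⟩ := cen_mem hn hx hy hK g hj hjz
  have e4 : Nat.card g.H = 4 := by
    have := H5.MW.e5_mem g
    simp only [List.mem_cons, List.not_mem_nil, or_false] at this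
    refine this.resolve_left fun e => ?_
    have k := alive_sound hn hx hy hH hK g hj hjy hjz B hc (Q := fun _ _ _ => true) fun _ _ => rfl
    rw [e, K2] at k
    exact Bool.false_ne_true k
  obtain ⟨l, hl, k⟩ : ∃ l : List _, l.Perm B.R.toList ∧ sh (Nat.card g.K)
      (Nat.card (centralizer ({j} : Set G))) (l.map fun χ => (B.ent χ, yv j χ)).reverse = false := by
    by_contra! e
    rw [← List.take_append_drop 40 Cs, List.mem_append] at hc
    rcases hc with hc | hc <;>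
      have k := alive_sound hn hx hy hH hK g hj hjy hjz B hc (Q := sh) fun l hl =>
        (Bool.not_eq_false _).mp (e l hl)
    · rw [e4, K4a] at k
      exact Bool.false_ne_true k
    · rw [e4, K4b] at k
      exact Bool.false_ne_true k
  simp only [sh, Bool.not_eq_false', Bool.and_eq_true, List.contains_iff_mem, List.map_reverse,
    List.map_map] at k
  obtain ⟨k1, k2⟩ := k
  refine ⟨e4, k1, ?_⟩
  have hT := top_of g (by omega)
  have co : ∀ χ ∈ l, (B.ent χ).2.2 = 1 → ∀ u : (ZMod 5)ˣ, g.co u χ = (B.ent χ).1 :=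
    fun χ hχ h1 u => by
      have h2 := g.val_const (χ := χ) (a := g.co u χ)
        (fun v => g.co_mul χ (hT ▸ mem_top _)) (mem_zpowers z) g.ne_one
      rw [B.val χ ((B.mem_R hl).2 hχ) h1 z (mem_zpowers z) g.ne_one, neg_inj] at h2
      exact_mod_cast h2.symm
  have b0 : (∀ χ ∈ l, (B.ent χ).2.2 = 1) → B0 5 G = insert triv l.toFinset := fun h1 => by
    have h2 := B.sum (fun _ => 1) fun _ _ _ => rfl
    have h3 : B.R = l.toFinset := by
      ext χ
      rw [B.mem_R hl, List.mem_toFinset]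
    have h4 : triv ∉ B.R := fun e => (B.mem _ e).2 rfl
    rw [sum_congr (s₁ := B.R) (g := fun _ => (1 : ℂ)) rfl fun χ hχ => by
      rw [h1 χ ((B.mem_R hl).1 hχ), Nat.cast_one, mul_one]] at h2
    simp only [sum_const, nsmul_eq_mul, mul_one] at h2
    rw [← h3]
    refine (eq_of_subset_of_card_le (insert_subset one_mem_B0 fun χ hχ => (B.mem χ hχ).1) ?_).symm
    rw [card_insert_of_notMem h4, add_comm]
    exact le_of_eq (by exact_mod_cast h2)
  simp only [List.mem_cons, List.not_mem_nil, or_false, List.reverse_eq_iff,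
    List.reverse_cons, List.reverse_nil, List.nil_append, List.cons_append,
    List.map_eq_cons_iff, List.map_eq_nil_iff, Function.comp] at k2
  rcases k2 with ⟨a, _, rfl, ha, c, _, rfl, hc, d, _, rfl, hd, b, _, rfl, hb, rfl⟩ |
    ⟨a, _, rfl, ha, c, _, rfl, hc, d, _, rfl, hd, b, _, rfl, hb, rfl⟩
  all_goals
    have h1 : ∀ χ ∈ [a, c, d, b], (B.ent χ).2.2 = 1 := by simp [ha, hb, hc, hd]
    refine ⟨a, b, c, d, ?_, ?_, ?_, ?_, fun u => ?_⟩
    · rw [b0 h1]
      ext χ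
      simp only [mem_insert, List.mem_toFinset, List.mem_cons, List.not_mem_nil, mem_singleton]
      tauto
    · rw [B.dg_ent hl (by simp), hb]
    · rw [B.dg_ent hl (by simp), hd]
    · rw [B.dg_ent hl (χ := a) (by simp), B.dg_ent hl (χ := c) (by simp), ha, hc]
      simp
    · rw [co a (by simp) (h1 a (by simp)), co b (by simp) (h1 b (by simp)),
        co c (by simp) (h1 c (by simp)), co d (by simp) (h1 d (by simp)), ha, hb, hc, hd]
      simp

end

theorem inter7 {z w : G} (g : Ctx 5 z) (g7 : Ctx 7 w) (hA : Nat.card g.K ∈ [2, 12, 32, 192])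
    {a b c d : IrrCharacter G} (b0 : B0 5 G = {triv, a, b, c, d}) (hb : 7 ∣ dg b) (hd : 7 ∣ dg d)
    (h1 : dg a ≠ 1) (h2 : dg c ≠ 1) (h3 : dg a ≠ dg c)
    (co : ∀ u : (ZMod 5)ˣ, g.co u a = -1 ∧ g.co u b = -1 ∧ g.co u c = 1 ∧ g.co u d = 1)
    (v : (ZMod 7)ˣ) : 1 - (if a ∈ B0 7 G then g7.co v a else 0) +
      (if c ∈ B0 7 G then g7.co v c else 0) = 0 := by
  have k := H5.MW.inter g g7 (by norm_num) (by
    simp only [List.mem_cons, List.not_mem_nil, or_false] at hA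
    rcases hA with e | e | e | e <;> rw [e] <;> norm_num) (1 : (ZMod 5)ˣ) v
  obtain ⟨B⟩ := g7.exists_blk
  have kb : b ∉ B0 7 G := fun e => B22.not_dvd_dg g7 B e hb
  have kd : d ∉ B0 7 G := fun e => B22.not_dvd_dg g7 B e hd
  have e : B0 5 G ∩ B0 7 G = ({triv, a, c} : Finset _).filter (· ∈ B0 7 G) := by
    ext χ
    simp only [b0, mem_inter, mem_insert, mem_singleton, mem_filter]
    refine and_congr_left fun h => ⟨?_, by tauto⟩
    rintro (e | e | e | e | e)
    exacts [Or.inl e, Or.inr (Or.inl e), absurd (e ▸ h) kb, Or.inr (Or.inr e), absurd (e ▸ h) kd]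
  have n1 : triv ≠ a := fun e => h1 (e ▸ dg_triv)
  have n2 : triv ≠ c := fun e => h2 (e ▸ dg_triv)
  have n3 : a ≠ c := fun e => h3 (e ▸ rfl)
  rw [e, sum_filter, sum_insert (by simp [n1, n2]), sum_pair n3, if_pos one_mem_B0, g.co_one,
    g7.co_one, (co 1).1, (co 1).2.2.1] at k
  split_ifs at k ⊢ <;> linarith

theorem no759 {z w : G} (g : Ctx 5 z) (g7 : Ctx 7 w) (hA : Nat.card g.K ∈ [2, 12, 32, 192])
    {a b c d : IrrCharacter G} (b0 : B0 5 G = {triv, a, b, c, d}) (hb : 7 ∣ dg b) (hd : 7 ∣ dg d)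
    (h1 : dg a = 506) (h2 : dg c = 759)
    (co : ∀ u : (ZMod 5)ˣ, g.co u a = -1 ∧ g.co u b = -1 ∧ g.co u c = 1 ∧ g.co u d = 1) :
    False := by
  have k := inter7 g g7 hA b0 hb hd (by omega) (by omega) (by omega) co
  have nc : ∀ χ ∈ B0 7 G, dg χ = 506 ∨ dg χ = 759 →
      ¬ ∀ u : (ZMod 7)ˣ, g7.co u χ = g7.co (1 : (ZMod 7)ˣ) χ := fun χ hχ e h => by
    have h3 := deg_const g7 h
    have h4 := H8.PM.co_B0 g7 hχ (1 : (ZMod 7)ˣ)
    push_cast at h3 h4
    omega
  by_cases ha : a ∈ B0 7 G <;> by_cases hc : c ∈ B0 7 G <;>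
    simp only [ha, hc, if_true, if_false] at k
  · have hT : g7.H ≠ ⊤ := fun e => nc a ha (Or.inl h1) fun u => g7.co_mul a (e ▸ mem_top _)
    obtain ⟨_, _, θ, -, -, -, t1, -, t2⟩ := g7.exists_exc hT
    obtain ⟨τ, rfl⟩ : ∃ τ, θ τ = a := by
      by_contra! e
      exact nc a ha (Or.inl h1) (t2 a ha e)
    obtain ⟨σ, rfl⟩ : ∃ τ, θ τ = c := by
      by_contra! e
      exact nc c hc (Or.inr h2) (t2 c hc e)
    have := regF_dg (t1 τ σ)
    omega
  · exact nc a ha (Or.inl h1) fun u => by linarith [k u, k 1]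
  · exact nc c hc (Or.inr h2) fun u => by linarith [k u, k 1]
  · simpa using k 1

/-- The principal `5`-block, with an involution of `K` inverting `y`. -/
theorem f5' (hn : Nat.card G = 244823040) {x y : G} (hx : Ctx 23 x) (hy : Ctx 11 y)
    (hH : Nat.card hy.H = 10) (hK : Nat.card hy.K = 1) :
    ∃ (z : G) (a b c d : IrrCharacter G) (s : F5 z a b c d) (j : G),
      orderOf j = 2 ∧ j * y * j⁻¹ = y⁻¹ ∧ j ∈ s.h.K := by
  obtain ⟨t, t1, t2, t3⟩ := hy.exists_inv (by omega) hK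
  rw [hH] at t1 t2 t3
  have g : Ctx 5 (t ^ 2) := ⟨by norm_num, by rw [orderOf_pow, t1]; rfl, by rw [hn]; norm_num⟩
  have hj : t ^ (10 / 2) ∈ g.K := g.mem_K.2 ⟨Commute.pow_pow_self .., g.isPReg (sq_eq_one_of_orderOf t2)⟩
  obtain ⟨e4, hA, a, b, c, d, b0, hb, hd, hac, co⟩ := shape hn hx hy hH hK g t2 t3 hj
  obtain ⟨w, g7⟩ := exists_ctx (G := G) (p := 7) (by norm_num) (by rw [hn]; norm_num)
    (by rw [hn]; norm_num)
  obtain ⟨ha, hc⟩ := hac.resolve_right fun e =>
    no759 g g7 hA b0 (by rw [hb]; norm_num) (by rw [hd]; norm_num) e.1 e.2 co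
  refine ⟨_, a, b, c, d, ⟨g, ha, hb, hc, hd, b0, fun w hw => ?_, e4, hA, co⟩, _, t2, t3, hj⟩
  rw [H8.B24.val_sing g (by simp [b0]) (fun u => (co u).1) hw,
    H8.B24.val_sing g (by simp [b0]) (fun u => (co u).2.1) hw,
    H8.B24.val_sing g (by simp [b0]) (fun u => (co u).2.2.1) hw,
    H8.B24.val_sing g (by simp [b0]) (fun u => (co u).2.2.2) hw]
  simp

/-- The character of degree `2024` lies in the principal `7`-block. -/
theorem F5.seven {z w : G} {a b c d : IrrCharacter G} (s : F5 z a b c d) (g7 : Ctx 7 w) :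
    c ∈ B0 7 G ∧ ∀ v : (ZMod 7)ˣ, g7.co v c = -1 := by
  have k := inter7 s.h g7 s.hA s.b0 (by rw [s.db]; norm_num) (by rw [s.dd]; norm_num)
    (by rw [s.da]; norm_num) (by rw [s.dc]; norm_num) (by rw [s.da, s.dc]; norm_num) s.co
  obtain ⟨B⟩ := g7.exists_blk
  have ka : a ∉ B0 7 G := fun e => B22.not_dvd_dg g7 B e (by rw [s.da]; norm_num)
  by_cases hc : c ∈ B0 7 G <;> simp only [ka, hc, if_true, if_false] at k
  · exact ⟨hc, fun v => by linarith [k v]⟩
  · simpa using k 1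

end Cfsg.Agent.H6.B24
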