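import Cfsg.Agent.H6.B24F2
import Cfsg.Agent.H7.B24Def

/-! The principal `5`-block of a simple group of order `244823040`: the interface. -/

set_option autoImplicit false

namespace Cfsg.Agent.H6.B24

open Cfsg Cfsg.Agent.H2.D1 Cfsg.Agent.H3 Finset Subgroup
open scoped Classical

variable {G : Type*} [Group G] [Finite G] [NS G] {z : G} {a b c d : IrrCharacter G}

theorem F5.reg (s : F5 z a b c d) (g : G) (hg : IsPReg 5 g) :
    1 + (a : G → ℂ) g + (b : G → ℂ) g = (c : G → ℂ) g + (d : G → ℂ) g := by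
  have k := s.h.beta_reg (1 : (ZMod 5)ˣ) hg
  have ne : ∀ χ ψ : IrrCharacter G, dg χ ≠ dg ψ → χ ≠ ψ := fun χ ψ h e => h (e ▸ rfl)
  have h0 : dg (triv : IrrCharacter G) = 1 := dg_triv
  have h1 := s.da
  have h2 := s.db
  have h3 := s.dc
  have h4 := s.dd
  obtain ⟨c1, c2, c3, c4⟩ := s.co 1
  rw [s.b0, sum_insert, sum_insert, sum_insert, sum_pair (ne _ _ (by omega)), s.h.co_one, c1, c2,
    c3, c4] at k
  · push_cast at k
    simp only [Pi.one_apply] at k
    linear_combination -k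
  all_goals
    simp only [mem_insert, mem_singleton, not_or]
    refine ⟨ne _ _ (by omega), ?_⟩
  · exact ne _ _ (by omega)
  · exact ⟨ne _ _ (by omega), ne _ _ (by omega)⟩
  · exact ⟨ne _ _ (by omega), ne _ _ (by omega), ne _ _ (by omega)⟩

theorem F5.real (s : F5 z a b c d) : IsConj z z⁻¹ := by
  have k := s.h.conj_mul (u := -1) (top_of s.h (by rw [s.e4]) ▸ mem_top _) 1
  rw [s.h.pw_one, show (((-1 : (ZMod 5)ˣ) : ZMod 5) * 1).val = 4 from rfl] at k
  have h5 := s.h.pow_p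
  rwa [show z ^ 4 = z⁻¹ from eq_inv_of_mul_eq_one_left (by rw [← pow_succ, h5])] at k

theorem F5.b5 (s : F5 z a b c d) : H7.B24.B5 a b c d :=
  ⟨s.db, s.dd, by simp [s.da, s.dc], s.reg, s.val, z, s.h.ord, s.real⟩

/-- The principal `5`-block, given the data at `11`. -/
theorem f5k (hn : Nat.card G = 244823040)
    (hk : ∀ (y : G) (h : Ctx 11 y), Nat.card h.H = 10 ∧ Nat.card h.K = 1) :
    ∃ (z : G) (a b c d : IrrCharacter G), F5 z a b c d := by
  obtain ⟨x, hx⟩ := exists_ctx (G := G) (p := 23) (by norm_num) (by rw [hn]; norm_num)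
    (by rw [hn]; norm_num)
  obtain ⟨y, hy⟩ := exists_ctx (G := G) (p := 11) (by norm_num) (by rw [hn]; norm_num)
    (by rw [hn]; norm_num)
  obtain ⟨z, a, b, c, d, s, -⟩ := f5' hn hx hy (hk y hy).1 (hk y hy).2
  exact ⟨z, a, b, c, d, s⟩

theorem b5k (hn : Nat.card G = 244823040)
    (hk : ∀ (y : G) (h : Ctx 11 y), Nat.card h.H = 10 ∧ Nat.card h.K = 1) :
    ∃ β1 β2 β3 β4 : IrrCharacter G, H7.B24.B5 β1 β2 β3 β4 ∧ dg β1 = 1771 ∧ dg β3 = 2024 := by
  obtain ⟨z, a, b, c, d, s⟩ := f5k hn hk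
  exact ⟨a, b, c, d, s.b5, s.da, s.dc⟩

end Cfsg.Agent.H6.B24
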