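import Cfsg.Agent.L0.C12TI
import Cfsg.Agent.H4.C12P3
import Cfsg.Agent.H7.C12T2

/-!
# The case `|V| = 2` with `K ⟨s⟩` Sylow: first reductions
-/

set_option autoImplicit false

namespace Cfsg.Agent.H6.C12

open Subgroup Cfsg.Agent.L0.SC3 Cfsg.Agent.H9 Cfsg.Agent.H1.T3 Cfsg.Agent.L0.C12
open scoped commutatorElement Pointwise

universe u

section
variable {G : Type*} [Group G]

theorem idx2_of_card [Finite G] {N L : Subgroup G} (h : N ≤ L)
    (hc : Nat.card L ≤ 2 * Nat.card N) : Idx2 N L := by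
  have h1 := card_mul_relIndex_of_le h
  have h2 : 0 < Nat.card N := Nat.card_pos
  have h3 : 0 < Nat.card L := Nat.card_pos
  have h4 : N.relIndex L = 1 ∨ N.relIndex L = 2 := by
    have : N.relIndex L ≤ 2 := by nlinarith
    have : N.relIndex L ≠ 0 := fun e => by rw [e] at h1; omega
    omega
  refine ⟨h, fun a ha b hb => ?_⟩
  rcases h4 with e | e
  · have := relIndex_eq_one.1 e
    simp [this ha, this hb, this (mul_mem ha hb)]
  · exact mul_mem_iff_of_index_two (H := N.subgroupOf L) e (a := ⟨a, ha⟩) (b := ⟨b, hb⟩)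

theorem idx2_card_le [Finite G] {N L : Subgroup G} (h : Idx2 N L) :
    Nat.card L ≤ 2 * Nat.card N := by
  by_cases e : L ≤ N
  · have := card_le_of_le e
    omega
  · obtain ⟨a, ha, hN⟩ := SetLike.not_le_iff_exists.1 e
    rw [← h.card ha hN, mul_comm]

theorem idx2_of {N L : Subgroup G} (h : N ≤ L)
    (h2 : ∀ a ∈ L, ∀ b ∈ L, a ∉ N → b ∉ N → a * b ∈ N) : Idx2 N L := by
  refine ⟨h, fun a ha b hb => ?_⟩
  by_cases e1 : a ∈ N
  · simp [e1, mul_mem_cancel_left]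
  by_cases e2 : b ∈ N
  · simp [e2, mul_mem_cancel_right]
  simp [e1, e2, h2 a ha b hb e1 e2]

theorem idx2_mul {N L : Subgroup G} (h : Idx2 N L) {a b : G} (ha : a ∈ L) (hb : b ∈ L)
    (h1 : a ∉ N) (h2 : b ∉ N) : a * b ∈ N := (h.mul a ha b hb).2 (by simp [h1, h2])

theorem idx2_comm {N L : Subgroup G} (h : Idx2 N L) {a b : G} (ha : a ∈ L) (hb : b ∈ L) :
    ⁅a, b⁆ ∈ N := by
  rw [commutatorElement_def, h.mul _ (mul_mem (mul_mem ha hb) (inv_mem ha)) _ (inv_mem hb),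
    h.conj hb ha, inv_mem_iff]

theorem comm_mul_right' (a u v : G) : ⁅a, u * v⁆ = ⁅a, u⁆ * (u * ⁅a, v⁆ * u⁻¹) := by
  simp only [commutatorElement_def]; group

theorem comm_mul_left' (a b u : G) : ⁅a * b, u⁆ = a * ⁅b, u⁆ * a⁻¹ * ⁅a, u⁆ := by
  simp only [commutatorElement_def]; group

theorem comm_conj' (g a b : G) : ⁅g * a * g⁻¹, g * b * g⁻¹⁆ = g * ⁅a, b⁆ * g⁻¹ := by
  simp only [commutatorElement_def]; group

theorem comm_one {a b : G} : ⁅a, b⁆ = 1 ↔ Commute a b := commutatorElement_eq_one_iff_commute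

theorem conj_fix {a b : G} (h : Commute a b) : a * b * a⁻¹ = b := by rw [h.eq, mul_inv_cancel_right]

/-- If all commutators with `a` lie in `{1, t}` the centralizer has index at most two. -/
theorem idx2_cent {B : Subgroup G} {a t : G} (tt : t * t = 1) (ht : ∀ b ∈ B, Commute b t)
    (h : ∀ b ∈ B, ⁅a, b⁆ = 1 ∨ ⁅a, b⁆ = t) : Idx2 (B ⊓ centralizer {a}) B :=
  idx2_of inf_le_left fun u hu v hv h1 h2 => ⟨mul_mem hu hv, L0.SC3.mem_cent.2 (comm_one.1 (by
    rw [comm_mul_right', (h u hu).resolve_left fun e => h1 ⟨hu, L0.SC3.mem_cent.2 (comm_one.1 e).symm⟩,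
      (h v hv).resolve_left fun e => h2 ⟨hv, L0.SC3.mem_cent.2 (comm_one.1 e).symm⟩,
      conj_fix (ht u hu), tt])).symm⟩

theorem exists_sq_mem {D : Subgroup G} {z : G} (hz : El2 z) (h : z ∉ D) :
    ∃ n : ℕ, z ^ n ∉ D ∧ z ^ n * z ^ n ∈ D := by
  obtain ⟨k, hk⟩ := hz
  have : ∀ k, z ^ 2 ^ k ∈ D → ∃ n : ℕ, z ^ n ∉ D ∧ z ^ n * z ^ n ∈ D := fun k => by
    induction k with
    | zero => intro e; exact absurd (by simpa using e) h
    | succ k ih =>
      intro e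
      by_cases e' : z ^ 2 ^ k ∈ D
      · exact ih e'
      · exact ⟨_, e', by rwa [← pow_add, ← two_mul, ← pow_succ']⟩
  exact this k (hk ▸ one_mem _)

/-- Burnside's fusion lemma. -/
theorem fusion_center [Finite G] {T : Subgroup G} (hT : IsSylowIn 2 T ⊤) {a b : G}
    (ha : ∀ k ∈ T, Commute k a) (hb : ∀ k ∈ T, Commute k b) (h : IsConj a b) :
    ∃ g ∈ normalizer (T : Set G), g * a * g⁻¹ = b := by
  have := factTwo
  obtain ⟨g, rfl⟩ := isConj_iff.1 h
  have key : ∀ S : Subgroup G, IsSylowIn 2 S ⊤ → S ≤ centralizer {g * a * g⁻¹} →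
      IsSylowIn 2 S (centralizer {g * a * g⁻¹}) := fun S hS hle =>
    ⟨hle, hS.isPGroup, fun e => hS.not_dvd (e.trans (Dvd.intro _ (relIndex_mul_relIndex _ _ _ hle le_top)))⟩
  have h1 := hT.conj_of_mem_normalizer (g := g) (mem_normalizer_of_conj fun _ _ => trivial)
  obtain ⟨l, hl, e⟩ := (key _ h1 fun k hk => L0.SC3.mem_cent.2 (by
    simpa [mul_assoc] using (ha _ (mem_conj_smul_iff.1 hk)).conj g)).exists_conj
    (key _ hT fun k hk => L0.SC3.mem_cent.2 (hb k hk))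
  refine ⟨l * g, mem_normalizer_of_conj_smul_eq (by rw [map_mul, mul_smul, e]), ?_⟩
  rw [← conj_fix (L0.SC3.mem_cent.1 hl)]
  group

theorem exists_central [Finite G] {T : Subgroup G} (hT : IsSylowIn 2 T ⊤) {u : G}
    (h : Nat.card T ∣ Nat.card (centralizer ({u} : Set G))) :
    ∃ g : G, ∀ k ∈ T, Commute k (g * u * g⁻¹) := by
  have := factTwo
  obtain ⟨P, hP⟩ := exists_isSylowIn 2 (centralizer ({u} : Set G))
  obtain ⟨S, hS, PS⟩ := exists_isSylowIn_ge (le_top (a := P)) hP.isPGroup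
  obtain ⟨l, -, e⟩ := hS.exists_conj hT
  have h1 : Nat.card T ≤ Nat.card P := by
    rw [hT.card_eq] at h ⊢
    rw [hP.card_eq]
    exact Nat.pow_le_pow_right (by norm_num) ((Nat.prime_two.pow_dvd_iff_le_factorization
      Nat.card_pos.ne').1 h)
  have h2 : P = S := eq_of_le_of_card_ge PS (by rwa [← card_conj_smul S l, e])
  refine ⟨l, fun k hk => ?_⟩
  rw [← e, ← h2] at hk
  simpa [mul_assoc] using (L0.SC3.mem_cent.1 (hP.le (mem_conj_smul_iff.1 hk))).conj l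

end

/-- The configuration with `K ⟨s⟩` Sylow in `G`. -/
structure VA {G : Type u} [Group G] (x s t : G) (K : Subgroup G) : Prop extends C2 x s t where
  ti : TI x (centralizer {t}) K
  two : IsPGroup 2 K
  syl : IsSylowIn 2 (K ⊔ zpowers s) ⊤
  z6 : ∀ L K', TI x L K' → s ∈ L → ∃ O ≤ K', (∀ l ∈ L, ∀ o ∈ O, l * o * l⁻¹ ∈ O) ∧
    Odd (Nat.card O) ∧ ∃ j, Nat.card K' = Nat.card O * 2 ^ j

namespace VA

variable {G : Type u} [Group G] {x s t : G} {K : Subgroup G} (c : VA x s t K)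
include c

theorem tt : t * t = 1 := c.toCtx.sq (mem_zpowers t)
theorem xt : Commute x t := c.toCtx.cx (mem_zpowers t)
theorem st : Commute s t := c.sV t (mem_zpowers t)
theorem sH : s ∈ centralizer ({t} : Set G) := L0.SC3.mem_cent.2 c.st
theorem tK : t ∈ K := c.ti.cen t (L0.SC3.mem_cent.2 (Commute.refl t)) c.xt c.tt
theorem kt {k : G} (hk : k ∈ K) : Commute k t := L0.SC3.mem_cent.1 (c.ti.le hk)
theorem zt {d : G} : d ∈ zpowers t ↔ d = 1 ∨ d = t := mem_zpowers_two c.tt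
theorem sK : s ∉ K := c.ti.notMem_of_inverts c.t3 c.sx
theorem s_inv : s⁻¹ = s := inv_eq_of_mul_eq_one_right c.ss
theorem t_inv : t⁻¹ = t := inv_eq_of_mul_eq_one_right c.tt
theorem xK {k : G} (hk : k ∈ K) : x * k * x⁻¹ ∈ K := c.ti.normal x c.ti.mem k hk
theorem xK' {k : G} (hk : k ∈ K) : x⁻¹ * k * x ∈ K := c.ti.normal' c.ti.mem hk
theorem sK' {k : G} (hk : k ∈ K) : s * k * s⁻¹ ∈ K := c.ti.normal s c.sH k hk
theorem memT {g : G} : g ∈ K ⊔ zpowers s ↔ g ∈ K ∨ g * s ∈ K :=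
  mem_sup_invol c.ss fun _ => c.sK'
theorem TH : K ⊔ zpowers s ≤ centralizer {t} := sup_le c.ti.le (zpowers_le.2 c.sH)
theorem idxT : Idx2 K (K ⊔ zpowers s) := c.ti.idx2 c.t3 c.sH c.sx c.ss

theorem conj_zt {l d : G} (hl : Commute l t) (hd : d ∈ zpowers t) : l * d * l⁻¹ = d := by
  rcases c.zt.1 hd with rfl | rfl
  exacts [by simp, conj_fix hl]

theorem nD : ∀ l ∈ centralizer ({t} : Set G), ∀ d ∈ zpowers t, l * d * l⁻¹ ∈ zpowers t :=
  fun _ hl _ hd => by rwa [c.conj_zt (L0.SC3.mem_cent.1 hl) hd]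

theorem conj_zt_iff {l d : G} (hl : Commute l t) : l * d * l⁻¹ ∈ zpowers t ↔ d ∈ zpowers t :=
  ⟨fun h => by simpa [mul_assoc] using c.nD l⁻¹ (L0.SC3.mem_cent.2 hl.inv_left) _ h,
    c.nD l (L0.SC3.mem_cent.2 hl) d⟩

variable [Finite G]

theorem fpf : Fpf x K (zpowers t) :=
  ⟨c.t3.cube, c.t3.ne, c.ti.inv, zpowers_le.2 c.tK, fun b hb => c.nD b (c.ti.le hb),
    c.nD x c.ti.mem, fun _ hb h => c.toCtx.mem_of_commute c.ti.cube hb h⟩

theorem card_zt : Nat.card (zpowers t) = 2 := by rw [Nat.card_zpowers, orderOf_two c.tt c.t1]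
theorem cardH : Nat.card (centralizer ({t} : Set G)) = 6 * Nat.card K := c.ti.card c.t3 c.sH c.sx
theorem cardT : Nat.card (K ⊔ zpowers s : Subgroup G) = 2 * Nat.card K :=
  c.ti.card_S c.t3 c.sH c.sx c.ss

theorem card_sub {B : Subgroup G} (hB : B ≤ K) (ht : t ∈ B) (hx : ∀ b ∈ B, x * b * x⁻¹ ∈ B) :
    ∃ j, Nat.card B = 2 * 4 ^ j := by
  simpa only [c.card_zt] using (c.fpf.mono (zpowers_le.2 ht) hB hx).card (c.two.to_le hB)

theorem fix3 {y b : G} (hy : y ∈ centralizer ({t} : Set G)) (y3 : y ^ 3 = 1) (y1 : y ≠ 1)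
    (hb : b ∈ K) (h : Commute y b) : b ∈ zpowers t := by
  obtain ⟨l, hl, e⟩ := c.t3.exists_conj c.ti.mem hy y1 y3
  have h1 : Commute x (l⁻¹ * b * l) := by
    rcases e with rfl | rfl
    · exact T3.commute_conj h
    · exact Commute.inv_left_iff.1 (T3.commute_conj h)
  simpa [mul_assoc] using c.nD l hl _ (c.fpf.fix _ (c.ti.normal' hl hb) h1)

theorem sqrt' {B A : Subgroup G} {τ : G} (hB : B ≤ K) (ht : t ∈ B)
    (nB : ∀ l ∈ centralizer ({t} : Set G), ∀ b ∈ B, l * b * l⁻¹ ∈ B) (hτ : τ ∈ K ⊔ zpowers s)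
    (τK : τ ∉ K) (AB : A ≤ B) (hA : ∀ a ∈ A, ⁅a, τ⁆ ∈ zpowers t) :
    Nat.card A ^ 2 ≤ 2 * Nat.card B := by
  rw [show 2 * Nat.card B = Nat.card (zpowers t) * Nat.card B by rw [c.card_zt]]
  exact c.ti.sqrt c.t3.cube c.t3.ne (fun b hb => c.ti.cube b (hB hb)) (zpowers_le.2 ht) nB c.nD
    (fun y hy y3 y1 b hb h => c.fix3 hy y3 y1 (hB hb) h) (c.TH hτ)
    (c.ti.outer_of_el2 c.t3 (El2.of_mem c.syl.isPGroup hτ) (c.TH hτ) τK) AB hA

/-- Involutions outside the class of `t` have centralizers of order prime to three. -/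
theorem cube_cent {u : G} (hu : u * u = 1) (u1 : u ≠ 1) (h : ¬ IsConj u t) :
    ∀ y ∈ centralizer ({u} : Set G), y ^ 3 = 1 → y = 1 := fun y hy y3 => by
  by_contra y1
  obtain ⟨v, hv, e⟩ := c.toCtx.isConj_of_commute hu y1 y3 (L0.SC3.mem_cent.1 hy)
  rcases c.zt.1 hv with rfl | rfl
  · exact u1 (by simpa using e)
  · exact h e

theorem card_cent {u : G} (hu : u * u = 1) (u1 : u ≠ 1) (h : ¬ IsConj u t) :
    4 * Nat.card K ≤ Nat.card (centralizer ({u} : Set G)) ∧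
      Nat.card (centralizer ({u} : Set G)) ≤ 8 * Nat.card K := by
  have h1 := (c.cls u hu u1).resolve_left h
  have h2 : ¬ IsConj t (s * t) := fun e => h (h1.trans e.symm)
  have h3 := c.lo h2
  have h4 := c.hi h2
  rw [← card_cent_conj h1, c.cardH] at h3 h4
  omega

/-- Involutions whose centralizer has order divisible by `|T|` are conjugate to `t`. -/
theorem conj_of_dvd {u : G} (hu : u * u = 1) (u1 : u ≠ 1)
    (h : 2 * Nat.card K ∣ Nat.card (centralizer ({u} : Set G))) : IsConj u t := by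
  by_contra hn
  obtain ⟨h1, h2⟩ := c.card_cent hu u1 hn
  obtain ⟨o, ho⟩ := h
  have h3 := not_dvd_card_iff.2 (c.cube_cent hu u1 hn)
  have h4 := c.syl.not_dvd
  have h5 := card_mul_relIndex_of_le (le_top (a := K ⊔ zpowers s))
  have h6 := card_mul_relIndex_of_le (le_top (a := centralizer ({u} : Set G)))
  have k0 : 0 < Nat.card K := Nat.card_pos
  rw [c.cardT, ← h6, ho, mul_assoc _ o] at h5
  rw [Nat.eq_of_mul_eq_mul_left (show 0 < 2 * Nat.card K by omega) h5] at h4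
  rw [ho] at h1 h2 h3
  have : 2 ≤ o := by nlinarith
  have : o ≤ 4 := by nlinarith
  interval_cases o
  · exact h4 (dvd_mul_right _ _)
  · exact h3 (dvd_mul_left _ _)
  · exact h4 (Dvd.dvd.mul_right (by norm_num) _)

theorem conj_of_central {u : G} (hu : u * u = 1) (u1 : u ≠ 1)
    (h : ∀ k ∈ K ⊔ zpowers s, Commute k u) : IsConj u t :=
  c.conj_of_dvd hu u1 (c.cardT ▸ card_dvd_of_le fun k hk => L0.SC3.mem_cent.2 (h k hk))

/-- An overgroup of type I with a normal `2`-subgroup containing `t` is `C(t)`. -/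
theorem le_of_ti {X D K' : Subgroup G} (hX : centralizer {t} ≤ X) (DK : D ≤ K) (tD : t ∈ D)
    (nD : ∀ g ∈ X, ∀ d ∈ D, g * d * g⁻¹ ∈ D) (h : TI x X K') : X ≤ centralizer {t} := by
  have := factTwo
  obtain ⟨O, OK, nO, ho, j, hj⟩ := c.z6 X K' h (hX c.sH)
  have hb : ∀ g ∈ O, g ∈ K → g = 1 := fun g h1 h2 => by
    obtain ⟨k, hk⟩ := El2.of_mem c.two h2
    exact orderOf_eq_one_iff.1 (Nat.eq_one_of_dvd_coprimes ((Nat.coprime_two_right.2 ho).pow_right k)
      (O.orderOf_dvd_natCard h1) (orderOf_dvd_of_pow_eq_one hk))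
  have OH : O ≤ centralizer {t} := fun o ho => L0.SC3.mem_cent.2 (comm_one.1 (hb _
    (by simpa [commutatorElement_def, mul_assoc] using
      mul_mem ho (nO t (hX (c.ti.le c.tK)) _ (inv_mem ho)))
    (DK (mul_mem (nD o (h.le (OK ho)) t tD) (inv_mem tD)))))
  have O1 : O = ⊥ := eq_bot_iff.2 fun o ho => hb o ho
    (c.ti.le_of_inv c.t3 ⟨nO x h.mem, fun b hb => h.cube b (OK hb)⟩ OH ho)
  rw [O1, card_bot, one_mul] at hj
  have h1 : K ≤ K' := h.le_of_inv c.t3 c.ti.inv (c.ti.le.trans hX)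
  have h2 := c.syl.eq_of_le (isPGroup_sup_invol c.ss (h.normal s (hX c.sH)) (IsPGroup.of_card hj))
    le_top (sup_le_sup_right h1 _)
  have h3 := h.card_S c.t3 (hX c.sH) c.sx c.ss
  rw [h2, c.cardT] at h3
  exact (eq_of_le_of_card_ge hX (by rw [h.card c.t3 (hX c.sH) c.sx, c.cardH]; omega)).ge

omit c in
theorem card_quo {S : Type} [Group S] {K M : Subgroup G} (hKM : K ≤ M) (h : Quo S K M) :
    Nat.card M = Nat.card K * Nat.card S := by
  obtain ⟨π, h1, h2⟩ := h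
  exact card_of_surj π h1 hKM h2

/-- An overgroup of type II. -/
theorem eq_of_tii {X D K' M : Subgroup G} (DK : D ≤ K) (DX : D ≤ X) (tD : t ∈ D)
    (nD : ∀ g ∈ X, ∀ d ∈ D, g * d * g⁻¹ ∈ D) (h : TII x X K' M) : K' = D ∧ M = X := by
  have xX := h.le' h.mem
  have h1 : D ≤ K' := h.max D DX nD fun e => c.ti.notMem c.t3 (DK e)
  refine ⟨le_antisymm (h.L0 c.t3 ⟨c.t3.cube, c.t3.ne, ⟨h.nK x xX, h.cube⟩, h1,
    fun b hb => nD b (h.le' (h.le hb)), nD x xX, fun b hb e => zpowers_le.2 tD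
      (c.toCtx.mem_of_commute h.cube hb e)⟩ (c.toCtx.Lodd h) nD h.nK) h1,
    le_antisymm h.le' fun g hg => ?_⟩
  obtain ⟨m, hm, k, -, h2, h3, rfl⟩ := h.fra g hg
  exact mul_mem hm (h.le (h1 (zpowers_le.2 tD ((c.memV k).2 ⟨h2, h3⟩))))

theorem norm_K : normalizer (K : Set G) ≤ centralizer {t} := by
  have hX : centralizer {t} ≤ normalizer (K : Set G) := fun g hg =>
    mem_normalizer_of_conj (c.ti.normal g hg)
  have nK : ∀ g ∈ normalizer (K : Set G), ∀ d ∈ K, g * d * g⁻¹ ∈ K := fun g hg d hd =>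
    L0.C12.conj_mem_of_mem_normalizer hg hd
  rcases c.toCtx.str_sub (c.toCtx.normalizer_ne_top' (fun e => c.t1 (by simpa [e] using c.tK))
    c.ti.cube) (hX c.ti.mem) with ⟨K', h⟩ | ⟨K', M, h⟩
  · exact c.le_of_ti hX le_rfl c.tK nK h
  · exfalso
    obtain ⟨rfl, -⟩ := c.eq_of_tii le_rfl le_normalizer c.tK nK h
    have h1 : 4 * Nat.card K' ∣ Nat.card M := by
      rcases h.quo with q | q <;> rw [card_quo h.le q, mul_comm]
      · rw [card_psl27]; exact Nat.mul_dvd_mul_left _ (by norm_num)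
      · rw [card_L13]; exact Nat.mul_dvd_mul_left _ (by norm_num)
    have h5 := card_mul_relIndex_of_le (le_top (a := K' ⊔ zpowers s))
    rw [c.cardT, card_top] at h5
    obtain ⟨o, ho⟩ := h1.trans (card_subgroup_dvd_card M)
    have k0 : 0 < Nat.card K' := Nat.card_pos
    exact c.syl.not_dvd ⟨o, Nat.eq_of_mul_eq_mul_left (show 0 < 2 * Nat.card K' by omega)
      (by rw [h5, ho]; ring)⟩

end VA

end Cfsg.Agent.H6.C12
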