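import Cfsg.Agent.H6.C12A1
import Cfsg.Agent.H3.SDChar

/-!
# The case `|V| = 2` with `K ⟨s⟩` Sylow: the centre of `K` and the small cases
-/

set_option autoImplicit false

namespace Cfsg.Agent.H6.C12

open Subgroup Cfsg.Agent.L0.SC3 Cfsg.Agent.H9 Cfsg.Agent.H1.T3 Cfsg.Agent.L0.C12
open scoped commutatorElement Pointwise

universe u

namespace VA

variable {G : Type u} [Group G] {x s t : G} {K : Subgroup G} (c : VA x s t K)
include c

theorem sx' : s * x⁻¹ * s⁻¹ = x := by rw [← conj_inv, c.sx, inv_inv]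

theorem s_conj (w : G) : s * (x * w * x⁻¹) * s⁻¹ = x⁻¹ * (s * w * s⁻¹) * x := by
  rw [← conj_mul, ← conj_mul, c.sx, c.sx']

theorem s_conj' (w : G) : s * (x⁻¹ * w * x) * s⁻¹ = x * (s * w * s⁻¹) * x⁻¹ := by
  rw [← conj_mul, ← conj_mul, c.sx, c.sx']

theorem x_conj (w : G) : x * (x * w * x⁻¹) * x⁻¹ = x⁻¹ * w * x := by
  rw [show x * (x * w * x⁻¹) * x⁻¹ = (x * x) * w * (x * x)⁻¹ by group, c.t3.mul_self, inv_inv]

/-- The elements of `B` that are central modulo `t`. -/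
def ZZ (B : Subgroup G) (hB : B ≤ K) : Subgroup G where
  carrier := {e | e ∈ B ∧ ∀ b ∈ B, ⁅e, b⁆ ∈ zpowers t}
  one_mem' := ⟨one_mem _, by simp⟩
  mul_mem' := fun {a b} ha hb => ⟨mul_mem ha.1 hb.1, fun k hk => by
    rw [comm_mul_left']
    exact mul_mem (c.nD a (c.ti.le (hB ha.1)) _ (hb.2 k hk)) (ha.2 k hk)⟩
  inv_mem' := fun {a} ha => ⟨inv_mem ha.1, fun k hk => by
    have := c.nD a⁻¹ (inv_mem (c.ti.le (hB ha.1))) _ (inv_mem (ha.2 k hk))
    convert this using 1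
    simp only [commutatorElement_def]; group⟩

theorem mem_ZZ {B : Subgroup G} {hB : B ≤ K} {e : G} :
    e ∈ c.ZZ B hB ↔ e ∈ B ∧ ∀ b ∈ B, ⁅e, b⁆ ∈ zpowers t := Iff.rfl

theorem ZZ_conj {B : Subgroup G} {hB : B ≤ K} {l : G} (hl : Commute l t)
    (h1 : ∀ b ∈ B, l * b * l⁻¹ ∈ B) (h2 : ∀ b ∈ B, l⁻¹ * b * l ∈ B) {e : G} (he : e ∈ c.ZZ B hB) :
    l * e * l⁻¹ ∈ c.ZZ B hB := ⟨h1 e he.1, fun b hb => by
  have := c.nD l (L0.SC3.mem_cent.2 hl) _ (he.2 _ (h2 b hb))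
  rwa [← comm_conj', show l * (l⁻¹ * b * l) * l⁻¹ = b by group] at this⟩

variable [Finite G]

theorem mem_of_comm_s {w : G} (hw : w ∈ K) (h1 : ⁅w, s⁆ ∈ zpowers t)
    (h2 : ⁅x * w * x⁻¹, s⁆ ∈ zpowers t) : w ∈ zpowers t := by
  have e1 : s * w * s⁻¹ = w * ⁅w, s⁆⁻¹ := by
    have := c.conj_zt (c.kt hw).inv_left (inv_mem h1)
    rw [← this]
    simp only [commutatorElement_def]; group
  have e2 : ⁅x * w * x⁻¹, s⁆ = x * w * x⁻¹ * (s * (x * w * x⁻¹) * s⁻¹)⁻¹ := by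
    simp only [commutatorElement_def]; group
  rw [e2, c.s_conj, e1] at h2
  have h3 := c.nD x c.ti.mem _ h2
  refine c.fpf.symm.fix'' hw ?_
  have h4 := c.nD w (c.ti.le hw) _ (inv_mem h1)
  generalize ⁅w, s⁆⁻¹ = d at h3 h4
  rw [show x * (x * w * x⁻¹ * (x⁻¹ * (w * d) * x)⁻¹) * x⁻¹ =
    x * (x * w * x⁻¹) * x⁻¹ * d⁻¹ * w⁻¹ by group, c.x_conj] at h3
  convert mul_mem h3 h4 using 1
  group

theorem zK_invol {w : G} (hw : w ∈ K) (ww : w * w = 1) (hc : ∀ k ∈ K, Commute w k)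
    (hv : ⁅w, s⁆ ∉ zpowers t) : False := by
  set v := ⁅w, s⁆ with hvd
  have w1 : w⁻¹ = w := inv_eq_of_mul_eq_one_right ww
  have ev : v = w * (s * w * s⁻¹) := by rw [hvd, commutatorElement_def, w1]; group
  have cs : ∀ k ∈ K, Commute (s * w * s⁻¹) k := fun k hk => by
    simpa [mul_assoc] using (hc _ (c.ti.normal' c.sH hk)).conj s
  have cv : ∀ k ∈ K, Commute v k := fun k hk => ev ▸ (hc k hk).mul_left (cs k hk)
  have vv : v * v = 1 := by
    rw [ev, mul_assoc, ← mul_assoc _ w, ← (hc _ (c.sK' hw)).eq, mul_assoc, ← mul_assoc w, ww,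
      one_mul, conj_mul, ww]
    simp
  have sv : Commute s v := by
    refine mul_inv_eq_iff_eq_mul.1 ?_
    rw [ev, ← conj_mul, (hc _ (c.sK' hw)).eq, show s * (s * w * s⁻¹) * s⁻¹ =
      (s * s) * w * (s * s)⁻¹ by group, c.ss]
    simp
  have cT : ∀ u, (∀ k ∈ K, Commute u k) → Commute s u → ∀ k ∈ K ⊔ zpowers s, Commute k u :=
    fun u h1 h2 k hk => by
      rcases c.memT.1 hk with e | e
      · exact (h1 k e).symm
      · simpa using (h1 _ e).symm.mul_left h2.inv_left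
  have v1 : v ≠ 1 := fun e => hv (e ▸ one_mem _)
  have vK : v ∈ K := ev ▸ mul_mem hw (c.sK' hw)
  have c1 := cT v cv sv
  have c2 := cT (t * v) (fun k hk => (c.kt hk).symm.mul_left (cv k hk)) (c.st.mul_right sv)
  have tv1 : t * v ≠ 1 := fun e => hv (by rw [eq_inv_of_mul_eq_one_right e]; simp)
  have tv : t * v * (t * v) = 1 := by
    rw [mul_assoc, ← mul_assoc v, (c.kt vK).eq, mul_assoc, vv, mul_one, c.tt]
  obtain ⟨g, hg, e⟩ := fusion_center c.syl c1 c2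
    ((c.conj_of_central vv v1 c1).trans (c.conj_of_central tv tv1 c2).symm)
  have gT : ∀ k ∈ K ⊔ zpowers s, g * k * g⁻¹ ∈ K ⊔ zpowers s := fun k hk =>
    L0.C12.conj_mem_of_mem_normalizer hg hk
  have gT' : ∀ k ∈ K ⊔ zpowers s, g⁻¹ * k * g ∈ K ⊔ zpowers s := fun k hk => by
    simpa using L0.C12.conj_mem_of_mem_normalizer (inv_mem hg) hk
  have F : ∀ k ∈ K ⊔ zpowers s, k ∉ K → ⁅w, k⁆ = v := fun k hk h => by
    have h1 := (c.memT.1 hk).resolve_left h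
    rw [show k = k * s * s by rw [mul_assoc, c.ss, mul_one], comm_mul_right', comm_one.2 (hc _ h1),
      one_mul, conj_fix (cv _ h1).symm]
  have F' : ∀ k ∈ K ⊔ zpowers s, g⁻¹ * k * g ∉ K → ⁅g * w * g⁻¹, k⁆ = t * v := fun k hk h => by
    rw [← e, ← F _ (gT' k hk) h, ← comm_conj']
    congr 1; group
  have F0 : ∀ k, g⁻¹ * k * g ∈ K → ⁅g * w * g⁻¹, k⁆ = 1 := fun k h => by
    simpa [mul_assoc, comm_one] using (hc _ h).conj g
  obtain ⟨k, hk, hk'⟩ : ∃ k ∈ K, g⁻¹ * k * g ∉ K := by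
    by_contra! h
    have h1 : g ∈ centralizer {t} := inv_mem_iff.1 (c.norm_K (mem_normalizer_of_conj (g := g⁻¹)
      (by simpa using h)))
    have h2 := c.ti.mem_S_of_norm c.t3 c.sH c.sx c.ss h1 (gT s (mem_sup_right (mem_zpowers s)))
    rw [conj_fix (c1 g h2)] at e
    exact c.t1 (by simpa using e)
  by_cases h : g * w * g⁻¹ ∈ K
  · have := c.fpf.central_of_index_two h (F := MulAut.conj g • K)
      (fun u hu _ => by rw [F0 u (mem_conj_smul_iff.1 hu)]; exact one_mem _)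
      (fun a ha b hb h1 h2 => by
        rw [mem_conj_smul_iff] at h1 h2 ⊢
        have := idx2_mul c.idxT (gT' a (mem_sup_left ha)) (gT' b (mem_sup_left hb)) h1 h2
        convert this using 1; group) k hk
    rw [F' k (mem_sup_left hk) hk'] at this
    exact hv ((mul_mem_cancel_left (mem_zpowers t)).1 this)
  · have h1 := F _ (gT w (mem_sup_left hw)) h
    by_cases h2 : g⁻¹ * w * g ∈ K
    · rw [← commutatorElement_inv, F0 w h2, inv_one] at h1
      exact v1 h1.symm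
    · rw [← commutatorElement_inv, F' w (mem_sup_left hw) h2, inv_eq_of_mul_eq_one_right tv] at h1
      exact c.t1 (by simpa using h1)

/-- The centre of `K` is `⟨t⟩`. -/
theorem zK {z : G} (hz : z ∈ K) (hc : ∀ k ∈ K, Commute z k) : z ∈ zpowers t := by
  have xc : ∀ w, (∀ k ∈ K, Commute w k) → ∀ k ∈ K, Commute (x * w * x⁻¹) k := fun w h k hk => by
    simpa [mul_assoc] using (h _ (c.xK' hk)).conj x
  have key : ∀ w ∈ K, w * w = 1 → (∀ k ∈ K, Commute w k) → w ∈ zpowers t := fun w hw ww h => by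
    by_contra hn
    by_cases h1 : ⁅w, s⁆ ∈ zpowers t
    · exact c.zK_invol (c.xK hw) (by rw [conj_mul, ww]; simp) (xc w h)
        fun h2 => hn (c.mem_of_comm_s hw h1 h2)
    · exact c.zK_invol hw ww h h1
  by_contra hn
  obtain ⟨n, h1, h2⟩ := exists_sq_mem (El2.of_mem c.two hz) hn
  have h3 : ∀ k ∈ K, Commute (z ^ n) k := fun k hk => (hc k hk).pow_left n
  have h4 := pow_mem hz n
  generalize z ^ n = u at h1 h2 h3 h4
  rcases c.zt.1 h2 with e | e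
  · exact h1 (key u h4 e h3)
  · refine h1 (c.fpf.fix'' h4 (key _ (mul_mem (c.xK h4) (inv_mem h4)) ?_ fun k hk =>
      (xc u h3 k hk).mul_left (h3 k hk).inv_left))
    have e1 : x * u * x⁻¹ * (x * u * x⁻¹) = t := by rw [conj_mul, e, conj_fix c.xt]
    have e2 := (h3 _ (c.xK h4)).inv_left.eq
    generalize x * u * x⁻¹ = u' at e1 e2
    rw [mul_assoc, ← mul_assoc u⁻¹, e2, mul_assoc, ← mul_inv_rev, e, ← mul_assoc, e1,
      mul_inv_cancel]

theorem exP {B : Subgroup G} (hB : B ≤ K) (tB : t ∈ B) (xB : ∀ b ∈ B, x * b * x⁻¹ ∈ B)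
    (sB : ∀ b ∈ B, s * b * s⁻¹ ∈ B) (h : ¬ B ≤ zpowers t) :
    ∃ e ∈ c.ZZ B hB, e ∉ zpowers t ∧ e * e ∈ zpowers t ∧ ⁅e, s⁆ ∈ zpowers t := by
  have f := c.fpf.mono (zpowers_le.2 tB) hB xB
  obtain ⟨e, he, e1⟩ : ∃ e ∈ c.ZZ B hB, e ∉ zpowers t := by
    by_cases h1 : ∀ a ∈ B, ∀ b ∈ B, ⁅a, b⁆ ∈ zpowers t
    · obtain ⟨a, ha, h2⟩ := SetLike.not_le_iff_exists.1 h
      exact ⟨a, ⟨ha, h1 a ha⟩, h2⟩
    · push Not at h1
      obtain ⟨a, ha, b, hb, h2⟩ := h1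
      exact ⟨_, ⟨by simpa [commutatorElement_def] using mul_mem (mul_mem (mul_mem ha hb)
        (inv_mem ha)) (inv_mem hb), fun k hk => by
          rw [← commutatorElement_inv]; exact inv_mem (f.class_two hk ha hb)⟩, h2⟩
  obtain ⟨n, h1, h2⟩ := exists_sq_mem (El2.of_mem c.two (hB he.1)) e1
  have h3 := pow_mem he n
  generalize e ^ n = u at h1 h2 h3
  by_cases h4 : ⁅u, s⁆ ∈ zpowers t
  · exact ⟨u, h3, h1, h2, h4⟩
  have h5 : s * u * s⁻¹ ∈ c.ZZ B hB := c.ZZ_conj c.st sB (fun b hb => by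
    simpa [c.s_inv] using sB b hb) h3
  have h6 : ⁅u, s⁆ = u * (s * u * s⁻¹)⁻¹ := by simp only [commutatorElement_def]; group
  have h7 := h3.2 _ h5.1
  have h8 : s * u * s⁻¹ * (s * u * s⁻¹) ∈ zpowers t := by
    rw [conj_mul]; exact c.nD s c.sH _ h2
  have h9 : s * (s * u * s⁻¹) * s⁻¹ = u := by
    rw [show s * (s * u * s⁻¹) * s⁻¹ = (s * s) * u * (s * s)⁻¹ by group, c.ss]; simp
  refine ⟨_, h6 ▸ mul_mem h3 (inv_mem h5), h4, ?_, ?_⟩
  · rw [h6]
    generalize s * u * s⁻¹ = u' at h5 h7 h8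
    have := mul_mem (mul_mem h2 (c.nD u⁻¹ (inv_mem (c.ti.le (hB h3.1))) _
      (c.nD u'⁻¹ (inv_mem (c.ti.le (hB h5.1))) _ h7))) (inv_mem h8)
    convert this using 1
    simp only [commutatorElement_def]; group
  · rw [show ⁅⁅u, s⁆, s⁆ = ⁅u, s⁆ * (s * ⁅u, s⁆ * s⁻¹)⁻¹ by
      simp only [commutatorElement_def]; group, h6, ← conj_mul, ← conj_inv, h9]
    generalize s * u * s⁻¹ = u' at h5 h7 h8
    have := mul_mem (mul_mem h2 (c.nD u⁻¹ (inv_mem (c.ti.le (hB h3.1))) _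
      (c.nD u'⁻¹ (inv_mem (c.ti.le (hB h5.1))) _ h7))) (inv_mem h8)
    convert this using 1
    simp only [commutatorElement_def]; group

theorem small (h : K ≤ zpowers t) : Nat.card G < 6000 := by
  have h1 : Nat.card K = 2 := by rw [le_antisymm h (zpowers_le.2 c.tK), c.card_zt]
  have c' := c.toCtx.shift (mem_zpowers t)
  obtain ⟨g, hg, -⟩ := extremal c.syl (M := zpowers (s * t)) (zpowers_le.2 (mul_mem
    (mem_sup_right (mem_zpowers s)) (mem_sup_left c.tK)))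
    (by rw [c.cardT, h1, Nat.card_zpowers, orderOf_two c'.ss c'.s_ne]) c.tt
    fun N hN => c.toCtx.eq_top_of_idx2 hN ▸ mem_top t
  have h2 := c.one (isConj_iff.2 ⟨g, ((mem_zpowers_two c'.ss).1 hg).resolve_left
    (by simpa using c.t1)⟩)
  rw [c.cardH, h1] at h2
  omega

end VA

end Cfsg.Agent.H6.C12
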