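import Cfsg.Agent.H6.C12A2

/-!
# The case `|V| = 2` with `K ⟨s⟩` Sylow: the quaternion case and the normal four-group
-/

set_option autoImplicit false

namespace Cfsg.Agent.H6.C12

open Subgroup Cfsg.Agent.L0.SC3 Cfsg.Agent.H9 Cfsg.Agent.H1.T3 Cfsg.Agent.L0.C12
open scoped commutatorElement Pointwise

universe u

theorem sq_left {G : Type*} [Group G] {t : G} (tt : t * t = 1) (g : G) : t * (t * g) = g := by
  rw [← mul_assoc, tt, one_mul]

theorem conj_left {G : Type*} [Group G] {x d : G} (h : Commute x d) (y : G) :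
    x⁻¹ * (d * y) * x = d * (x⁻¹ * y * x) := by
  rw [← mul_assoc, h.inv_left.eq]; group

/-- The configuration with a four-group `⟨w, w^x⟩` normal modulo `t`. -/
structure VW {G : Type u} [Group G] (x s t w : G) (K : Subgroup G) : Prop extends VA x s t K where
  wK : w ∈ K
  wt : w ∉ zpowers t
  ww : w * w = 1
  cen : ∀ k ∈ K, ⁅w, k⁆ ∈ zpowers t
  sw : Commute s w
  wa : Commute w (x * w * x⁻¹)
  nw : x⁻¹ * w * x = w * (x * w * x⁻¹)

namespace VA

variable {G : Type u} [Group G] {x s t : G} {K : Subgroup G} (c : VA x s t K)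
include c

theorem idxC {B : Subgroup G} (hB : B ≤ K) {p : G} (hp : ∀ b ∈ B, ⁅p, b⁆ ∈ zpowers t) :
    Idx2 (B ⊓ centralizer {p}) B :=
  idx2_cent c.tt (fun _ hb => c.kt (hB hb)) fun b hb => c.zt.1 (hp b hb)

theorem gen4 {p q u v : G} (hp : ∀ b ∈ K, ⁅p, b⁆ ∈ zpowers t) (hq : ∀ b ∈ K, ⁅q, b⁆ ∈ zpowers t)
    (hu : u ∈ K) (up : ¬ Commute u p) (hv : v ∈ K) (vp : Commute v p) (vq : ¬ Commute v q) {k : G}
    (hk : k ∈ K) : k ∈ K ⊓ centralizer {p} ⊓ centralizer {q} ∨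
      k * v ∈ K ⊓ centralizer {p} ⊓ centralizer {q} ∨
      k * u ∈ K ⊓ centralizer {p} ⊓ centralizer {q} ∨
      k * u * v ∈ K ⊓ centralizer {p} ⊓ centralizer {q} := by
  have h2 : ∀ k ∈ K ⊓ centralizer {p}, k ∈ K ⊓ centralizer {p} ⊓ centralizer {q} ∨
      k * v ∈ K ⊓ centralizer {p} ⊓ centralizer {q} := fun k hk => by
    by_cases e : k ∈ K ⊓ centralizer {p} ⊓ centralizer {q}
    · exact Or.inl e
    · exact Or.inr (idx2_mul (c.idxC inf_le_left fun b hb => hq b hb.1) hk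
        ⟨hv, L0.SC3.mem_cent.2 vp⟩ e fun e' => vq (L0.SC3.mem_cent.1 e'.2))
  by_cases e : k ∈ K ⊓ centralizer {p}
  · exact (h2 k e).imp_right Or.inl
  · exact Or.inr (Or.inr (h2 _ (idx2_mul (c.idxC le_rfl hp) hk hu e
      fun e' => up (L0.SC3.mem_cent.1 e'.2))))

theorem gen4' {p q u v : G} (hp : ∀ b ∈ K, ⁅p, b⁆ ∈ zpowers t) (hq : ∀ b ∈ K, ⁅q, b⁆ ∈ zpowers t)
    (hu : u ∈ K) (up : ¬ Commute u p) (hv : v ∈ K) (vp : Commute v p) (vq : ¬ Commute v q)
    {B : Subgroup G} (h : K ⊓ centralizer {p} ⊓ centralizer {q} ≤ B) (uB : u ∈ B) (vB : v ∈ B) :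
    K ≤ B := fun k hk => by
  rcases c.gen4 hp hq hu up hv vp vq hk with e | e | e | e
  · exact h e
  · exact (mul_mem_cancel_right vB).1 (h e)
  · exact (mul_mem_cancel_right uB).1 (h e)
  · exact (mul_mem_cancel_right uB).1 ((mul_mem_cancel_right vB).1 (h e))

theorem comm_zt {g d : G} (hg : Commute g t) (hd : d ∈ zpowers t) : Commute g d := by
  obtain ⟨k, rfl⟩ := hd
  exact hg.zpow_right k

theorem sq_zt {d : G} (hd : d ∈ zpowers t) : d * d = 1 := c.toCtx.sq hd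

theorem s_eq {y : G} (hy : y ∈ K) (h : ⁅y, s⁆ ∈ zpowers t) :
    ∃ d ∈ zpowers t, s * y * s⁻¹ = d * y :=
  ⟨_, inv_mem h, by simp only [commutatorElement_def]; group⟩

variable [Finite G]

theorem genH {B : Subgroup G} (hK : K ≤ B) (hx : x ∈ B) (hs : s ∈ B) : centralizer {t} ≤ B :=
  fun g hg => by
    rcases c.ti.act g hg with e | e
    · rcases c.ti.decomp c.t3 hg e with e | e | e
      · exact hK e
      · exact (mul_mem_cancel_right (inv_mem hx)).1 (hK e)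
      · exact (mul_mem_cancel_right hx).1 (hK e)
    · rcases c.ti.decomp' c.t3 c.sH c.sx hg e with e | e | e
      · exact (mul_mem_cancel_right hs).1 (hK e)
      · exact (mul_mem_cancel_right hs).1 ((mul_mem_cancel_right (inv_mem hx)).1 (hK e))
      · exact (mul_mem_cancel_right hs).1 ((mul_mem_cancel_right hx).1 (hK e))

theorem card4 {p q : G} (hp : ∀ b ∈ K, ⁅p, b⁆ ∈ zpowers t) (hq : ∀ b ∈ K, ⁅q, b⁆ ∈ zpowers t) :
    Nat.card K ≤ 4 * Nat.card (K ⊓ centralizer {p} ⊓ centralizer {q} : Subgroup G) := by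
  have h1 := idx2_card_le (c.idxC le_rfl hp)
  have h2 := idx2_card_le (c.idxC (B := K ⊓ centralizer {p}) inf_le_left fun b hb => hq b hb.1)
  omega

theorem exists_norm {y : G} (hy : y ∈ c.ZZ K le_rfl) (h1 : y ∉ zpowers t)
    (h3 : ⁅y, s⁆ ∈ zpowers t) : ∃ z ∈ c.ZZ K le_rfl, z ∉ zpowers t ∧ z * z = y * y ∧
      ⁅z, s⁆ ∈ zpowers t ∧ z * (x * z * x⁻¹) * (x⁻¹ * z * x) = 1 := by
  rcases c.zt.1 (c.fpf.norm hy.1) with e | e
  · exact ⟨y, hy, h1, rfl, h3, e⟩
  have ty := (c.kt hy.1).eq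
  refine ⟨t * y, mul_mem ⟨c.tK, fun b hb => by rw [comm_one.2 (c.kt hb).symm]; exact one_mem _⟩ hy,
    fun h => h1 ((mul_mem_cancel_left (mem_zpowers t)).1 h), ?_, ?_, ?_⟩
  · rw [mul_assoc, ← mul_assoc y, ty, ← mul_assoc, ← mul_assoc, c.tt, one_mul]
  · rw [comm_mul_left', comm_one.2 c.st.symm, mul_one]
    exact c.nD t (c.ti.le c.tK) _ h3
  · have e1 : x * (t * y) * x⁻¹ = t * (x * y * x⁻¹) := by rw [← conj_mul, conj_fix c.xt]
    have e3 := c.kt (c.xK hy.1)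
    rw [e1, conj_left c.xt]
    generalize x * y * x⁻¹ = a at e e3
    generalize x⁻¹ * y * x = b at e
    simp only [mul_assoc, e3.left_comm, (c.kt hy.1).left_comm, sq_left c.tt]
    rw [← mul_assoc y, e, c.tt]

theorem exists_VW {y : G} (hy : y ∈ c.ZZ K le_rfl) (h1 : y ∉ zpowers t) (h2 : y * y = 1)
    (h3 : ⁅y, s⁆ ∈ zpowers t) : ∃ w, VW x s t w K := by
  obtain ⟨w, hw, w1, w2, w3, w4⟩ := c.exists_norm hy h1 h3
  rw [h2] at w2
  have wa := c.fpf.trick (fun _ => c.zt.1) (fun b hb => (c.kt hb).symm) c.tt hw.1 w2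
  have aa : x * w * x⁻¹ * (x * w * x⁻¹) = 1 := by rw [conj_mul, w2]; simp
  have nw : x⁻¹ * w * x = w * (x * w * x⁻¹) := by
    rw [eq_inv_of_mul_eq_one_right w4, mul_inv_rev, inv_eq_of_mul_eq_one_right w2,
      inv_eq_of_mul_eq_one_right aa, wa.eq]
  refine ⟨w, c, hw.1, w1, w2, hw.2, ?_, wa, nw⟩
  obtain ⟨d, hd, e⟩ := c.s_eq hw.1 w3
  have e1 := c.s_conj w
  have e2 := c.s_conj' w
  have xd := c.comm_zt c.xt hd
  rw [e, conj_left xd, nw] at e1
  rw [e, ← conj_mul (b := x), conj_fix xd, nw, ← conj_mul, e, e1] at e2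
  have e3 := c.comm_zt (c.kt hw.1) hd
  have : d = 1 := by
    generalize x * w * x⁻¹ = a at e2
    simpa only [mul_assoc, e3.left_comm, sq_left w2, mul_right_inj, mul_eq_right] using e2
  rw [this, one_mul] at e
  exact mul_inv_eq_iff_eq_mul.1 e

theorem q8 (hK : ¬ K ≤ zpowers t) (h : ∀ y ∈ c.ZZ K le_rfl, y ∉ zpowers t → y * y ∈ zpowers t →
    ⁅y, s⁆ ∈ zpowers t → y * y = t) : Nat.card G < 6000 := by
  obtain ⟨y0, a1, a2, a3, a4⟩ := c.exP le_rfl c.tK (fun _ => c.xK) (fun _ => c.sK') hK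
  obtain ⟨y, hy, y1, y2, y3, y4⟩ := c.exists_norm a1 a2 a4
  rw [h y0 a1 a2 a3 a4] at y2
  have hz : x * y * x⁻¹ ∈ c.ZZ K le_rfl := c.ZZ_conj c.xt (fun _ => c.xK) (fun _ => c.xK') hy
  obtain ⟨d, hd, sy⟩ := c.s_eq hy.1 y3
  have xd := c.comm_zt c.xt hd
  have sz := c.s_conj y
  rw [sy, conj_left xd] at sz
  have su := c.s_conj' y
  rw [sy, ← conj_mul (b := x), conj_fix xd] at su
  have zz : x * y * x⁻¹ * (x * y * x⁻¹) = t := by rw [conj_mul, y2, conj_fix c.xt]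
  have uu : x⁻¹ * y * x * (x⁻¹ * y * x) = t := by
    rw [show x⁻¹ * y * x * (x⁻¹ * y * x) = x⁻¹ * (y * y) * x by group, y2, c.xt.inv_left.eq]; group
  have xz := c.x_conj y
  have xu : x * (x⁻¹ * y * x) * x⁻¹ = y := by group
  obtain ⟨u, hu⟩ : ∃ u, x⁻¹ * y * x = u := ⟨_, rfl⟩
  obtain ⟨z, xy⟩ : ∃ z, x * y * x⁻¹ = z := ⟨_, rfl⟩
  simp only [hu, xy] at hz sz su zz uu xz xu y4
  have ty := c.kt hy.1
  have tz := c.kt hz.1
  have yi : y⁻¹ = t * y := by rw [inv_eq_iff_mul_eq_one, ty.left_comm, y2, c.tt]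
  have zi : z⁻¹ = t * z := by rw [inv_eq_iff_mul_eq_one, tz.left_comm, zz, c.tt]
  have eu : u = z * y := by
    rw [eq_inv_of_mul_eq_one_right y4, mul_inv_rev, yi, zi]
    simp only [mul_assoc, tz.left_comm, sq_left c.tt]
  have zy : z * y = t * (y * z) := by
    rw [eu] at uu
    calc z * y = (z * y)⁻¹ * (z * y * (z * y)) := by group
      _ = _ := by
        rw [uu, mul_inv_rev, yi, zi]
        simp only [mul_assoc, tz.left_comm, ty.left_comm, sq_left c.tt, tz.eq]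
  have nyz : ¬ Commute y z := fun e => c.t1 (by simpa [← e.eq] using zy)
  have dt : d = t := (c.zt.1 hd).resolve_left fun e => nyz (by
    rw [e, one_mul] at sy sz su
    have := congrArg (fun g => s * g * s⁻¹) eu
    simp only [← conj_mul (b := s), sy, sz, su] at this
    rw [eu, mul_assoc, y2, left_eq_mul] at this
    exact absurd this c.t1)
  subst dt
  have yC : ∀ g, Commute g y → Commute g z → Commute g d → Commute g u := fun g h1 h2 _ =>
    eu ▸ h2.mul_right h1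
  have hC : K ⊓ centralizer {y} ⊓ centralizer {z} ≤ zpowers d := by
    by_contra hn
    have mC : ∀ g, g ∈ K ⊓ centralizer {y} ⊓ centralizer {z} ↔ g ∈ K ∧ Commute g y ∧ Commute g z :=
      fun g => by simp only [mem_inf, L0.SC3.mem_cent, and_assoc]
    have le : K ⊓ centralizer {y} ⊓ centralizer {z} ≤ K := inf_le_left.trans inf_le_left
    obtain ⟨e, he, e1, e2, e3⟩ := c.exP le ((mC _).2 ⟨c.tK, ty.symm, tz.symm⟩) (fun b hb => by
      obtain ⟨b1, b2, b3⟩ := (mC b).1 hb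
      exact (mC _).2 ⟨c.xK b1, xu ▸ (yC b b2 b3 (c.kt b1)).conj x, xy ▸ b2.conj x⟩) (fun b hb => by
      obtain ⟨b1, b2, b3⟩ := (mC b).1 hb
      have k1 := c.kt (c.sK' b1)
      refine (mC _).2 ⟨c.sK' b1, ?_, ?_⟩
      · simpa [sy, sq_left c.tt] using k1.mul_right (b2.conj s)
      · simpa [su, sq_left c.tt] using k1.mul_right ((yC b b2 b3 (c.kt b1)).conj s)) hn
    obtain ⟨b1, b2, b3⟩ := (mC e).1 he.1
    have he' : e ∈ c.ZZ K le_rfl := ⟨b1, fun k hk => (c.gen4' hy.2 hz.2 hz.1 (fun e => nyz e.symm)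
      hy.1 (Commute.refl y) nyz (B := c.fpf.cmod e (mem_normalizer_of_conj
        (c.nD e (c.ti.le b1)))) (fun g hg => ⟨le hg, he.2 g hg⟩)
      ⟨hz.1, by rw [comm_one.2 b3]; exact one_mem _⟩ ⟨hy.1, by rw [comm_one.2 b2]; exact one_mem _⟩
      hk).2⟩
    have e4 : e * y * (e * y) = 1 := by
      rw [mul_assoc, ← mul_assoc y, ← b2.eq, mul_assoc, y2, ← mul_assoc, h e he' e1 e2 e3, c.tt]
    have := h (e * y) (mul_mem he' hy) (fun m => nyz (by
      simpa using b3.inv_left.mul_left (c.comm_zt tz m).symm)) (e4 ▸ one_mem _) (by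
      rw [comm_mul_left']
      exact mul_mem (c.nD e (c.ti.le b1) _ y3) e3)
    exact c.t1 (this ▸ e4)
  have c8 : Nat.card K = 8 := by
    have h1 := c.card4 hy.2 hz.2
    have h2 := card_le_of_le hC
    obtain ⟨j, hj⟩ := c.card_sub le_rfl c.tK fun _ => c.xK
    have h3 : Nat.card K ≠ 2 := fun e => hK (eq_of_le_of_card_ge (zpowers_le.2 c.tK)
      (by rw [e, c.card_zt])).ge
    rw [c.card_zt] at h2
    rcases j with _ | _ | j
    · exact absurd hj h3
    · exact hj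
    · rw [pow_succ, pow_succ] at hj
      have := Nat.one_le_pow j 4 (by norm_num)
      omega
  have hm : ∀ {g}, Commute g d → g ∈ centralizer ({d} : Set G) := L0.SC3.mem_cent.2
  let a : centralizer ({d} : Set G) := ⟨z * s, hm (tz.mul_left c.st)⟩
  let r : centralizer ({d} : Set G) := ⟨s, c.sH⟩
  let k : centralizer ({d} : Set G) := ⟨x, c.ti.mem⟩
  have a2 : (z * s) ^ 2 = y := by
    rw [sq, show z * s * (z * s) = z * (s * z * s⁻¹) * (s * s) by group, c.ss, sz, eu, mul_one]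
    simp only [mul_assoc, tz.left_comm, ← mul_assoc z z, zz, sq_left c.tt]
  have a4 : (z * s) ^ 4 = d := by rw [show 4 = 2 * 2 from rfl, pow_mul, a2, sq, y2]
  have a8 : a ^ 8 = 1 := Subtype.ext (by
    change (z * s) ^ 8 = 1
    rw [show 8 = 4 * 2 from rfl, pow_mul, a4, sq, c.tt])
  obtain ⟨ψ, ψa, -, -⟩ := H3.Gam.exists_iso (a := a) (r := r) (k := k) a8 (Subtype.ext c.ss)
    (Subtype.ext (by
      change s * (z * s) * s = (z * s) ^ 3
      rw [pow_succ, a2, show s * (z * s) * s = s * z * s⁻¹ * s * (s * s) by group, c.ss, sz, eu,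
        zy]
      simp only [mul_assoc, sq_left c.tt, mul_one]))
    (Subtype.ext c.t3.cube) (Subtype.ext (by simpa [r, k, c.s_inv] using c.sx))
    (Subtype.ext (by
      change x * (z * s) ^ 2 * x⁻¹ = z * s * s
      rw [a2, xy, mul_assoc, c.ss, mul_one]))
    (by
      refine eq_top_iff.2 fun g _ => ?_
      set L := closure ({a, r, k} : Set (centralizer ({d} : Set G)))
      have ma : z * s ∈ L.map (centralizer {d}).subtype := ⟨a, subset_closure (by simp), rfl⟩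
      have mr : s ∈ L.map (centralizer {d}).subtype := ⟨r, subset_closure (by simp), rfl⟩
      have my : y ∈ L.map (centralizer {d}).subtype := a2 ▸ pow_mem ma 2
      obtain ⟨g', hg, e⟩ := c.genH (c.gen4' hy.2 hz.2 hz.1 (fun e => nyz e.symm)
        hy.1 (Commute.refl y) nyz (hC.trans (zpowers_le.2 (by
          have := mul_mem my my
          rwa [y2] at this)))
        ((mul_mem_cancel_right mr).1 ma) my) ⟨k, subset_closure (by simp), rfl⟩ mr g.2
      rwa [← Subtype.ext e])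
    (by rw [c.cardH, c8])
  have := Fintype.ofFinite G
  have := c.simple
  have hk : ψ.toMonoidHom.ker = ⊥ := (MonoidHom.ker_eq_bot_iff _).2 ψ.injective
  have one : IsConj d (s * d) := c.ts.trans (isConj_iff.2 ⟨y, by
    rw [show y * s * y⁻¹ = y * (s * y * s⁻¹)⁻¹ * s by group, sy, c.st.eq, mul_inv_rev, c.t_inv]
    group⟩)
  have := (H3.SDC.main (π := ψ.toMonoidHom) ⟨c.t1, c.tt, fun u u1 hu => ((c.cls u hu u1).elim id
    fun e => e.trans one.symm).symm, ψ.surjective, by simp [hk], fun g e => by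
      rw [show g = a ^ 4 from Subtype.ext (e.trans a4.symm), map_pow, ← H3.Gam.ga_four]
      exact congrArg (· ^ 4) ψa, fun g e => ψ.injective (by
        rw [map_mul, map_one]; exact (H3.Gam.eq_of_ty _).2.2 e)⟩ a8 ψa c8 (fun g hg g1 => ?_)
    (fun u _ g hg => by rw [hk, mem_bot] at hg; simp [hg])
    (fun g hg => by rw [hk, mem_bot] at hg; simp [hg])).2
  · have := c.t3.five
    omega
  have key : ∀ q ∈ K, q * q = d → g * q ∈ zpowers d → d ∈ zpowers g := fun q hq q2 e => by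
    refine ⟨2, ?_⟩
    have e1 := c.comm_zt (c.kt hq) e
    have e2 := c.sq_zt e
    obtain ⟨m, rfl⟩ : ∃ m, g = m * q⁻¹ := ⟨g * q, by simp⟩
    rw [inv_mul_cancel_right] at e1 e2
    simp only [zpow_two]
    rw [mul_assoc, ← mul_assoc q⁻¹, e1.inv_left.eq, mul_assoc, ← mul_assoc, e2, one_mul,
      ← mul_inv_rev, q2, c.t_inv]
  rcases c.gen4 hy.2 hz.2 hz.1 (fun e => nyz e.symm) hy.1 (Commute.refl y) nyz hg with e | e | e | e
  · exact ((c.zt.1 (hC e)).resolve_left g1).symm ▸ mem_zpowers _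
  · exact key y hy.1 y2 (hC e)
  · exact key z hz.1 zz (hC e)
  · exact key _ (mul_mem hz.1 hy.1) (eu ▸ uu) (mul_assoc g z y ▸ hC e)

theorem small_or : Nat.card G < 6000 ∨ ∃ w, VW x s t w K := by
  by_cases hK : K ≤ zpowers t
  · exact Or.inl (c.small hK)
  by_cases h : ∀ y ∈ c.ZZ K le_rfl, y ∉ zpowers t → y * y ∈ zpowers t →
    ⁅y, s⁆ ∈ zpowers t → y * y = t
  · exact Or.inl (c.q8 hK h)
  push Not at h
  obtain ⟨y, h1, h2, h3, h4, h5⟩ := h
  exact Or.inr (c.exists_VW h1 h2 ((c.zt.1 h3).resolve_right h5) h4)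

end VA

end Cfsg.Agent.H6.C12
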