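import Cfsg.Agent.H6.C12A3

/-!
# The case `|V| = 2` with `K ⟨s⟩` Sylow: the four-group `⟨t, w⟩`
-/

set_option autoImplicit false

namespace Cfsg.Agent.H6.C12

open Subgroup Cfsg.Agent.L0.SC3 Cfsg.Agent.H9 Cfsg.Agent.H1.T3 Cfsg.Agent.L0.C12
open scoped commutatorElement Pointwise

universe u

theorem exists_idx2 {G : Type*} [Group G] [Finite G] {R Y : Subgroup G} (hRY : R ≤ Y)
    (h2 : IsPGroup 2 R) (h : R.relIndex Y = 7) : ∃ y ∈ Y, y ∉ R ∧
      Nat.card R ≤ 2 * Nat.card (R ⊓ MulAut.conj y • R : Subgroup G) := by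
  classical
  have := factTwo
  let R' := R.subgroupOf Y
  have := Fintype.ofFinite (Y ⧸ R')
  by_contra! hn
  have hc : Fintype.card (Y ⧸ R') = 7 := by rw [← Nat.card_eq_fintype_card]; exact h
  have h1 : ∀ r : R', r • ((1 : Y) : Y ⧸ R') = ((1 : Y) : Y ⧸ R') := fun r =>
    QuotientGroup.eq.2 (by simp)
  have key : ∀ q : Y ⧸ R', q ≠ ((1 : Y) : Y ⧸ R') → 4 ∣ (MulAction.stabilizer R' q).index := by
    intro q hq
    obtain ⟨y, rfl⟩ := QuotientGroup.mk_surjective q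
    have h3 := hn y y.2 fun e => hq (QuotientGroup.eq.2 (by simpa [R', mem_subgroupOf] using e))
    have h4 : Nat.card (MulAction.stabilizer R' (y : Y ⧸ R')) =
        Nat.card (R ⊓ MulAut.conj (y : G) • R : Subgroup G) := by
      rw [← card_map_of_injective (f := Y.subtype.comp R'.subtype)
        (Subtype.val_injective.comp Subtype.val_injective)]
      congr 2
      ext g
      simp only [mem_map, mem_inf, mem_conj_smul_iff, MulAction.mem_stabilizer_iff]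
      constructor
      · rintro ⟨r, hr, rfl⟩
        exact ⟨r.2, by simpa [mul_assoc, R', mem_subgroupOf] using (QuotientGroup.eq.1 hr.symm : _ ∈ R')⟩
      · rintro ⟨g1, g2⟩
        exact ⟨⟨⟨g, hRY g1⟩, g1⟩, (QuotientGroup.eq.2 (by
          simpa [mul_assoc, R', mem_subgroupOf] using g2)).symm, rfl⟩
    have h5 := (MulAction.stabilizer R' (y : Y ⧸ R')).card_mul_index
    have h6 : Nat.card R' = Nat.card R := Nat.card_congr (subgroupOfEquivOfLe hRY).toEquiv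
    obtain ⟨k, hk⟩ := IsPGroup.iff_card.1 h2
    obtain ⟨i, -, hi⟩ := (Nat.dvd_prime_pow Nat.prime_two).1 (hk ▸ h6 ▸ Dvd.intro_left _ h5)
    rw [h4, h6, hi] at h5
    rw [hi]
    rcases i with _ | _ | i
    · omega
    · omega
    · exact ⟨2 ^ i, by ring⟩
  have h7 := h2.of_equiv (subgroupOfEquivOfLe hRY).symm
  have h8 : 4 ∣ (Finset.univ.erase ((1 : Y) : Y ⧸ R')).card := by
    rw [Finset.card_eq_sum_card_image (fun a => (Quotient.mk (MulAction.orbitRel R' _) a))]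
    refine Finset.dvd_sum fun ω hω => ?_
    obtain ⟨a, ha, rfl⟩ := Finset.mem_image.1 hω
    refine (key a (Finset.mem_erase.1 ha).1).trans (dvd_of_eq (Eq.symm ?_))
    rw [MulAction.index_stabilizer, ← Set.ncard_coe_finset]
    congr 1
    ext b
    simp only [Finset.coe_filter, Set.mem_ofPred_eq, Quotient.eq, MulAction.orbitRel_apply]
    refine and_iff_right_of_imp fun ⟨r, e⟩ => Finset.mem_erase.2 ⟨fun e' => ?_, Finset.mem_univ _⟩
    refine (Finset.mem_erase.1 ha).1 ?_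
    rw [← h1 r⁻¹, ← e', ← e, inv_smul_smul]
  rw [Finset.card_erase_of_mem (Finset.mem_univ _), Finset.card_univ, hc] at h8
  omega

/-- The centralizer of `⟨t, w⟩`. -/
abbrev RR {G : Type*} [Group G] (t w : G) : Subgroup G := centralizer {t} ⊓ centralizer {w}

/-- The centralizer in `K` of `⟨w, w^x⟩`. -/
abbrev QQ {G : Type*} [Group G] (x w : G) (K : Subgroup G) : Subgroup G :=
  K ⊓ centralizer {w} ⊓ centralizer {x * w * x⁻¹}

namespace VW

variable {G : Type u} [Group G] {x s t w : G} {K : Subgroup G} (c : VW x s t w K)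
include c

omit c in
theorem mR {g : G} : g ∈ (RR t w) ↔ Commute g t ∧ Commute g w := by
  simp only [mem_inf, L0.SC3.mem_cent]

omit c in
theorem mQ {g : G} : g ∈ (QQ x w K) ↔ g ∈ K ∧ Commute g w ∧ Commute g (x * w * x⁻¹) := by
  simp only [mem_inf, L0.SC3.mem_cent, and_assoc]

theorem aK : (x * w * x⁻¹) ∈ K := c.xK c.wK
theorem cena : ∀ k ∈ K, ⁅(x * w * x⁻¹), k⁆ ∈ zpowers t :=
  (c.ZZ_conj (hB := le_rfl) c.xt (fun _ => c.xK) (fun _ => c.xK') ⟨c.wK, c.cen⟩).2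
theorem aa : (x * w * x⁻¹) * (x * w * x⁻¹) = 1 := by rw [conj_mul, c.ww]; simp
theorem xa : x * (x * w * x⁻¹) * x⁻¹ = w * (x * w * x⁻¹) := by rw [c.x_conj, c.nw]
theorem sa : s * (x * w * x⁻¹) * s⁻¹ = w * (x * w * x⁻¹) := by rw [c.s_conj, conj_fix c.sw, c.nw]
theorem w1 : w ≠ 1 := fun e => c.wt (e ▸ one_mem _)
theorem w_ne : w ≠ t := fun e => c.wt (e ▸ mem_zpowers _)
theorem tw : Commute t w := (c.kt c.wK).symm
theorem w_inv : w⁻¹ = w := inv_eq_of_mul_eq_one_right c.ww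
theorem QK : (QQ x w K) ≤ K := inf_le_left.trans inf_le_left
theorem tQ : t ∈ (QQ x w K) := mQ.2 ⟨c.tK, c.tw, (c.kt c.aK).symm⟩
theorem wQ : w ∈ (QQ x w K) := mQ.2 ⟨c.wK, Commute.refl w, c.wa⟩
theorem aR : (x * w * x⁻¹) ∈ (RR t w) := mR.2 ⟨c.kt c.aK, c.wa.symm⟩
theorem QR : (QQ x w K) ≤ (RR t w) := fun _ hq => mR.2 ⟨c.kt (mQ.1 hq).1, (mQ.1 hq).2.1⟩

theorem xQ {q : G} (hq : q ∈ (QQ x w K)) : x * q * x⁻¹ ∈ (QQ x w K) := by
  obtain ⟨h1, h2, h3⟩ := mQ.1 hq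
  have h4 := h3.conj x
  rw [c.xa] at h4
  exact mQ.2 ⟨c.xK h1, by
    simpa only [mul_inv_cancel_right] using h4.mul_right (h2.conj x).inv_right, h2.conj x⟩

variable [Finite G]

theorem nQ : ∀ l ∈ centralizer ({t} : Set G), ∀ q ∈ (QQ x w K), l * q * l⁻¹ ∈ (QQ x w K) := fun l hl q hq => by
  refine L0.C12.conj_mem_of_mem_normalizer (c.genH (fun k hk => mem_normalizer_of_conj
    fun q hq => ?_) (mem_normalizer_of_conj fun _ => c.xQ) (mem_normalizer_of_conj fun q hq => ?_)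
    hl) hq
  · obtain ⟨h1, h2, h3⟩ := mQ.1 hq
    have h4 := mul_mem (mul_mem hk h1) (inv_mem hk)
    have key : ∀ p, Commute q p → ⁅p, k⁆ ∈ zpowers t → Commute (k * q * k⁻¹) p := fun p e e' => by
      simpa [commutatorElement_def, mul_assoc] using
        (c.comm_zt (c.kt h4) e').mul_right (e.conj k)
    exact mQ.2 ⟨h4, key w h2 (c.cen k hk), key _ h3 (c.cena k hk)⟩
  · obtain ⟨h1, h2, h3⟩ := mQ.1 hq
    have h4 := h2.conj s
    have h5 := h3.conj s
    rw [conj_fix c.sw] at h4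
    rw [c.sa] at h5
    exact mQ.2 ⟨c.sK' h1, h4, by simpa using h4.inv_right.mul_right h5⟩

theorem RT : (RR t w) ≤ K ⊔ zpowers s := by
  have key : ∀ g ∈ (RR t w), g * x * g⁻¹ * x⁻¹ ∈ K → g ∈ K := fun g hg h => by
    obtain ⟨h1, h2⟩ := mR.1 hg
    rcases c.ti.decomp c.t3 hg.1 h with e | e | e
    · exact e
    · refine absurd (c.fpf.fix'' c.wK ?_) c.wt
      have := inv_mem (c.cen _ (inv_mem e))
      rwa [show ⁅w, (g * x⁻¹)⁻¹⁆⁻¹ = x * (g⁻¹ * w * g⁻¹⁻¹) * x⁻¹ * w⁻¹ by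
        simp only [commutatorElement_def]; group, conj_fix h2.inv_left] at this
    · refine absurd (c.fpf.symm.fix'' c.wK ?_) c.wt
      have := inv_mem (c.cen _ (inv_mem e))
      rwa [show ⁅w, (g * x)⁻¹⁆⁻¹ = x⁻¹ * (g⁻¹ * w * g⁻¹⁻¹) * x⁻¹⁻¹ * w⁻¹ by
        simp only [commutatorElement_def]; group, conj_fix h2.inv_left] at this
  intro g hg
  rcases c.ti.act g hg.1 with e | e
  · exact mem_sup_left (key g hg e)
  · exact c.memT.2 (Or.inr (key _ (mul_mem hg (mR.2 ⟨c.st, c.sw⟩))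
      (c.ti.act_mul hg.1 e (by simp [c.sx]))))

theorem ex0 : ∃ k ∈ K, ⁅w, k⁆ = t := by
  by_contra! h
  exact c.wt (c.zK c.wK fun k hk => comm_one.1 ((c.zt.1 (c.cen k hk)).resolve_right (h k hk)))

theorem ex1 : ∃ k ∈ K, Commute k w ∧ ⁅(x * w * x⁻¹), k⁆ = t := by
  by_contra! h
  obtain ⟨k, hk, e⟩ := c.ex0
  have := c.fpf.le_of_index_two (F := K ⊓ centralizer {w})
    (zpowers_le.2 ⟨c.tK, L0.SC3.mem_cent.2 c.tw⟩) (fun b hb => (c.xQ ⟨hb, L0.SC3.mem_cent.2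
      (comm_one.1 ((c.zt.1 (c.cena b hb.1)).resolve_right
        (h b hb.1 (L0.SC3.mem_cent.1 hb.2)))).symm⟩).1)
    (fun a ha b hb => idx2_mul (c.idxC le_rfl c.cen) ha hb) hk
  rw [comm_one.2 (L0.SC3.mem_cent.1 this.2).symm] at e
  exact c.t1 e.symm

omit [Finite G] in
theorem not_comm {p k : G} (h : ⁅p, k⁆ = t) : ¬ Commute k p := fun e =>
  c.t1 (h.symm.trans (comm_one.2 e.symm))

theorem card1 : Nat.card K = 2 * Nat.card (K ⊓ centralizer {w} : Subgroup G) := by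
  obtain ⟨k, hk, e⟩ := c.ex0
  rw [← (c.idxC le_rfl c.cen).card hk fun h => c.not_comm e (L0.SC3.mem_cent.1 h.2), mul_comm]

theorem card2 : Nat.card K = 4 * Nat.card (QQ x w K) := by
  obtain ⟨k, hk, e1, e⟩ := c.ex1
  rw [c.card1, ← (c.idxC (B := K ⊓ centralizer {w}) inf_le_left fun b hb => c.cena b hb.1).card
    ⟨hk, L0.SC3.mem_cent.2 e1⟩ fun h => c.not_comm e (L0.SC3.mem_cent.1 h.2)]
  ring

theorem cardR : Nat.card (RR t w) = Nat.card K := by
  have h1 : Idx2 (K ⊓ centralizer {w}) (RR t w) := idx2_of (inf_le_inf_right _ c.ti.le)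
    fun a ha b hb h1 h2 => ⟨idx2_mul c.idxT (c.RT ha) (c.RT hb) (fun e => h1 ⟨e, ha.2⟩)
      fun e => h2 ⟨e, hb.2⟩, mul_mem ha.2 hb.2⟩
  rw [c.card1, ← h1.card (mR.2 ⟨c.st, c.sw⟩) fun h => c.sK h.1, mul_comm]

omit c in
theorem card_ge {j n : ℕ} (h : n = 2 * 4 ^ j) (h2 : n ≠ 2) : 8 ≤ n := by
  rcases j with _ | j
  · exact absurd h h2
  · rw [pow_succ] at h
    have := Nat.one_le_pow j 4 (by norm_num)
    omega

theorem card_ge' {B : Subgroup G} (hB : B ≤ K) (ht : t ∈ B) (hw : w ∈ B)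
    (hx : ∀ b ∈ B, x * b * x⁻¹ ∈ B) : 8 ≤ Nat.card B := by
  obtain ⟨j, hj⟩ := c.card_sub hB ht hx
  exact card_ge hj fun e => c.wt ((eq_of_le_of_card_ge (zpowers_le.2 ht)
    (by rw [e, c.card_zt])).ge hw)

theorem cardQ : 8 ≤ Nat.card (QQ x w K) := c.card_ge' c.QK c.tQ c.wQ fun _ => c.xQ

/-- The centre of `C(t, w)` is `⟨t, w⟩`. -/
theorem zR {z : G} (hz : z ∈ (RR t w)) (h : ∀ r ∈ (RR t w), Commute z r) :
    z = 1 ∨ z = t ∨ z = w ∨ z = t * w := by
  have le : K ⊓ centralizer {w} ≤ (RR t w) := inf_le_inf_right _ c.ti.le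
  have zK : z ∈ K := by
    by_contra hn
    have h1 := c.sqrt' le_rfl c.tK c.ti.normal (c.RT hz) hn (A := K ⊓ centralizer {w}) inf_le_left
      fun a ha => by rw [comm_one.2 (h a (le ha)).symm]; exact one_mem _
    have h2 := c.card1
    have h3 := c.card2
    have h4 := c.cardQ
    nlinarith
  obtain ⟨k, hk, e⟩ := c.ex0
  have i := c.idxC le_rfl c.cen
  have key : ∀ z ∈ K, (∀ r ∈ (RR t w), Commute z r) → Commute z k → z ∈ zpowers t := fun z zK h h' =>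
    c.zK zK fun g hg => by
      by_cases e' : g ∈ K ⊓ centralizer {w}
      · exact h g (le e')
      · simpa using (h _ (le (idx2_mul i hg hk e' fun h =>
          c.not_comm e (L0.SC3.mem_cent.1 h.2)))).mul_right h'.inv_right
  rcases c.zt.1 (c.fpf.central_of_index_two zK (F := K ⊓ centralizer {w}) (fun u hu _ => by
    rw [comm_one.2 (h u (le hu))]; exact one_mem _) (fun a ha b hb => idx2_mul i ha hb) k hk)
    with e' | e'
  · exact (c.zt.1 (key z zK h (comm_one.1 e'))).imp_right Or.inl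
  · rcases c.zt.1 (key (z * w) (mul_mem zK c.wK) (fun r hr => (h r hr).mul_left (mR.1 hr).2.symm)
      (comm_one.1 (by rw [comm_mul_left', e, e', conj_fix (c.kt zK), c.tt]))) with e1 | e1
    · exact Or.inr (Or.inr (Or.inl (by rw [eq_inv_of_mul_eq_one_left e1, c.w_inv])))
    · exact Or.inr (Or.inr (Or.inr (by rw [eq_mul_inv_of_mul_eq e1, c.w_inv])))

theorem conj_tw : IsConj w (t * w) := by
  obtain ⟨k, hk, e⟩ := c.ex0
  refine isConj_iff.2 ⟨k, ?_⟩
  rw [← c.t_inv, ← e]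
  simp only [commutatorElement_def]; group

theorem pair (hn : ¬ IsConj w t) {y : G} (hy : Commute y w) (h1 : y * t * y⁻¹ ≠ t)
    (h2 : Nat.card (RR t w) ≤ 2 * Nat.card ((RR t w) ⊓ centralizer {y * t * y⁻¹} : Subgroup G)) :
    Commute (y * t * y⁻¹) t ∧ ∃ k ∈ (RR t w), k * (k * (y * t * y⁻¹) * k⁻¹) * k⁻¹ = y * t * y⁻¹ ∧
      (y * t * y⁻¹ * (k * (y * t * y⁻¹) * k⁻¹) = t ∨
        y * t * y⁻¹ * (k * (y * t * y⁻¹) * k⁻¹) = t * w) := by
  have i := idx2_of_card inf_le_left h2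
  have pw : Commute (y * t * y⁻¹) w := by simpa only [conj_fix hy] using c.tw.conj y
  have pp : y * t * y⁻¹ * (y * t * y⁻¹) = 1 := by rw [conj_mul, c.tt]; simp
  have c1 : IsConj t (y * t * y⁻¹) := isConj_mk y t
  have c2 : IsConj w (y * t * y⁻¹ * w) := c.conj_tw.trans (isConj_iff.2 ⟨y, by
    rw [← conj_mul, conj_fix hy]⟩)
  generalize y * t * y⁻¹ = p at *
  obtain ⟨k1, m1, m2, m3⟩ := c.ex1
  have pt : Commute p t := (L0.SC3.mem_cent.1 (m3 ▸ idx2_comm i c.aR (mR.2 ⟨c.kt m1, m2⟩)).2).symm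
  have pR : p ∈ (RR t w) := mR.2 ⟨pt, pw⟩
  obtain ⟨k, hk, kp⟩ : ∃ k ∈ (RR t w), ¬ Commute p k := by
    by_contra! h
    rcases c.zR pR h with rfl | rfl | rfl | rfl
    · exact c.t1 (by simpa using c1)
    · exact h1 rfl
    · exact hn c1.symm
    · exact hn (c.conj_tw.trans c1.symm)
  have kn : k ∉ (RR t w) ⊓ centralizer {p} := fun e => kp (L0.SC3.mem_cent.1 e.2).symm
  have e1 : k * (k * p * k⁻¹) * k⁻¹ = p := by
    rw [show k * (k * p * k⁻¹) * k⁻¹ = k * k * p * (k * k)⁻¹ by group,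
      conj_fix (L0.SC3.mem_cent.1 (i.sq hk).2)]
  have e2 : ∀ r ∈ (RR t w) ⊓ centralizer {p}, Commute r (k * p * k⁻¹) := fun r hr => by
    simpa [mul_assoc] using (L0.SC3.mem_cent.1 ((i.conj hr.1 (inv_mem hk)).2 hr).2).conj k
  have e3 := e2 p ⟨pR, L0.SC3.mem_cent.2 (Commute.refl p)⟩
  have e4 : Commute k (p * (k * p * k⁻¹)) := mul_inv_eq_iff_eq_mul.1 (by
    rw [← conj_mul, e1, e3.eq])
  refine ⟨pt, k, hk, e1, ?_⟩
  rcases c.zR (mul_mem pR (mul_mem (mul_mem hk pR) (inv_mem hk))) (fun r hr => by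
    by_cases e : r ∈ (RR t w) ⊓ centralizer {p}
    · exact ((L0.SC3.mem_cent.1 e.2).mul_right (e2 r e)).symm
    · have e' := idx2_mul i hr hk e kn
      simpa using (((L0.SC3.mem_cent.1 e'.2).mul_right (e2 _ e')).mul_left e4.inv_left).symm)
    with e | e | e | e
  · rw [← pp, mul_right_inj] at e
    exact absurd (mul_inv_eq_iff_eq_mul.1 e).symm kp
  · exact Or.inl e
  · refine absurd (c2.trans (IsConj.trans ?_ c1.symm)) hn
    rw [← e, ← mul_assoc, pp, one_mul]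
    exact (isConj_mk k p).symm
  · exact Or.inr e

theorem conj_w : IsConj w t := by
  have := factTwo
  by_contra hn
  obtain ⟨h1, h2⟩ := c.card_cent c.ww c.w1 hn
  have h3 := card_mul_relIndex_of_le (inf_le_right : (RR t w) ≤ centralizer {w})
  have k0 : 0 < Nat.card K := Nat.card_pos
  rw [c.cardR] at h3
  have h7 : (RR t w).relIndex (centralizer {w}) = 7 := by
    have h4 : ¬ 2 ∣ (RR t w).relIndex (centralizer {w}) := fun e => hn (c.conj_of_dvd c.ww c.w1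
      (by rw [← h3, mul_comm]; exact Nat.mul_dvd_mul_left _ e))
    have h5 : ¬ 5 ∣ (RR t w).relIndex (centralizer {w}) := fun e =>
      c.t3.not_five' (centralizer {w}) (h3 ▸ e.mul_left _)
    rw [← h3] at h1 h2
    have : 4 ≤ (RR t w).relIndex (centralizer {w}) := by nlinarith
    have : (RR t w).relIndex (centralizer {w}) ≤ 8 := by nlinarith
    omega
  obtain ⟨y, hy, y1, h4⟩ := exists_idx2 inf_le_right (c.syl.isPGroup.to_le c.RT) h7
  have yw := L0.SC3.mem_cent.1 hy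
  have yt : ¬ Commute y t := fun e => y1 (mR.2 ⟨e, yw⟩)
  obtain ⟨pt, k, hk, e1, e2⟩ := c.pair hn yw (fun e => yt (mul_inv_eq_iff_eq_mul.1 e))
    (h4.trans (Nat.mul_le_mul_left _ (card_le_of_le fun g hg => ⟨hg.1, L0.SC3.mem_cent.2 (by
      simpa [mul_assoc] using (mR.1 (mem_conj_smul_iff.1 hg.2)).1.conj y)⟩)))
  obtain ⟨-, l, hl, e3, e4⟩ := c.pair hn yw.inv_left
    (fun e => yt (by simpa using (show Commute y⁻¹ t from mul_inv_eq_iff_eq_mul.1 e).inv_left))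
    (h4.trans (Nat.mul_le_mul_left _ (by
      rw [← card_conj_smul _ y⁻¹]
      refine card_le_of_le fun g hg => ?_
      rw [mem_conj_smul_iff, inv_inv] at hg
      exact ⟨by simpa [mul_assoc] using mem_conj_smul_iff.1 hg.2, L0.SC3.mem_cent.2 (by
        simpa [mul_assoc] using (mR.1 hg.1).1.conj y⁻¹)⟩)))
  obtain ⟨l', hl'⟩ : ∃ l', y * l * y⁻¹ = l' := ⟨_, rfl⟩
  have f1 : Commute l' w := by simpa only [hl', conj_fix yw] using (mR.1 hl).2.conj y
  have f2 : Commute l' (y * t * y⁻¹) := hl' ▸ (mR.1 hl).1.conj y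
  have f3 : l' * (l' * t * l'⁻¹) * l'⁻¹ = t := by
    have := congrArg (fun g => y * g * y⁻¹) e3
    simpa [← hl', mul_assoc] using this
  have f4 : t * (l' * t * l'⁻¹) = y * t * y⁻¹ ∨ t * (l' * t * l'⁻¹) = y * t * y⁻¹ * w :=
    e4.imp (fun e => by simpa [← hl', mul_assoc] using congrArg (fun g => y * g * y⁻¹) e) fun e => by
      have := congrArg (fun g => y * g * y⁻¹) e
      simp only [← conj_mul (b := y), conj_fix yw] at this
      simpa [← hl', mul_assoc] using this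
  have pp : y * t * y⁻¹ * (y * t * y⁻¹) = 1 := by rw [conj_mul, c.tt]; simp
  have c1 : IsConj t (y * t * y⁻¹) := isConj_mk y t
  have p1 : y * t * y⁻¹ ≠ t := fun e => yt (mul_inv_eq_iff_eq_mul.1 e)
  generalize y * t * y⁻¹ = p at *
  have n1 : k * p * k⁻¹ ≠ l' * t * l'⁻¹ * w := fun e => hn (c.conj_tw.trans (IsConj.trans
    (isConj_iff.2 ⟨l', by rw [← conj_mul, conj_fix f1, e]⟩) (c1.trans (isConj_mk k p)).symm))
  have e5 : k * p * k⁻¹ = l' * t * l'⁻¹ := by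
    have g1 := e2.imp (eq_inv_mul_of_mul_eq) eq_inv_mul_of_mul_eq
    have g2 := f4.imp (eq_inv_mul_of_mul_eq) eq_inv_mul_of_mul_eq
    rw [inv_eq_of_mul_eq_one_right pp] at g1
    rw [c.t_inv] at g2
    rcases g1 with g1 | g1 <;> rcases g2 with g2 | g2
    · rw [g1, g2, pt.eq]
    · exact absurd (by rw [g1, g2, pt.eq, mul_assoc, mul_assoc, c.ww, mul_one]) n1
    · exact absurd (by rw [g1, g2, ← mul_assoc, pt.eq]) n1
    · rw [g1, g2, ← mul_assoc, pt.eq, mul_assoc]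
  have g1 : k * l' * t * (k * l')⁻¹ = p := by rw [← e1, e5]; group
  have g2 : k * l' * p * (k * l')⁻¹ = l' * t * l'⁻¹ := by
    rw [← e5, show k * l' * p * (k * l')⁻¹ = k * (l' * p * l'⁻¹) * k⁻¹ by group, conj_fix f2]
  have g3 : k * l' * (l' * t * l'⁻¹) * (k * l')⁻¹ = t := by
    rw [show k * l' * (l' * t * l'⁻¹) * (k * l')⁻¹ = k * (l' * (l' * t * l'⁻¹) * l'⁻¹) * k⁻¹ by group,
      f3, conj_fix (mR.1 hk).1]
  have := mem_of_cube_mem (c.cube_cent c.ww c.w1 hn) (K := centralizer {t}) (g := k * l')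
    (mul_mem hk.2 (L0.SC3.mem_cent.2 f1)) (L0.SC3.mem_cent.2 (mul_inv_eq_iff_eq_mul.1 (by
      nth_rw 2 [← g3]
      rw [← g2, ← g1]
      simp only [pow_succ]; group)))
  exact p1 (g1 ▸ conj_fix (L0.SC3.mem_cent.1 this))

end VW

end Cfsg.Agent.H6.C12
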