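import Cfsg.Agent.H6.C12A4
import Cfsg.Agent.H7.Asch.Final
import Cfsg.Agent.H4.Golay

/-!
# The case `|V| = 2` with `K ⟨s⟩` Sylow: the extraspecial group of order 32
-/

set_option autoImplicit false

namespace Cfsg.Agent.H6.C12

open Subgroup Cfsg.Agent.L0.SC3 Cfsg.Agent.H9 Cfsg.Agent.H1.T3 Cfsg.Agent.L0.C12
open scoped commutatorElement Pointwise

universe u

theorem VA.exists_pi {G : Type u} [Group G] [Finite G] {x s t : G} {K : Subgroup G}
    (c : VA x s t K) : ∃ π : centralizer ({t} : Set G) →* Equiv.Perm (Fin 3),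
      ∀ l, π l = 1 ↔ (l : G) ∈ K := by
  let T := (K ⊔ zpowers s).subgroupOf (centralizer {t})
  have h1 := card_mul_relIndex_of_le c.TH
  have k0 : 0 < Nat.card K := Nat.card_pos
  rw [c.cardT, c.cardH] at h1
  have h3 : Nat.card (centralizer ({t} : Set G) ⧸ T) = 3 := by
    change (K ⊔ zpowers s).relIndex (centralizer {t}) = 3
    nlinarith
  let e := Finite.equivFinOfCardEq h3
  refine ⟨e.permCongrHom.toMonoidHom.comp (MulAction.toPermHom _ _), fun l => ?_⟩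
  have h4 : l ∈ T.normalCore ↔ (l : G) ∈ K := by
    refine ⟨fun h => c.ti.le_of_normal c.t3 (N := T.normalCore.map (centralizer {t}).subtype)
      (map_subtype_le _) ?_ ?_ ⟨l, h, rfl⟩, fun h g => mem_sup_left (c.ti.normal g g.2 l h)⟩
    · rintro g hg _ ⟨n, hn, rfl⟩
      exact ⟨_, (normalCore_normal T).conj_mem n hn ⟨g, hg⟩, rfl⟩
    · rintro ⟨n, hn, e⟩
      exact c.t3.ne (cube_of_two c.syl.isPGroup x (e ▸ normalCore_le T hn) c.t3.cube)
  rw [← h4, normalCore_eq_ker, MonoidHom.mem_ker]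
  exact map_eq_one_iff _ e.permCongrHom.injective

theorem VW.ne32 {G : Type u} [Group G] [Finite G] {x s t w : G} {K : Subgroup G}
    (c : VW x s t w K) : Nat.card K ≠ 32 := fun h => by
  have xZ : ∀ b ∈ c.ZZ K le_rfl, x * b * x⁻¹ ∈ c.ZZ K le_rfl := fun b hb =>
    c.ZZ_conj c.xt (fun _ => c.xK) (fun _ => c.xK') hb
  have hQ : QQ x w K ≤ c.ZZ K le_rfl := by
    have h1 := c.card_ge' (B := QQ x w K ⊓ c.ZZ K le_rfl) (inf_le_left.trans c.QK)
      ⟨c.tQ, c.tK, fun b hb => by rw [comm_one.2 (c.kt hb).symm]; exact one_mem _⟩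
      ⟨c.wQ, c.wK, c.cen⟩ fun b hb => ⟨c.xQ hb.1, xZ b hb.2⟩
    have h2 := c.card2
    exact inf_eq_left.1 (eq_of_le_of_card_ge inf_le_left (by omega))
  obtain ⟨b, hb, b1, b2⟩ := c.ex1
  have b3 : ⁅w, x * b * x⁻¹⁆ = t := by
    have := congrArg (fun g => x * g * x⁻¹) b2
    simp only [← comm_conj', conj_fix c.xt, c.xa] at this
    rwa [comm_mul_left', comm_one.2 (b1.conj x).symm, mul_one, mul_inv_cancel, one_mul] at this
  have g4 := fun B => c.gen4' (B := B) c.cen c.cena (c.xK hb) (c.not_comm b3) hb b1 (c.not_comm b2)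
  have bZ : b ∈ c.ZZ K le_rfl := ⟨hb, fun k hk => (g4 (c.fpf.cmod b (mem_normalizer_of_conj
    (c.nD b (c.ti.le hb)))) (fun q hq => ⟨c.QK hq, by
      rw [← commutatorElement_inv]; exact inv_mem ((hQ hq).2 b hb)⟩)
    ⟨c.xK hb, c.fpf.comm_self hb⟩ ⟨hb, by simp⟩ hk).2⟩
  have hZ := g4 _ hQ (xZ b bZ) bZ
  obtain ⟨π, hπ⟩ := c.exists_pi
  obtain ⟨g, hg⟩ := isConj_iff.1 c.conj_w.symm
  have hc : Nat.card (centralizer ({t} : Set G)) = 192 := by rw [c.cardH, h]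
  obtain ⟨a, b, y, z, hr, e, h1, h2, h3, h4⟩ := H7.Asch.local_rel (Q := K) (s := t)
    ⟨c.tK, c.tt, c.t1, fun q hq => c.kt hq, fun p hp q hq => (c.zt.1 ((hZ hp).2 q hq)).imp
      (fun e => comm_one.1 e) fun e => by
        rw [(c.kt (mul_mem hq hp)).eq, ← e]; simp only [commutatorElement_def]; group,
      fun q hq e => c.zt.1 (c.zK hq fun k hk => (e k hk).symm), h⟩ π hπ
    ⟨x, c.t3.cube, c.t3.ne, c.xt⟩ (fun y y3 y1 yt q hq e => c.zt.1
      (c.fix3 (L0.SC3.mem_cent.2 yt) y3 y1 hq e.symm)) c.wK c.w_ne ⟨g, hg⟩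
  subst e
  have := c.simple
  have h5 := c.t3.five
  rcases H7.Asch.concl_of_rel h hr c.t1 hc h1 h2 h3 h4 c.wK c.w_ne ⟨g, hg⟩ with
    ⟨N, hN, -, -, h8, -⟩ | ⟨⟨e⟩⟩ | ⟨⟨e⟩⟩ | ⟨⟨e⟩⟩
  · rcases hN.eq_bot_or_eq_top with rfl | rfl
    · simp at h8
    · have := orderOf_dvd_natCard x
      rw [c.t3.orderOf_eq, ← card_top, h8] at this
      omega
  · rw [Nat.card_congr e.toEquiv, nat_card_alternatingGroup] at h5
    simp [Nat.factorial] at h5
  · rw [Nat.card_congr e.toEquiv, nat_card_alternatingGroup] at h5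
    simp [Nat.factorial] at h5
  · rw [Nat.card_congr e.toEquiv, H4.Golay.card_M12] at h5
    omega

end Cfsg.Agent.H6.C12
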