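import Cfsg.Agent.H6.C12A5
import Cfsg.Agent.H7.C12NC
import Cfsg.Agent.H7.C12T3

/-!
# The case `|V| = 2` with `K ⟨s⟩` Sylow: the large case
-/

set_option autoImplicit false

namespace Cfsg.Agent.H6.C12

open Subgroup Cfsg.Agent.L0.SC3 Cfsg.Agent.H9 Cfsg.Agent.H1.T3 Cfsg.Agent.L0.C12
open scoped commutatorElement Pointwise

universe u

theorem conj3 {G : Type*} [Group G] (g u : G) :
    g ^ 3 * u * (g ^ 3)⁻¹ = g * (g * (g * u * g⁻¹) * g⁻¹) * g⁻¹ := by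
  simp only [pow_succ, pow_zero, one_mul, mul_inv_rev, mul_assoc]

namespace VW

variable {G : Type u} [Group G] [Finite G] {x s t w : G} {K : Subgroup G} (c : VW x s t w K)
include c

theorem exists_y : ∃ y : G, y ^ 3 = 1 ∧ y * t * y⁻¹ = w ∧ y * w * y⁻¹ = t * w := by
  have := factTwo
  have h1 := card_mul_relIndex_of_le (inf_le_right : RR t w ≤ centralizer {w})
  have k0 : 0 < Nat.card K := Nat.card_pos
  rw [c.cardR, card_cent_conj c.conj_w, c.cardH] at h1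
  obtain ⟨P, hP, RP⟩ := exists_isSylowIn_ge (inf_le_right : RR t w ≤ centralizer {w})
    (c.syl.isPGroup.to_le c.RT)
  have h2 := relIndex_mul_relIndex _ _ _ RP hP.le
  rw [show (RR t w).relIndex (centralizer {w}) = 6 by nlinarith] at h2
  have h3 := card_mul_relIndex_of_le RP
  have h4 : (RR t w).relIndex P = 2 := by
    obtain ⟨k, hk⟩ := IsPGroup.iff_card.1 hP.isPGroup
    obtain ⟨i, -, hi⟩ := (Nat.dvd_prime_pow Nat.prime_two).1 (hk ▸ Dvd.intro_left _ h3)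
    have h5 := hP.not_dvd
    rw [hi] at h2 ⊢
    rcases i with _ | _ | i
    · omega
    · rfl
    · rw [pow_succ, pow_succ, mul_assoc, mul_assoc, mul_comm, mul_assoc, mul_assoc] at h2
      omega
  have i := idx2_of_card RP (by rw [← h3, h4, mul_comm])
  obtain ⟨l, hl, l1⟩ : ∃ l ∈ P, l ∉ RR t w := SetLike.not_le_iff_exists.1 fun e => by
    rw [relIndex_eq_one.2 e] at h4; omega
  have lw := L0.SC3.mem_cent.1 (hP.le hl)
  have lt : l * t * l⁻¹ = t * w := by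
    have tR := c.QR c.tQ
    rcases c.zR ((i.conj (RP tR) hl).2 tR) (fun r hr => by
      simpa [mul_assoc] using ((mR.1 ((i.conj (RP hr) (inv_mem hl)).2 hr)).1.conj l).symm)
      with e | e | e | e
    · exact absurd (by simpa using e) c.t1
    · exact absurd (mR.2 ⟨mul_inv_eq_iff_eq_mul.1 e, lw⟩) l1
    · rw [← conj_fix lw, mul_left_inj, mul_right_inj] at e
      exact absurd e.symm c.w_ne
    · exact e
  obtain ⟨k, hk, e⟩ := c.ex0
  have kw : k * w * k⁻¹ = t * w := by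
    rw [← c.t_inv, ← e]
    simp only [commutatorElement_def]; group
  have g1 : k * l * t * (k * l)⁻¹ = w := by
    rw [show k * l * t * (k * l)⁻¹ = k * (l * t * l⁻¹) * k⁻¹ by group, lt, ← conj_mul, kw,
      conj_fix (c.kt hk), sq_left c.tt]
  have g2 : k * l * w * (k * l)⁻¹ = t * w := by
    rw [show k * l * w * (k * l)⁻¹ = k * (l * w * l⁻¹) * k⁻¹ by group, conj_fix lw, kw]
  generalize k * l = g at g1 g2
  have g3 : g * (t * w) * g⁻¹ = t := by
    rw [← conj_mul, g1, g2, ← c.tw.left_comm, c.ww, mul_one]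
  have g4 : Commute (g ^ 3) t := mul_inv_eq_iff_eq_mul.1 (by rw [conj3, g1, g2, g3])
  have g5 : Commute (g ^ 3) w := by
    simpa only [g1, conj_fix (Commute.self_pow g 3)] using g4.conj g
  have h5 : 3 ∣ orderOf g := by
    by_contra hn
    obtain ⟨m, hm⟩ := exists_pow_eq_self_of_coprime
      ((Nat.Prime.coprime_iff_not_dvd Nat.prime_three).2 hn)
    exact c.w_ne (g1 ▸ conj_fix (hm ▸ g4.pow_left m))
  obtain ⟨n, hn⟩ := h5
  have h6 : ¬ 3 ∣ n := fun e => c.t3.not_nine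
    ((hn ▸ Nat.mul_dvd_mul_left 3 e : 9 ∣ orderOf g).trans (orderOf_dvd_natCard g))
  obtain ⟨j, hj⟩ : ∃ j, n * n = 1 + 3 * j := ⟨n * n / 3, by
    have : n % 3 = 1 ∨ n % 3 = 2 := by omega
    have : n * n % 3 = 1 := by rcases this with e | e <;> simp [Nat.mul_mod, e]
    omega⟩
  have key : ∀ u, Commute (g ^ 3) u → g ^ (n * n) * u * (g ^ (n * n))⁻¹ = g * u * g⁻¹ :=
    fun u hu => by
      rw [hj, pow_add, pow_one, pow_mul, show g * (g ^ 3) ^ j * u * (g * (g ^ 3) ^ j)⁻¹ =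
        g * ((g ^ 3) ^ j * u * ((g ^ 3) ^ j)⁻¹) * g⁻¹ by group, conj_fix (hu.pow_left j)]
  exact ⟨g ^ (n * n), by rw [← pow_mul, show n * n * 3 = 3 * n * n by ring, pow_mul, ← hn,
    pow_orderOf_eq_one, one_pow], by rw [key t g4, g1], by rw [key w g5, g2]⟩

omit [Finite G] in
theorem mV {g : G} : g ∈ zpowers t ⊔ zpowers w ↔ g ∈ zpowers t ∨ g * w ∈ zpowers t :=
  mem_sup_invol c.ww (c.nD w (c.ti.le c.wK))

theorem phi {r : G} (hr : r ∈ RR t w) (h : r ∉ K) : ⁅x * w * x⁻¹, r⁆ * w ∈ zpowers t := by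
  have h1 := (c.memT.1 (c.RT hr)).resolve_left h
  have h2 : ⁅x * w * x⁻¹, s⁆ = w := by
    rw [show ⁅x * w * x⁻¹, s⁆ = x * w * x⁻¹ * (s * (x * w * x⁻¹) * s⁻¹)⁻¹ by
      simp only [commutatorElement_def]; group, c.sa, mul_inv_rev, mul_inv_cancel_left, c.w_inv]
  rw [show r = r * s * s by rw [mul_assoc, c.ss, mul_one], comm_mul_right', h2,
    conj_fix ((mR.1 hr).2.mul_left c.sw), mul_assoc, c.ww, mul_one]
  exact c.cena _ h1

theorem mem_Q {r : G} (hr : r ∈ RR t w) (h : Commute r (x * w * x⁻¹)) : r ∈ QQ x w K :=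
  mQ.2 ⟨by_contra fun e => c.wt (by simpa [comm_one.2 h.symm] using c.phi hr e), (mR.1 hr).2, h⟩

theorem fQ : Fpf x (QQ x w K) (zpowers t) := c.fpf.mono (zpowers_le.2 c.tQ) c.QK fun _ => c.xQ

theorem idxA {d : G} (hd : d ∈ RR t w) (hV : ∀ r ∈ RR t w, ⁅d, r⁆ ∈ zpowers t ⊔ zpowers w) :
    Idx2 (c.fQ.cmod d (mem_normalizer_of_conj (c.nD d hd.1))) (QQ x w K) :=
  idx2_of (fun _ h => h.1) fun u hu v hv h1 h2 => ⟨mul_mem hu hv, by
    have e1 := (c.mV.1 (hV u (c.QR hu))).resolve_left fun e => h1 ⟨hu, e⟩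
    have e2 := (c.mV.1 (hV v (c.QR hv))).resolve_left fun e => h2 ⟨hv, e⟩
    have := mul_mem e1 (c.nD w (c.ti.le c.wK) _ (c.nD u (c.QR hu).1 _ e2))
    rw [comm_mul_right']
    convert this using 1
    rw [← conj_mul (b := u), conj_fix (mR.1 (c.QR hu)).2, ← mul_assoc w, mul_inv_cancel_right,
      mul_assoc _ w, sq_left c.ww]⟩

theorem mem_K {d : G} (hd : d ∈ RR t w) (hV : ∀ r ∈ RR t w, ⁅d, r⁆ ∈ zpowers t ⊔ zpowers w) :
    d ∈ K := by
  by_contra hn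
  have h1 := c.sqrt' c.QK c.tQ c.nQ (c.RT hd) hn (c.idxA hd hV).le fun a ha => by
    rw [← commutatorElement_inv]; exact inv_mem ha.2
  have h2 := idx2_card_le (c.idxA hd hV)
  have h3 := c.cardQ
  have h4 := c.ne32
  rw [c.card2] at h4
  have : 8 < Nat.card (QQ x w K) := by omega
  nlinarith

theorem cenQ {d : G} (hd : d ∈ QQ x w K) (hV : ∀ r ∈ RR t w, ⁅d, r⁆ ∈ zpowers t ⊔ zpowers w) :
    ∀ q ∈ QQ x w K, ⁅d, q⁆ ∈ zpowers t :=
  c.fQ.central_of_index_two hd (F := c.fQ.cmod d (mem_normalizer_of_conj (c.nD d (c.QR hd).1)))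
    (fun _ h _ => h.2)
    fun _ ha _ hb => idx2_mul (c.idxA (c.QR hd) hV) ha hb

theorem norm_Q {y : G} (y3 : y ^ 3 = 1) (yt : y * t * y⁻¹ = w) (yw : y * w * y⁻¹ = t * w) :
    y ∈ normalizer (QQ x w K : Set G) := by
  have := Fact.mk Nat.prime_three
  have yR : ∀ r ∈ RR t w, y * r * y⁻¹ ∈ RR t w := fun r hr => by
    have h1 := (mR.1 hr).1.conj y
    have h2 := (mR.1 hr).2.conj y
    rw [yt] at h1
    rw [yw] at h2
    exact mR.2 ⟨by simpa only [mul_inv_cancel_right] using h2.mul_right h1.inv_right, h1⟩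
  have yR' : ∀ r ∈ RR t w, y⁻¹ * r * y ∈ RR t w := fun r hr => by
    simpa using L0.C12.conj_mem_of_mem_normalizer (inv_mem (mem_normalizer_of_conj yR)) hr
  have yV : zpowers t ⊔ zpowers w ≤ (zpowers t ⊔ zpowers w).comap (MulAut.conj y).toMonoidHom :=
    sup_le (zpowers_le.2 (by simpa [yt] using mem_sup_right (mem_zpowers w)))
      (zpowers_le.2 (by
        simpa [yw] using mul_mem (mem_sup_left (mem_zpowers t)) (mem_sup_right (mem_zpowers w))))
  have cj : ∀ d r, ⁅y * d * y⁻¹, r⁆ = y * ⁅d, y⁻¹ * r * y⁆ * y⁻¹ := fun d r => by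
    simp only [commutatorElement_def]; group
  have PV : ∀ d, (∀ r ∈ RR t w, ⁅d, r⁆ ∈ zpowers t ⊔ zpowers w) →
      ∀ r ∈ RR t w, ⁅y * d * y⁻¹, r⁆ ∈ zpowers t ⊔ zpowers w := fun d h r hr =>
    cj d r ▸ yV (h _ (yR' r hr))
  have triv : ∀ d ∈ zpowers t, y * d * y⁻¹ ∈ zpowers t → d = 1 := fun d hd h =>
    (c.zt.1 hd).resolve_right fun e => c.wt (by rwa [e, yt] at h)
  have Va : ∀ r ∈ RR t w, ⁅x * w * x⁻¹, r⁆ ∈ zpowers t ⊔ zpowers w := fun r hr => c.mV.2 (by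
    by_cases e : r ∈ K
    exacts [Or.inl (c.cena r e), Or.inr (c.phi hr e)])
  have aR := c.aR
  have mq := @VW.mem_Q _ _ _ _ _ _ _ _ c
  have ca := c.cena
  have mq' : ∀ q ∈ QQ x w K, Commute q (x * w * x⁻¹) := fun q hq => (mQ.1 hq).2.2
  have aa := c.aa
  generalize x * w * x⁻¹ = a at Va aR mq ca mq' aa
  have Vb := PV a Va
  have Vc := PV _ Vb
  have bR := yR a aR
  have cR := yR _ bR
  have ya : y * (y * (y * a * y⁻¹) * y⁻¹) * y⁻¹ = a := by
    rw [← conj3, y3]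
    simp
  have bb : y * a * y⁻¹ * (y * a * y⁻¹) = 1 := by rw [conj_mul, aa]; simp
  obtain ⟨b, hb⟩ : ∃ b, y * a * y⁻¹ = b := ⟨_, rfl⟩
  simp only [hb] at Vb Vc bR cR ya bb
  obtain ⟨d, hd⟩ : ∃ d, y * b * y⁻¹ = d := ⟨_, rfl⟩
  simp only [hd] at Vc cR ya
  have ad : Commute a d := comm_one.1 (triv _ (ca d (c.mem_K cR Vc)) (by
    rw [← comm_conj', hb, ya, ← commutatorElement_inv]
    exact inv_mem (ca b (c.mem_K bR Vb))))
  have bQ : b ∈ QQ x w K := mq bR (by simpa only [hb, ya] using ad.conj y)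
  have dQ : d ∈ QQ x w K := mq cR ad.symm
  have cb := c.cenQ bQ Vb
  have yQ : ∀ q ∈ QQ x w K ⊓ centralizer {b}, y * q * y⁻¹ ∈ QQ x w K ⊓ centralizer {b} :=
    fun q hq => by
      have h1 : y⁻¹ * q * y ∈ QQ x w K := mq (yR' q (c.QR hq.1)) (by
        simpa [← hb, mul_assoc] using (L0.SC3.mem_cent.1 hq.2).conj y⁻¹)
      have h2 := triv _ (cb _ h1) (by rw [← cj, hd]; exact c.cenQ dQ Vc q hq.1)
      have h3 : Commute d q := comm_one.1 (by rw [← hd, cj, h2]; simp)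
      exact ⟨mq (yR q (c.QR hq.1)) (ya ▸ h3.symm.conj y),
        L0.SC3.mem_cent.2 (hb ▸ (mq' q hq.1).conj y)⟩
  have i := c.idxC c.QK cb
  suffices h : QQ x w K ≤ QQ x w K ⊓ centralizer {b} from
    mem_normalizer_of_conj fun q hq => (yQ q (h hq)).1
  by_contra hn
  obtain ⟨q, hq, q1⟩ := SetLike.not_le_iff_exists.1 hn
  have h1 := i.card hq q1
  obtain ⟨j, hj⟩ := c.card_sub c.QK c.tQ fun _ => c.xQ
  have y1 : y ≠ 1 := fun e => c.w_ne (by simpa [e] using yt.symm)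
  have h3 := cube_of_two (c.two.to_le (inf_le_left.trans c.QK : QQ x w K ⊓ centralizer {b} ≤ K))
  have h2 : QQ x w K ⊓ centralizer {b} ⊓ centralizer {y} = ⊥ := by
    have e1 := card_modEq_cent1 y3 (mem_normalizer_of_conj yQ)
    obtain ⟨g, c'⟩ := c.toCtx.of_cube y1 y3
    have e2 := card_le_of_le (show QQ x w K ⊓ centralizer {b} ⊓ centralizer {y} ≤ _ from
      fun u hu => c'.mem_of_commute h3 hu.1 (L0.SC3.mem_cent.1 hu.2).symm)
    rw [card_conj_smul, c.card_zt] at e2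
    rw [show Nat.card (QQ x w K ⊓ centralizer {b} : Subgroup G) = 4 ^ j by omega] at e1
    have e3 : 4 ^ j % 3 = 1 := by simp [Nat.pow_mod]
    unfold Nat.ModEq at e1
    exact card_eq_one.1 (by omega)
  have f : Fpf y (QQ x w K ⊓ centralizer {b}) ⊥ := ⟨y3, y1, ⟨yQ, h3⟩, bot_le, by simp, by simp,
    fun u hu e => h2 ▸ ⟨hu, L0.SC3.mem_cent.2 e.symm⟩⟩
  have eQ : x * b * x⁻¹ ∈ QQ x w K ⊓ centralizer {b} := ⟨c.xQ bQ, L0.SC3.mem_cent.2
    (c.fpf.trick (fun _ => c.zt.1) (fun b hb => (c.kt hb).symm) c.tt (c.QK bQ) bb).symm⟩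
  have i' := c.idxC c.QK (c.ZZ_conj (hB := c.QK) c.xt (fun _ => c.xQ) (fun _ => c.fQ.conj')
    ⟨bQ, cb⟩).2
  have h4 := f.central_of_index_two eQ (F := centralizer {x * b * x⁻¹}) (fun u hu _ =>
    mem_bot.2 (comm_one.2 (L0.SC3.mem_cent.1 hu).symm)) fun u hu v hv h1 h2 =>
      (idx2_mul i' hu.1 hv.1 (fun e => h1 e.2) fun e => h2 e.2).2
  exact hn (c.fQ.symm.le_of_index_two (zpowers_le.2 ⟨c.tQ, L0.SC3.mem_cent.2
    (c.kt (c.QK bQ)).symm⟩) (fun u hu => ⟨by simpa using c.fQ.conj' hu.1, L0.SC3.mem_cent.2 (by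
      simpa [mul_assoc] using (comm_one.1 (mem_bot.1 (h4 u hu))).symm.conj x⁻¹)⟩)
    fun u hu v hv => idx2_mul i hu hv)

theorem false : False := by
  obtain ⟨y, y3, yt, yw⟩ := c.exists_y
  have hy := c.norm_Q y3 yt yw
  have hX : centralizer {t} ≤ normalizer (QQ x w K : Set G) := fun g hg =>
    mem_normalizer_of_conj (c.nQ g hg)
  have nK : ∀ g ∈ normalizer (QQ x w K : Set G), ∀ d ∈ QQ x w K, g * d * g⁻¹ ∈ QQ x w K :=
    fun g hg d hd => L0.C12.conj_mem_of_mem_normalizer hg hd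
  have h8 := c.cardQ
  rcases c.toCtx.str_sub (c.toCtx.normalizer_ne_top' (fun e => c.t1 (by simpa [e] using c.tQ))
    fun b hb => c.ti.cube b (c.QK hb)) (hX c.ti.mem) with ⟨K', h⟩ | ⟨K', M, h⟩
  · exact c.w_ne (yt ▸ conj_fix (L0.SC3.mem_cent.1 (c.le_of_ti hX c.QK c.tQ nK h hy)))
  obtain ⟨rfl, rfl⟩ := c.eq_of_tii c.QK le_normalizer c.tQ nK h
  rcases h.quo with q | q
  · have h1 := card_mul_relIndex_of_le hX
    rw [c.cardH, c.card2, VA.card_quo h.le q, card_psl27] at h1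
    have := c.toCtx.L7orb h q c.tQ (mem_zpowers t)
      (fun k hk e => c.zt.1 (c.fpf.fix k (c.QK hk) e)) (fun k hk => (c.kt (c.QK hk)).symm)
      (by nlinarith)
    exact c.ne32 (by rw [c.card2, this])
  · have := (c.toCtx.L13 h q).2
    omega

end VW

theorem VA.small' {G : Type u} [Group G] [Finite G] {x s t : G} {K : Subgroup G}
    (c : VA x s t K) : Nat.card G < 6000 :=
  c.small_or.resolve_right fun ⟨_, h⟩ => h.false

end Cfsg.Agent.H6.C12
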