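import Cfsg.Agent.L0.T3Def
import Cfsg.Agent.H2.D1Ext
import Cfsg.Agent.H2.D1Util

/-!
# The principal `3`-block of a simple group with a Sylow `3`-subgroup of order three
-/

set_option autoImplicit false

namespace Cfsg.Agent.H6.C12

open Cfsg Cfsg.Agent.H3 Cfsg.Agent.H2 Cfsg.Agent.H2.D1 Finset Subgroup
open scoped ComplexConjugate

variable {G : Type*} [Group G] [Finite G]

instance fact3 : Fact (Nat.Prime 3) := ⟨Nat.prime_three⟩

open Classical in
/-- Brauer's formula for the products of two elements lying in a `p`-section. -/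
theorem pair_formula [Fintype G] {p : ℕ} [hp : Fact p.Prime] {x : G} (h : D1.Ctx p x) (t t' : G) :
    (Nat.card G : ℂ) * Nat.card h.K * ∑ χ ∈ B0 p G, conj ((χ : G → ℂ) x) *
        ((χ : G → ℂ) t * (χ : G → ℂ) t' / (χ : G → ℂ) 1) =
      Nat.card (centralizer ({t} : Set G)) * Nat.card (centralizer ({t'} : Set G)) *
        ∑ v with IsConj t v, ∑ w with IsConj t' w,
          (if pPart p (v * w) = x then (1 : ℂ) else 0) := by
  have hu := mem_zpowers x
  have u1 := h.ne_one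
  have n0 : (Nat.card G : ℂ) ≠ 0 := by exact_mod_cast Nat.card_pos.ne'
  have p0 : (p : ℂ) ≠ 0 := by exact_mod_cast hp.out.ne_zero
  have e1 : ∀ g : G, ∑ c : G, (if pPart p (c * g * c⁻¹) = x then (p : ℂ) else 0) =
      (p * Nat.card h.K) * ∑ χ ∈ B0 p G, conj ((χ : G → ℂ) x) * (χ : G → ℂ) g := fun g => by
    simp only [pPart_conj]
    rw [h.theta hu u1, ← Nat.cast_mul, ← h.card_C, ← Equiv.sum_comp (Equiv.inv G)]
    simp only [Equiv.inv_apply, inv_inv]
    split_ifs with e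
    · rw [← card_conj_fiber e, ← sum_filter, sum_const, nsmul_eq_mul]
      congr 3
      ext c
      simp only [mem_filter, mem_univ, true_and]
      constructor <;> intro e' <;> [rw [← e']; rw [← e']] <;> group
    · rw [mul_zero]
      exact sum_eq_zero fun c _ => if_neg fun e' => e (isConj_iff.2 ⟨c, by rw [← e']; group⟩)
  set S := ∑ v with IsConj t v, ∑ w with IsConj t' w,
          (if pPart p (v * w) = x then (1 : ℂ) else 0) with hS
  have e2 : ∑ a : G, ∑ b : G, (if pPart p (a * t * a⁻¹ * (b * t' * b⁻¹)) = x then (p : ℂ) else 0) =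
      p * (Nat.card (centralizer ({t} : Set G)) * Nat.card (centralizer ({t'} : Set G)) * S) := by
    rw [sum_conj_eq t fun v => ∑ b : G, if pPart p (v * (b * t' * b⁻¹)) = x then (p : ℂ) else 0,
      sum_congr rfl fun v _ => sum_conj_eq t' fun w => if pPart p (v * w) = x then (p : ℂ) else 0]
    simp only [nsmul_eq_mul, ← mul_sum]
    rw [sum_congr rfl fun v _ => sum_congr rfl fun w _ =>
      (show (if pPart p (v * w) = x then (p : ℂ) else 0) = p * if pPart p (v * w) = x then 1 else 0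
        by simp)]
    simp only [← mul_sum, ← hS]
    ring
  have e3 : ∑ a : G, ∑ b : G, ∑ c : G,
      (if pPart p (c * (a * t * a⁻¹ * (b * t' * b⁻¹)) * c⁻¹) = x then (p : ℂ) else 0) =
      Nat.card G * (p * (Nat.card (centralizer ({t} : Set G)) *
        Nat.card (centralizer ({t'} : Set G)) * S)) := by
    rw [sum_congr rfl fun a _ => sum_comm, sum_comm, Nat.card_eq_fintype_card, ← nsmul_eq_mul,
      ← card_univ, ← sum_const]
    refine sum_congr rfl fun c _ => ?_
    rw [← e2]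
    refine Fintype.sum_equiv (Equiv.mulLeft c) _ _ fun a =>
      Fintype.sum_equiv (Equiv.mulLeft c) _ _ fun b => ?_
    simp only [Equiv.coe_mulLeft]
    exact if_congr (by rw [show c * (a * t * a⁻¹ * (b * t' * b⁻¹)) * c⁻¹ =
      c * a * t * (c * a)⁻¹ * (c * b * t' * (c * b)⁻¹) by group]) rfl rfl
  simp only [e1, ← mul_sum] at e3
  rw [sum_congr rfl fun a _ => sum_comm, sum_comm] at e3
  simp only [← mul_sum] at e3
  rw [sum_congr rfl fun χ _ => by rw [sum_sum_conj_mul (Or.inl χ.2)]] at e3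
  refine mul_left_cancel₀ (mul_ne_zero n0 p0) ?_
  rw [mul_assoc _ (p : ℂ) (_ * S), ← e3]
  simp only [mul_sum]
  exact sum_congr rfl fun _ _ => by ring

theorem cube {x : G} (h : D1.Ctx 3 x) : x ^ 3 = 1 := h.pow_p

theorem real [NS G] {x : G} (h : D1.Ctx 3 x) : ∃ g, g * x * g⁻¹ = x⁻¹ := by
  by_contra! hn
  obtain ⟨P, hP⟩ := (h.isPElt (mem_zpowers x)).exists_sylow
  have e : (P : Subgroup G) = zpowers x := by
    refine (eq_of_le_of_card_ge (zpowers_le.2 hP) ?_).symm
    obtain ⟨k, hk⟩ := P.2.exists_card_eq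
    have h1 : k ≤ 1 := by
      by_contra hk1
      exact h.nsq ((pow_dvd_pow 3 (by omega)).trans (hk ▸ (card_subgroup_dvd_card _)))
    rw [hk, h.card_zp]
    simpa using Nat.pow_le_pow_right (n := 3) (by norm_num) h1
  obtain ⟨K, h1, -, h3, -⟩ := exists_normal_compl P fun g hg => by
    rw [mem_centralizer_iff]
    intro u hu
    have hg' : g ∈ normalizer (zpowers x : Set G) := by rw [← e]; exact hg
    obtain ⟨k, rfl⟩ := mem_zpowers_iff.1 (e ▸ hu : u ∈ zpowers x)
    rcases (H1.T3.mem_normalizer_zpowers_three (cube h) h.ne_one).1 hg' with e' | e'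
    · exact (Commute.zpow_left (mul_inv_eq_iff_eq_mul.1 e').symm k)
    · exact absurd e' (hn g)
  have h4 : K.index = 3 := h3.trans ((congrArg (fun Q : Subgroup G => Nat.card Q) e).trans h.card_zp)
  rcases h1.eq_bot_or_eq_top with e' | e'
  · have := four_dvd (G := G)
    rw [e', index_bot] at h4
    omega
  · rw [e', index_top] at h4
    omega

theorem H_top [NS G] {x : G} (h : D1.Ctx 3 x) : h.H = ⊤ := by
  obtain ⟨g, hg⟩ := real h
  refine eq_top_iff.2 fun u _ => ?_
  have : u = 1 ∨ u = -1 := (by decide : ∀ u : (ZMod 3)ˣ, u = 1 ∨ u = -1) u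
  rcases this with rfl | rfl
  · exact one_mem _
  · change IsConj x (x ^ (((-1 : (ZMod 3)ˣ) : ZMod 3)).val)
    rw [show (((-1 : (ZMod 3)ˣ) : ZMod 3)).val = 2 from rfl]
    refine isConj_iff.2 ⟨g, ?_⟩
    rw [hg, inv_eq_iff_mul_eq_one, ← pow_succ', cube h]

theorem two_sq {ι : Type*} [DecidableEq ι] {s : Finset ι} {c : ι → ℤ} (h0 : ∀ i ∈ s, c i ≠ 0)
    (h : ∑ i ∈ s, c i * c i = 2) : ∃ a b, a ≠ b ∧ s = {a, b} ∧ c a * c a = 1 ∧ c b * c b = 1 := by
  have h1 : ∀ i ∈ s, 1 ≤ c i * c i := fun i hi => by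
    have := h0 i hi
    nlinarith [mul_self_pos.2 this]
  have h2 : (#s : ℤ) ≤ 2 := by
    have := Finset.card_nsmul_le_sum s (fun i => c i * c i) 1 h1
    simpa [h] using this
  have h3 : #s = 2 := by
    by_contra e
    have h4 : #s ≤ 1 := by omega
    rcases s.eq_empty_or_nonempty with rfl | ⟨a, ha⟩
    · simp at h
    · have : Nonempty ι := ⟨a⟩
      rw [Finset.card_le_one_iff_subset_singleton] at h4
      obtain ⟨b, hb⟩ := h4
      have : s = {b} := (subset_singleton_iff.1 hb).resolve_left (nonempty_iff_ne_empty.1 ⟨a, ha⟩)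
      rw [this, sum_singleton] at h
      have : c b ≤ 1 := by nlinarith
      have : -1 ≤ c b := by nlinarith
      interval_cases c b <;> simp at h
  obtain ⟨a, b, hab, rfl⟩ := card_eq_two.1 h3
  rw [sum_pair hab] at h
  have := h1 a (by simp)
  have := h1 b (by simp)
  exact ⟨a, b, hab, rfl, by omega, by omega⟩

/-- The principal block consists of `1`, `χ` and `ψ`, with `ψ = 1 + χ` on `3`-regular elements. -/
theorem block [NS G] {x : G} (h : D1.Ctx 3 x) : ∃ χ : IrrCharacter G, χ ≠ triv ∧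
    (∀ u ∈ zpowers x, u ≠ 1 → ∀ k ∈ h.K, (χ : G → ℂ) (u * k) = 1) ∧
    ∀ t t' : G, t * t = 1 → t' * t' = 1 →
      (∑ θ ∈ B0 3 G, conj ((θ : G → ℂ) x) *
        ((θ : G → ℂ) t * (θ : G → ℂ) t' / (θ : G → ℂ) 1)) * (dg χ * (dg χ + 1)) =
      (dg χ - (χ : G → ℂ) t) * (dg χ - (χ : G → ℂ) t') := by
  classical
  have hH := H_top h
  have ha : ∀ χ (u : (ZMod 3)ˣ), h.co u χ = h.co (1 : (ZMod 3)ˣ) χ := fun χ u =>
    h.co_mul χ (hH ▸ mem_top _)
  have hv : ∀ (χ : IrrCharacter G), ∀ u ∈ zpowers x, u ≠ 1 →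
      (χ : G → ℂ) u = -h.co (1 : (ZMod 3)ˣ) χ := fun χ u hu u1 => h.val_const (ha χ) hu u1
  have hg := h.gram 1 1
  rw [← add_sum_erase _ _ one_mem_B0, h.co_one, if_pos (by simp), hH, card_top,
    Nat.card_eq_fintype_card, ZMod.card_units] at hg
  obtain ⟨a, b, hab, e, ea, eb⟩ := two_sq (s := (B0 3 G).erase triv)
    (c := fun χ => h.co (1 : (ZMod 3)ˣ) χ) (fun χ hχ e => B0_ne_zero (mem_erase.1 hχ).2
      h.not_dvd_index (by rw [hv χ x (mem_zpowers x) h.ne_one, e]; simp)) (by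
      push_cast at hg; linear_combination hg)
  have key : ∀ a b : IrrCharacter G, a ≠ b → (B0 3 G).erase triv = {a, b} →
      h.co (1 : (ZMod 3)ˣ) a = -1 → h.co (1 : (ZMod 3)ˣ) b = 1 → ∃ χ : IrrCharacter G, χ ≠ triv ∧
    (∀ u ∈ zpowers x, u ≠ 1 → ∀ k ∈ h.K, (χ : G → ℂ) (u * k) = 1) ∧
    ∀ t t' : G, t * t = 1 → t' * t' = 1 →
      (∑ θ ∈ B0 3 G, conj ((θ : G → ℂ) x) *
        ((θ : G → ℂ) t * (θ : G → ℂ) t' / (θ : G → ℂ) 1)) * (dg χ * (dg χ + 1)) =
      (dg χ - (χ : G → ℂ) t) * (dg χ - (χ : G → ℂ) t') := fun a b hab e ea eb => by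
    have ma : a ∈ (B0 3 G).erase triv := by rw [e]; simp
    have hb : ∀ g, IsPReg 3 g → (b : G → ℂ) g = 1 + (a : G → ℂ) g := fun g hg => by
      have := h.beta_reg ((1 : (ZMod 3)ˣ) : ZMod 3) hg
      rw [← add_sum_erase _ _ one_mem_B0, h.co_one, e, sum_pair hab, ea, eb] at this
      simp only [Pi.one_apply] at this
      push_cast at this
      linear_combination this
    refine ⟨a, (mem_erase.1 ma).1, fun u hu u1 k hk => ?_, fun t t' ht ht' => ?_⟩
    · rw [h.const (mem_erase.1 ma).2 hu u1 hk, hv a u hu u1, ea]; simp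
    · rw [← add_sum_erase _ _ one_mem_B0, e, sum_pair hab, hv a x (mem_zpowers x) h.ne_one,
        hv b x (mem_zpowers x) h.ne_one, ea, eb, hb t (h.isPReg ht), hb t' (h.isPReg ht'),
        hb 1 (IsPReg.one 3), dg_eq a]
      have d0 : (dg a : ℂ) ≠ 0 := by exact_mod_cast (dg_pos a).ne'
      have d1 : (1 + dg a : ℂ) ≠ 0 := by exact_mod_cast (by omega : 1 + dg a ≠ 0)
      simp only [Pi.one_apply]
      push_cast
      simp only [neg_neg, map_one, map_neg]
      field_simp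
      ring
  have hd := h.beta_reg ((1 : (ZMod 3)ˣ) : ZMod 3) (IsPReg.one 3)
  rw [← add_sum_erase _ _ one_mem_B0, h.co_one, e, sum_pair hab, dg_eq a, dg_eq b] at hd
  simp only [Pi.one_apply] at hd
  have hd' : -1 + (h.co (1 : (ZMod 3)ˣ) a * dg a + h.co (1 : (ZMod 3)ˣ) b * dg b) = 0 := by
    have : ((-1 + (h.co (1 : (ZMod 3)ˣ) a * dg a + h.co (1 : (ZMod 3)ˣ) b * dg b) : ℤ) : ℂ) = 0 := by
      push_cast at hd ⊢; linear_combination hd
    exact_mod_cast this
  have pa := dg_pos a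
  have pb := dg_pos b
  rcases mul_self_eq_one_iff.1 ea with ea | ea <;> rcases mul_self_eq_one_iff.1 eb with eb | eb
  · rw [ea, eb] at hd'; omega
  · exact key b a hab.symm (by rw [e, pair_comm]) eb ea
  · exact key a b hab e ea eb
  · rw [ea, eb] at hd'; omega

end Cfsg.Agent.H6.C12
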