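import Cfsg.Agent.H6.C12Ctx

/-!
# The character-theoretic output of the principal `3`-block
-/

set_option autoImplicit false

namespace Cfsg.Agent.H6.C12

open Cfsg Cfsg.Agent.H3 Cfsg.Agent.H2 Cfsg.Agent.H2.D1 Finset Subgroup Cfsg.Agent.L0.C12
open scoped ComplexConjugate

universe u

variable {G : Type u} [Group G] [Finite G] {x s : G} {V : Subgroup G}

theorem K_eq (c : L0.C12.Ctx x s V) : (d1 c.t3).K = V := by
  ext g
  rw [memK c.t3, c.memV]

theorem card_C (c : L0.C12.Ctx x s V) :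
    Nat.card (centralizer ({x} : Set G)) = 3 * Nat.card V := by
  rw [(d1 c.t3).card_C, K_eq c]

theorem sumC (c : L0.C12.Ctx x s V) [Fintype (centralizer ({x} : Set G))] [Fintype V]
    (F : G → ℂ) : ∑ g : centralizer ({x} : Set G), F g =
      ∑ v : V, (F v + F (v * x) + F (v * x⁻¹)) := by
  let e : V × Fin 3 → centralizer ({x} : Set G) := fun p => ⟨p.1 * x ^ (p.2 : ℕ),
    L0.SC3.mem_cent.2 ((c.cx p.1.2).symm.mul_left ((Commute.refl x).pow_left _))⟩
  have x2 : x ^ 2 = x⁻¹ := by rw [sq, c.t3.mul_self]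
  have he : Function.Bijective e := by
    refine (Fintype.bijective_iff_surjective_and_card e).2 ⟨fun g => ?_, ?_⟩
    · obtain ⟨v, hv, h | h | h⟩ := c.cent (L0.SC3.mem_cent.1 g.2).symm
      · exact ⟨(⟨v, hv⟩, 0), Subtype.ext (by simp [e, h])⟩
      · exact ⟨(⟨v, hv⟩, 1), Subtype.ext (by simp [e, h])⟩
      · exact ⟨(⟨v, hv⟩, 2), Subtype.ext (by simp [e, h, x2])⟩
    · rw [Fintype.card_prod, Fintype.card_fin, ← Nat.card_eq_fintype_card,
        ← Nat.card_eq_fintype_card, card_C c, mul_comm]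
  rw [← he.sum_comp, Fintype.sum_prod_type]
  refine sum_congr rfl fun v _ => ?_
  simp [Fin.sum_univ_three, e, x2]

omit [Finite G] in
theorem cj (h : T3 x) {g : G} (hg : g * x * g⁻¹ = x⁻¹) :
    IsConj g (g * x) ∧ IsConj g (g * x⁻¹) := by
  have e1 : g * x = x⁻¹ * g := by rw [← hg]; group
  have e2 : g * x⁻¹ = x * g := by
    calc g * x⁻¹ = (g * x * g⁻¹)⁻¹ * g := by group
      _ = _ := by rw [hg, inv_inv]
  refine ⟨isConj_iff.2 ⟨x, ?_⟩, isConj_iff.2 ⟨x⁻¹, ?_⟩⟩
  · rw [← e2, mul_assoc, L0.SC3.inv_mul_inv_of_cube h.cube]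
  · rw [← e1, inv_inv, mul_assoc, h.mul_self]

omit [Finite G] in
theorem fcl_eq [Fintype V] [DecidableRel (IsConj : G → G → Prop)] (u : G) :
    (fcl s V u : ℂ) = ∑ v : V, if IsConj u (s * v) then (1 : ℂ) else 0 := by
  rw [fcl, Nat.card_eq_fintype_card, Fintype.card_subtype, sum_boole]

theorem fcl_shift (c : L0.C12.Ctx x s V) [Fintype V] [DecidableRel (IsConj : G → G → Prop)]
    {g : G} (hg : g * x * g⁻¹ = x⁻¹) (u : G) :
    ∑ v : V, (if IsConj u (g * v) then (1 : ℂ) else 0) = fcl s V u := by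
  obtain ⟨w, hw, k, ⟨i, rfl⟩, rfl⟩ := c.isConj_of_inverts hg
  rw [fcl_eq, ← Equiv.sum_comp (Equiv.mulLeft (⟨w, hw⟩ : V))
    fun v : V => if IsConj u (s * v) then (1 : ℂ) else 0]
  refine sum_congr rfl fun v _ => ?_
  have e : IsConj (s * (w * v)) (x ^ i * (s * w) * (x ^ i)⁻¹ * v) := isConj_iff.2 ⟨x ^ i, by
    rw [mul_assoc _ _ (v : G), ((c.cx v.2).zpow_left i).inv_left.eq]; group⟩
  exact if_congr ⟨fun h => h.trans e.symm, fun h => h.trans e⟩ rfl rfl

open Classical in
theorem count [Fintype G] (c : L0.C12.Ctx x s V) {u u' : G} (hu : u * u = 1) (hu' : u' * u' = 1) :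
    ∑ a with IsConj u a, ∑ b with IsConj u' b, (if pPart 3 (a * b) = x then (1 : ℂ) else 0) =
      3 * fcl s V u * fcl s V u' := by
  have hx := mem_zpowers x
  have inner : ∀ a, IsConj u a → ∑ b with IsConj u' b,
      (if pPart 3 (a * b) = x then (1 : ℂ) else 0) =
        if a * x * a⁻¹ = x⁻¹ then (fcl s V u' : ℂ) else 0 := fun a ha => by
    have aa := sq_conj hu ha
    split_ifs with e
    · have e' : a * x * x * (a * x)⁻¹ = x⁻¹ := by rw [← e]; group
      have := Fintype.ofFinite V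
      rw [← fcl_shift c e' u', sum_boole, sum_boole fun v : V => IsConj u' (a * x * v), filter_filter]
      congr 1
      refine card_bij' (fun b hb => ⟨x⁻¹ * (a * b), K_eq c ▸ (d1 c.t3).mem_K_of hx c.t3.ne
        (mem_filter.1 hb).2.2⟩) (fun v _ => a * x * v) (fun b hb => ?_) (fun v hv => ?_)
        (fun b _ => ?_) fun v _ => ?_
      · simpa [mul_assoc, ← mul_assoc a a, aa] using (mem_filter.1 hb).2.1
      · refine mem_filter.2 ⟨mem_univ _, (mem_filter.1 hv).2, ?_⟩
        rw [mul_assoc a, ← mul_assoc a a, aa, one_mul]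
        exact (d1 c.t3).pPart_mul' hx (by rw [K_eq c]; exact v.2)
      · simp [mul_assoc, ← mul_assoc a a, aa]
      · simp [mul_assoc, ← mul_assoc a a, aa]
    · exact sum_eq_zero fun b hb => if_neg fun e' =>
        e (inv_left aa (sq_conj hu' (mem_filter.1 hb).2) e')
  rw [sum_congr rfl fun a ha => inner a (mem_filter.1 ha).2, sum_filter,
    ← Equiv.sum_comp (Equiv.mulLeft s)]
  have e1 : ∀ g, (if IsConj u (Equiv.mulLeft s g) then
      (if Equiv.mulLeft s g * x * (Equiv.mulLeft s g)⁻¹ = x⁻¹ then (fcl s V u' : ℂ) else 0)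
        else 0) = if g ∈ centralizer ({x} : Set G) then
          (if IsConj u (s * g) then (1 : ℂ) else 0) * fcl s V u' else 0 := fun g => by
    have : s * g * x * (s * g)⁻¹ = x⁻¹ ↔ g ∈ centralizer ({x} : Set G) := by
      rw [mem_centralizer_singleton_iff, ← c.sx, show s * g * x * (s * g)⁻¹ = s * (g * x * g⁻¹) * s⁻¹
        by group, mul_left_inj, mul_right_inj, mul_inv_eq_iff_eq_mul]
    simp only [Equiv.coe_mulLeft, this]
    split_ifs <;> simp
  rw [sum_congr rfl fun g _ => e1 g, ← sum_filter, sum_subtype (p := (· ∈ centralizer ({x} : Set G)))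
    _ (by simp), ← sum_mul, sumC c fun g => if IsConj u (s * g) then (1 : ℂ) else 0, fcl_eq u,
    mul_sum]
  congr 1
  refine sum_congr rfl fun v _ => ?_
  obtain ⟨h1, h2⟩ := cj c.t3 (c.shift v.2).sx
  rw [← mul_assoc, ← mul_assoc,
    if_congr (⟨fun h => h.trans h1.symm, fun h => h.trans h1⟩ : IsConj u (s * v * x) ↔ _) rfl rfl,
    if_congr (⟨fun h => h.trans h2.symm, fun h => h.trans h2⟩ : IsConj u (s * v * x⁻¹) ↔ _) rfl rfl]
  ring

/-- The multiplicities of the restriction to `S₃ × V`. -/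
theorem mult (c : L0.C12.Ctx x s V) [Fintype V] {χ : G → ℂ} (hχ : IsCharacter G χ)
    (h1 : ∀ u ∈ zpowers x, u ≠ 1 → ∀ k ∈ V, χ (u * k) = 1) :
    ∃ (p m cc a : ℕ) (q : G → ℕ), (3 * p : ℂ) = χ 1 + 2 ∧ ∑ v : V, χ v = Nat.card V * m ∧
      3 * cc = m + 2 ∧ (∀ v ∈ V, χ (s * v) + p = 2 * q v) ∧
      ∑ v : V, χ (s * v) + Nat.card V * cc = 2 * Nat.card V * a ∧
      a ≤ cc ∧ cc ≤ p ∧ ∀ v ∈ V, a ≤ q v ∧ q v + cc ≤ p + a := by
  classical
  have := Fintype.ofFinite G
  have hcl := char_isClassFunction hχ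
  obtain ⟨n, ρ, rfl⟩ := hχ
  have hx := mem_zpowers x
  have x2 : x ^ 2 = x⁻¹ := by rw [sq, c.t3.mul_self]
  have xi : x⁻¹ ≠ 1 := inv_ne_one.2 c.t3.ne
  have cX : Nat.card (zpowers x) = 3 := (d1 c.t3).card_zp
  have sX : ∀ F : G → ℂ, ∑ g : zpowers x, F g = F 1 + F x + F x⁻¹ := fun F => by
    rw [sum_zpowers, c.t3.orderOf_eq]
    simp [sum_range_succ, x2]
  have XC : zpowers x ≤ centralizer {x} := zpowers_le.2 (L0.SC3.mem_cent.2 (Commute.refl x))
  have VC : V ≤ centralizer {x} := fun v hv => L0.SC3.mem_cent.2 (c.cx hv).symm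
  have nC : ∀ g, g * x * g⁻¹ = x⁻¹ → g ∉ centralizer ({x} : Set G) := fun g hg e =>
    c.t3.ne_inv (by rw [← hg, mem_centralizer_singleton_iff.1 e, mul_inv_cancel_right])
  have hB : ∀ v : V, ∃ B : Subgroup G, (∀ g, g ∈ B ↔ g ∈ zpowers x ∨ g * (s * v) ∈ zpowers x) ∧
      Nat.card B = 2 * Nat.card (zpowers x) ∧ ∀ (F : G → ℂ) [Fintype (zpowers x)] [Fintype B],
        ∑ g : B, F g = ∑ a : zpowers x, F a + ∑ a : zpowers x, F (a * (s * v)) := fun v =>
    exists_ext2' (by rw [(c.shift v.2).ss]; exact one_mem _) (fun e => nC _ (c.shift v.2).sx (XC e))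
      (by
        rintro _ ⟨k, rfl⟩
        rw [← conj_zpow, (c.shift v.2).sx]
        exact zpow_mem (inv_mem hx) k)
  choose B b1 b2 b3 using hB
  obtain ⟨N, n1, n2, n3⟩ := exists_ext2' (A := centralizer {x}) (r := s)
    (by rw [c.ss]; exact one_mem _) (nC s c.sx) fun g hg => L0.SC3.mem_cent.2 (by
      simpa [c.sx] using ((L0.SC3.mem_cent.1 hg).conj s).inv_right)
  have v0 : (Nat.card V : ℂ) ≠ 0 := by exact_mod_cast Nat.card_pos.ne'
  have cv : ∀ v ∈ V, ρ.character (v * x) = 1 ∧ ρ.character (v * x⁻¹) = 1 := fun v hv =>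
    ⟨by rw [← (c.cx hv).eq, h1 x hx c.t3.ne v hv],
      by rw [← (c.cx hv).inv_left.eq, h1 _ (inv_mem hx) xi v hv]⟩
  have cs : ∀ g, g * x * g⁻¹ = x⁻¹ → ρ.character (x * g) = ρ.character g ∧
      ρ.character (x⁻¹ * g) = ρ.character g := fun g hg =>
    ⟨by rw [isClassFunction_isConj hcl (cj c.t3 hg).1, ← hcl (g * x) x⁻¹⁻¹]; congr 1; group,
     by rw [isClassFunction_isConj hcl (cj c.t3 hg).2, ← hcl (g * x⁻¹) x⁻¹]; congr 1; group⟩
  have e1 := card_mul_fx ρ (zpowers x)
  rw [sX, cX] at e1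
  have := cv 1 (one_mem _)
  simp only [one_mul] at this
  rw [this.1, this.2] at e1
  have e2 := card_mul_fx ρ V
  have e3 := card_mul_fx ρ (centralizer {x})
  have e3' := e3
  rw [sumC c, card_C c, sum_congr rfl fun v _ => by rw [(cv v v.2).1, (cv v v.2).2]] at e3
  simp only [sum_add_distrib, sum_const, card_univ, ← Nat.card_eq_fintype_card, ← e2,
    nsmul_eq_mul] at e3
  have e4 : ∀ v : V, ρ.character (s * v) + Module.finrank ℂ (fx ρ (zpowers x)) =
      2 * Module.finrank ℂ (fx ρ (B v)) := fun v => by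
    have := card_mul_fx ρ (B v)
    rw [b3, sX, sX fun a => ρ.character (a * (s * v)), b2, cX, (cs _ (c.shift v.2).sx).1,
      (cs _ (c.shift v.2).sx).2, one_mul] at this
    have h2 := cv 1 (one_mem _)
    simp only [one_mul] at h2
    rw [h2.1, h2.2] at this
    push_cast at this e1
    linear_combination (e1 - this) / 3
  have e5 := card_mul_fx ρ N
  rw [n3, ← e3', sumC c fun a => ρ.character (a * s), n2, card_C c,
    sum_congr rfl (g := fun v : V => 3 * ρ.character (s * v)) fun v _ => by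
      have h2 := cs _ (c.shift v.2).sx
      rw [← (c.cx v.2).eq, ← (c.cx v.2).inv_left.eq, mul_assoc, mul_assoc, ← (c.sV v v.2).eq,
        h2.1, h2.2]
      ring, ← mul_sum] at e5
  refine ⟨Module.finrank ℂ (fx ρ (zpowers x)), Module.finrank ℂ (fx ρ V),
    Module.finrank ℂ (fx ρ (centralizer {x})), Module.finrank ℂ (fx ρ N),
    fun g => if hg : g ∈ V then Module.finrank ℂ (fx ρ (B ⟨g, hg⟩)) else 0, ?_, e2.symm, ?_,
    fun v hv => by simp only [dif_pos hv]; exact e4 ⟨v, hv⟩, ?_,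
    Submodule.finrank_mono (fx_mono ρ fun g hg => (n1 g).2 (Or.inl hg)),
    Submodule.finrank_mono (fx_mono ρ XC), fun v hv => ⟨?_, ?_⟩⟩
  · push_cast at e1
    linear_combination e1
  · refine Nat.cast_injective (R := ℂ) (mul_left_cancel₀ v0 ?_)
    push_cast at e3 ⊢
    linear_combination e3
  · push_cast at e5
    linear_combination -e5 / 3
  · simp only [dif_pos hv]
    refine Submodule.finrank_mono (fx_mono ρ fun g hg => (n1 g).2 (((b1 _ g).1 hg).imp
      (fun e => XC e) fun e => ?_))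
    simpa [mul_assoc] using mul_mem (XC e) (inv_mem (VC hv))
  · simp only [dif_pos hv]
    rw [← Submodule.finrank_sup_add_finrank_inf_eq]
    refine add_le_add (Submodule.finrank_mono (sup_le
      (fx_mono ρ fun g hg => (b1 _ g).2 (Or.inl hg)) (fx_mono ρ XC)))
      (Submodule.finrank_mono fun w hw g => ?_)
    rcases (n1 g).1 g.2 with e | e
    · exact hw.2 ⟨g, e⟩
    · have m1 : s * v ∈ B ⟨v, hv⟩ := (b1 _ _).2 (Or.inr (by
        rw [(c.shift hv).ss]; exact one_mem _))
      have h2 : ρ (s * v) w = w := hw.1 ⟨_, m1⟩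
      have h3 : ρ (g * s * v) w = w := hw.2 ⟨_, mul_mem e (VC hv)⟩
      change ρ g w = w
      rw [← h2, ← Module.End.mul_apply, ← map_mul, ← mul_assoc, h3, h2]

end Cfsg.Agent.H6.C12

namespace Cfsg.Agent.L0.C12

open Cfsg Cfsg.Agent.H3 Cfsg.Agent.H2 Cfsg.Agent.H2.D1 Cfsg.Agent.H6.C12 Finset Subgroup

universe u

variable {G : Type u} [Group G] [Finite G] {x s : G} {V : Subgroup G}

theorem Ctx.chars (c : Ctx x s V) : ∃ d γ e b y, Chars s V d γ e b y := by
  classical
  have := Fintype.ofFinite G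
  have := c.simple
  have : D1.NS G := { nc := c.nab }
  obtain ⟨χ, hχ, h1, h2⟩ := block (d1 c.t3)
  rw [K_eq c] at h1
  have hc := irr_isCharacter χ.2
  obtain ⟨p, m, cc, a, q, m1, m2, m3, m4, m5, m6, m7, m8⟩ := mult c hc h1
  rw [dg_eq] at m1
  have m1' : 3 * p = dg χ + 2 := by exact_mod_cast m1
  let y : G → ℕ := fun u => (dg χ - yv u χ).toNat
  have hle : ∀ u, u * u = 1 → yv u χ ≤ dg χ := fun u hu => by
    have h3 := norm_char_le hc u
    rw [yv_spec hu, dg_eq, Complex.norm_intCast, Complex.natCast_re] at h3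
    exact_mod_cast (le_abs_self _).trans h3
  have hy : ∀ u, u * u = 1 → (y u : ℤ) = dg χ - yv u χ := fun u hu =>
    Int.toNat_of_nonneg (sub_nonneg.2 (hle u hu))
  have hy' : ∀ u, u * u = 1 → (y u : ℂ) = dg χ - (χ : G → ℂ) u := fun u hu => by
    rw [yv_spec hu]; exact_mod_cast hy u hu
  have hs : ∀ v ∈ V, y (s * v) + 2 * q v = dg χ + p := fun v hv => by
    refine Nat.cast_injective (R := ℂ) ?_
    push_cast
    rw [hy' _ (c.shift hv).ss]
    linear_combination -m4 v hv
  have v0 : (Nat.card V : ℂ) ≠ 0 := by exact_mod_cast Nat.card_pos.ne'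
  obtain ⟨γ, rfl⟩ : ∃ γ, cc = γ + 1 := ⟨cc - 1, by omega⟩
  obtain ⟨b, rfl⟩ : ∃ b, p = b + (γ + 1) := ⟨p - (γ + 1), by omega⟩
  obtain ⟨b1, hb1⟩ : ∃ b1, γ + 1 = a + b1 := ⟨γ + 1 - a, by omega⟩
  have hd : dg χ = 3 * b + 3 * γ + 1 := by omega
  refine ⟨dg χ, γ, 2 * γ + 2 * b1, b, y, fun u g => ?_, ?_, fun u hu u1 => ?_, fun u hu u1 => ?_,
    fun u u' hu _ hu' _ => ?_, hd, by omega, ?_, ?_, fun v hv => ?_, fun v hv => ?_⟩
  · simp only [y, yv, char_isClassFunction hc u g]
  · have := hy' 1 (one_mul 1)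
    rw [dg_eq, sub_self] at this
    exact_mod_cast this
  · refine Nat.pos_of_ne_zero fun e => u1 (faithful hχ ?_)
    have := hy' u hu
    rw [e, Nat.cast_zero, eq_comm, sub_eq_zero] at this
    rw [dg_eq, this]
  · obtain ⟨g, g1, g2⟩ := exists_inv (d1 c.t3) hu u1
    obtain ⟨v, hv, k, -, e⟩ := c.isConj_of_inverts g2
    exact ⟨v, hv, g1.trans (isConj_iff.2 ⟨k, e.symm⟩).symm⟩
  · have e1 := pair_formula (d1 c.t3) u u'
    rw [count c hu hu', K_eq c] at e1
    have e2 := h2 u u' hu hu'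
    rw [← hy' u hu, ← hy' u' hu'] at e2
    refine Nat.cast_injective (R := ℂ) ?_
    push_cast
    linear_combination (dg χ * (dg χ + 1)) * e1 - (Nat.card G * Nat.card V) * e2
  · refine Nat.cast_injective (R := ℂ) ?_
    rw [finsum_eq_sum_of_fintype]
    push_cast
    rw [sum_congr rfl fun (v : V) _ => hy' v (c.sq v.2), sum_sub_distrib, m2, sum_const, card_univ,
      ← Nat.card_eq_fintype_card, nsmul_eq_mul, hd, show m = 3 * γ + 1 by omega]
    push_cast
    ring
  · refine Nat.cast_injective (R := ℂ) ?_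
    rw [finsum_eq_sum_of_fintype]
    push_cast
    rw [sum_congr rfl fun (v : V) _ => hy' _ (c.shift v.2).ss, sum_sub_distrib, sum_const, card_univ,
      ← Nat.card_eq_fintype_card, nsmul_eq_mul, hd]
    have hb : (γ + 1 : ℂ) = a + b1 := by exact_mod_cast hb1
    push_cast at m5 ⊢
    linear_combination -m5 + 2 * Nat.card V * hb
  · have := hs v hv
    have := m8 v hv
    omega
  · have := hs v hv
    have := m8 v hv
    omega

theorem Ctx.c2_of {t : G} (c : Ctx x s (zpowers t)) (t1 : t ≠ 1) (ts : IsConj t s) :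
    C2 x s t := by
  classical
  have := Fintype.ofFinite G
  have mt := mem_zpowers t
  have tt := c.sq mt
  have hc : Nat.card (zpowers t) = 2 := by rw [Nat.card_zpowers, H1.T3.orderOf_two tt t1]
  have ne : (1 : zpowers t) ≠ ⟨t, mt⟩ := fun e => t1 (congrArg Subtype.val e).symm
  have hu : (univ : Finset (zpowers t)) = {1, ⟨t, mt⟩} := by
    ext ⟨g, hg⟩
    simpa using (H1.T3.mem_zpowers_two tt).1 hg
  obtain ⟨d, γ, e, b, y, k⟩ := c.chars
  have yc : ∀ u v, IsConj u v → y u = y v := fun u v h => by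
    obtain ⟨g, rfl⟩ := isConj_iff.1 h
    rw [k.conj]
  have h1 := k.sumV
  have h2 := k.sumS
  rw [finsum_eq_sum_of_fintype, hu, sum_pair ne, hc] at h1 h2
  simp only [OneMemClass.coe_one, k.one, mul_one, ← yc t s ts] at h1 h2
  have hf : ∀ u, fcl s (zpowers t) u = (if IsConj u s then 1 else 0) +
      if IsConj u (s * t) then 1 else 0 := fun u => by
    refine Nat.cast_injective (R := ℂ) ?_
    rw [fcl_eq, hu, sum_pair ne]
    simp
  have st := (c.shift mt).ss
  have st1 := (c.shift mt).s_ne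
  have p1 := k.pos t tt t1
  have f1 := k.form t t tt t1 tt t1
  have f2 := k.form t (s * t) tt t1 st st1
  have l1 := k.lo t mt
  have l2 := k.hi t mt
  have hd := k.deg
  have hg := k.ge
  have c0 : 0 < Nat.card (centralizer ({t} : Set G)) := Nat.card_pos
  rw [hc] at f1 f2
  set n := Nat.card G
  set A := Nat.card (centralizer ({t} : Set G))
  set B := Nat.card (centralizer ({s * t} : Set G))
  have two : ¬ IsConj t (s * t) → e * A = 3 * b * B := fun h => by
    rw [hf t, if_pos ts, if_neg h] at f1 f2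
    rw [hf (s * t), if_neg fun h' => h (ts.trans h'.symm), if_pos (IsConj.refl _)] at f2
    have e1 : y t = 6 * b := by omega
    have e2 : y (s * t) = 2 * e := by omega
    have h3 : (d * (d + 1) * A) * (y (s * t) * A) = (d * (d + 1) * A) * (y t * B) := by
      have : 3 * ((d * (d + 1) * A) * (y (s * t) * A)) = 3 * ((d * (d + 1) * A) * (y t * B)) := by
        linear_combination y t * f2 - y (s * t) * f1
      omega
    have d0 : 0 < d := by omega
    have h4 := Nat.eq_of_mul_eq_mul_left (by positivity) h3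
    rw [e1, e2] at h4
    linarith
  refine ⟨c, t1, ts, fun u hu u1 => ?_, fun h => ?_, fun h => ?_, fun h => ?_⟩
  · obtain ⟨v, hv, h⟩ := k.fpos u hu u1
    rcases (H1.T3.mem_zpowers_two tt).1 hv with rfl | rfl
    · exact Or.inl (h.trans (by simpa using ts.symm))
    · exact Or.inr h
  · rw [hf t, if_pos ts, if_pos h] at f1
    rw [← yc _ _ h] at h2
    have e1 : y t = 6 * b := by omega
    have b0 : 0 < b := by omega
    have h3 : d * (d + 1) ≤ 84 * (b * b) := by nlinarith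
    rw [e1] at f1
    have h4 : 6 * (b * b) * n ≤ 6 * (b * b) * (14 * A ^ 2) := by
      have : 6 * (b * b) * n = A * A * (d * (d + 1)) := by nlinarith
      rw [this]
      nlinarith [Nat.mul_le_mul_left (A * A) h3]
    exact Nat.le_of_mul_le_mul_left h4 (by positivity)
  · have h3 := two h
    have h4 : b * (2 * A) ≤ b * (3 * B) := by
      have : 2 * b ≤ e := by omega
      nlinarith [Nat.mul_le_mul_right A this]
    exact Nat.le_of_mul_le_mul_left h4 (by omega)
  · have h3 := two h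
    have h4 : b * (3 * B) ≤ b * (4 * A) := by
      have : e ≤ 4 * b := by omega
      nlinarith [Nat.mul_le_mul_right A this]
    exact Nat.le_of_mul_le_mul_left h4 (by omega)

theorem Ctx.c2 (c : Ctx x s V) (h : Nat.card V = 2) : ∃ s' t, C2 x s' t := by
  have : Nontrivial V := Finite.one_lt_card_iff_nontrivial.1 (by omega)
  obtain ⟨⟨t, ht⟩, t0⟩ := exists_ne (1 : V)
  have t1 : t ≠ 1 := fun e => t0 (Subtype.ext e)
  clear t0
  have tt := c.sq ht
  obtain rfl : zpowers t = V := eq_of_le_of_card_ge (zpowers_le.2 ht) (by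
    rw [h, Nat.card_zpowers, H1.T3.orderOf_two tt t1])
  obtain ⟨d, γ, e, b, y, k⟩ := c.chars
  obtain ⟨v, hv, e⟩ := k.fpos t tt t1
  exact ⟨s * v, t, (c.shift hv).c2_of t1 e⟩

end Cfsg.Agent.L0.C12
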