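import Cfsg.Agent.H6.C12Block
import Cfsg.Agent.L0.C12Basic

/-!
# The normalizer of the Sylow `3`-subgroup is `S₃ × V`
-/

set_option autoImplicit false

namespace Cfsg.Agent.H6.C12

open Cfsg Cfsg.Agent.H3 Cfsg.Agent.H2 Cfsg.Agent.H2.D1 Finset Subgroup Cfsg.Agent.L0.C12
open scoped ComplexConjugate

universe u

section
variable {G : Type*} [Group G] [Finite G]

theorem d1 {x : G} (h : T3 x) : D1.Ctx 3 x := ⟨by norm_num, h.orderOf_eq, h.not_nine⟩

theorem memK {x : G} (h : T3 x) (g : G) : g ∈ (d1 h).K ↔ Commute x g ∧ g * g = 1 := by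
  rw [D1.Ctx.mem_K]
  refine and_congr_right fun c => ⟨fun r => ?_, (d1 h).isPReg⟩
  have h1 := orderOf_dvd_of_pow_eq_one (h.six g c)
  rw [← sq, ← orderOf_dvd_iff_pow_eq_one]
  exact Nat.Coprime.dvd_of_dvd_mul_right r (by simpa using h1)

theorem inv_left {x v w : G} (hv : v * v = 1) (hw : w * w = 1) (e : pPart 3 (v * w) = x) :
    v * x * v⁻¹ = x⁻¹ := by
  rw [← e, ← pPart_conj, ← pPart_inv, ← mul_assoc, hv, one_mul, mul_inv_rev,
    inv_eq_of_mul_eq_one_right hw]

omit [Finite G] in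
theorem sq_conj {t v : G} (ht : t * t = 1) (hv : IsConj t v) : v * v = 1 := by
  obtain ⟨c, rfl⟩ := isConj_iff.1 hv
  rw [conj_mul, ht]; simp

theorem exists_inv [NS G] {x : G} (h : D1.Ctx 3 x) {t : G} (ht : t * t = 1) (h1 : t ≠ 1) :
    ∃ v, IsConj t v ∧ v * x * v⁻¹ = x⁻¹ := by
  classical
  have := Fintype.ofFinite G
  by_contra! hn
  obtain ⟨χ, hχ, -, e⟩ := block h
  have e1 := pair_formula h t t
  rw [sum_eq_zero (s := {v | IsConj t v}) fun v hv => sum_eq_zero fun w hw => if_neg fun e =>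
    hn v (mem_filter.1 hv).2 (inv_left (sq_conj ht (mem_filter.1 hv).2)
      (sq_conj ht (mem_filter.1 hw).2) e), mul_zero] at e1
  have n0 : (Nat.card G : ℂ) ≠ 0 := by exact_mod_cast Nat.card_pos.ne'
  have k0 : (Nat.card h.K : ℂ) ≠ 0 := by exact_mod_cast Nat.card_pos.ne'
  have e2 := e t t ht ht
  rw [(mul_eq_zero.1 e1).resolve_left (mul_ne_zero n0 k0), zero_mul, eq_comm, mul_self_eq_zero,
    sub_eq_zero, ← dg_eq] at e2
  exact h1 (faithful hχ e2.symm)

theorem card_K_le {x : G} (h : T3 x) : Nat.card (d1 h).K ≤ 4 := by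
  have h1 := h.dvd
  rw [(d1 h).card_C] at h1
  have := Nat.le_of_dvd (by norm_num) h1
  omega

theorem comm_K [NS G] {x s : G} (h : T3 x) (sx : s * x * s⁻¹ = x⁻¹) (ss : s * s = 1) {v : G}
    (hv : v ∈ (d1 h).K) : Commute s v := by
  classical
  by_contra hn
  have s1 : s⁻¹ = s := inv_eq_of_mul_eq_one_right ss
  have mk := memK h
  have sxi : s * x⁻¹ * s⁻¹ = x := by rw [← conj_inv, sx, inv_inv]
  have hs : ∀ w ∈ (d1 h).K, s * w * s⁻¹ ∈ (d1 h).K := fun w hw => (mk _).2
    ⟨by simpa [sx] using (((mk w).1 hw).1.conj s).inv_left, sq_conj ((mk w).1 hw).2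
      (isConj_iff.2 ⟨s, rfl⟩)⟩
  have cm : ∀ a ∈ (d1 h).K, ∀ b ∈ (d1 h).K, Commute a b := fun a ha b hb =>
    h.ab a b ((mk a).1 ha).1 ((mk b).1 hb).1
  set v' := s * v * s⁻¹ with hv'
  have m' : v' ∈ (d1 h).K := hs v hv
  have vv := ((mk v).1 hv).2
  have n' : ¬ Commute s v' := fun c => hn (by
    have := c.conj s⁻¹
    simpa [hv', mul_assoc] using this)
  have ne' : v ≠ v' := fun e => hn (mul_inv_eq_iff_eq_mul.1 e.symm)
  set z := v * v' with hz
  have mz : z ∈ (d1 h).K := mul_mem hv m'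
  have zz := ((mk z).1 mz).2
  have cz : Commute s z := by
    refine mul_inv_eq_iff_eq_mul.1 ?_
    calc s * z * s⁻¹ = v' * (s * s * v * (s * s)⁻¹) := by rw [hz, hv']; group
      _ = z := by rw [ss, hz, (cm v hv v' m').eq]; group
  have z1 : z ≠ 1 := fun e => ne' (by
    rw [← inv_eq_of_mul_eq_one_right e, inv_eq_of_mul_eq_one_right vv])
  -- the centralizer of `s` in `K` is `{1, z}`
  have cs : ∀ w ∈ (d1 h).K, Commute s w → w = 1 ∨ w = z := fun w hw c => by
    by_contra! e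
    have hc := card_K_le h
    have := Fintype.ofFinite G
    have h5 : ({1, z, w, v, v'} : Finset G) ⊆ univ.filter fun g => g ∈ (d1 h).K := by
      intro g hg
      simp only [mem_insert, mem_singleton] at hg
      rcases hg with rfl | rfl | rfl | rfl | rfl <;> simp [one_mem, mz, hw, hv, m']
    have h6 := card_le_card h5
    rw [← Fintype.card_subtype, ← Nat.card_eq_fintype_card, card_insert_of_notMem,
      card_insert_of_notMem, card_insert_of_notMem, card_pair ne'] at h6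
    · have : Nat.card {g // g ∈ (d1 h).K} ≤ 4 := hc
      omega
    · simp only [mem_insert, mem_singleton, not_or]
      exact ⟨fun e => hn (e ▸ c), fun e => n' (e ▸ c)⟩
    · simp only [mem_insert, mem_singleton, not_or]
      exact ⟨e.2.symm, fun e => hn (e ▸ cz), fun e => n' (e ▸ cz)⟩
    · simp only [mem_insert, mem_singleton, not_or]
      exact ⟨z1.symm, e.1.symm, fun e => hn (e ▸ Commute.one_right s),
        fun e => n' (e ▸ Commute.one_right s)⟩
  -- every involution inverting `x` is conjugate to `s`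
  have cj : ∀ g, g * x * g⁻¹ = x⁻¹ → IsConj g (g * x) ∧ IsConj g (g * x⁻¹) := fun g hg => by
    have e1 : g * x = x⁻¹ * g := by rw [← hg]; group
    have e2 : g * x⁻¹ = x * g := by
      calc g * x⁻¹ = (g * x * g⁻¹)⁻¹ * g := by group
        _ = _ := by rw [hg, inv_inv]
    refine ⟨isConj_iff.2 ⟨x, ?_⟩, isConj_iff.2 ⟨x⁻¹, ?_⟩⟩
    · rw [← e2, mul_assoc, L0.SC3.inv_mul_inv_of_cube h.cube]
    · rw [← e1, inv_inv, mul_assoc, h.mul_self]
  have one : ∀ g, g * g = 1 → g * x * g⁻¹ = x⁻¹ → IsConj s g := fun g gg hg => by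
    obtain ⟨w, c1, c2, e⟩ := h.cent (D1.Ctx.comm_of_inv sx hg)
    have hw := (mk w).2 ⟨c1, c2⟩
    have i1 : s * w * x * (s * w)⁻¹ = x⁻¹ := by
      rw [mul_assoc s, ← c1.eq, ← sx]; group
    have c3 : IsConj (s * w) g := by
      have : g = s * (s * g) := by rw [← mul_assoc, ss, one_mul]
      rcases e with e | e | e <;> rw [this, e]
      · rw [← mul_assoc]; exact (cj _ i1).1
      · rw [← mul_assoc]; exact (cj _ i1).2
    have c4 : Commute s w := by
      have := sq_conj gg c3.symm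
      have e1 : (s * w)⁻¹ = s * w := inv_eq_of_mul_eq_one_right this
      rw [mul_inv_rev, s1, inv_eq_of_mul_eq_one_right c2] at e1
      exact e1.symm
    refine IsConj.trans ?_ c3
    rcases cs w hw c4 with rfl | rfl
    · rw [mul_one]
    · refine isConj_iff.2 ⟨v', ?_⟩
      rw [inv_eq_of_mul_eq_one_right ((mk v').1 m').2, hz, ← mul_assoc s, hv', s1, mul_assoc _ s s,
        ss, mul_one]
  have all : ∀ t, t * t = 1 → t ≠ 1 → IsConj s t := fun t tt t1 => by
    obtain ⟨g, h1, h2⟩ := exists_inv (d1 h) tt t1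
    exact (one g (sq_conj tt h1) h2).trans h1.symm
  have v1 : v ≠ 1 := fun e => hn (e ▸ Commute.one_right s)
  obtain ⟨g, hg⟩ := isConj_iff.1 ((all z zz z1).symm.trans (all v vv v1))
  have cx : Commute x z := ((mk z).1 mz).1
  obtain ⟨l, hl, e⟩ := h.exists_conj (L := centralizer {v})
    (L0.SC3.mem_cent.2 ((mk v).1 hv).1) (y := g * x * g⁻¹) (L0.SC3.mem_cent.2 (hg ▸ cx.conj g))
    (h.conj g).ne (h.conj g).cube
  have h1 : Commute (l⁻¹ * g) z := by
    rcases e with e | e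
    · refine h.ab _ _ (mul_inv_eq_iff_eq_mul.1 ?_).symm cx
      calc _ = l⁻¹ * (g * x * g⁻¹) * l := by group
        _ = _ := by rw [e]; group
    · have h2 : Commute x (s * (l⁻¹ * g)) := D1.Ctx.comm_of_inv sx (by
        calc _ = l⁻¹ * (g * x * g⁻¹) * l := by group
          _ = _ := by rw [e]; group)
      simpa using cz.inv_left.mul_left (h.ab _ _ h2 cx)
  have h2 := (L0.SC3.mem_cent.1 hl).inv_left.eq
  refine hn ((show z = v from ?_) ▸ cz)
  calc z = l⁻¹ * g * z * (l⁻¹ * g)⁻¹ := by rw [h1.eq]; group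
    _ = l⁻¹ * (g * z * g⁻¹) * l := by group
    _ = _ := by rw [hg, h2]; group

end

end Cfsg.Agent.H6.C12

namespace Cfsg.Agent.L0.C12

open Cfsg.Agent.H2 Cfsg.Agent.H6.C12

universe u

theorem exists_ctx {G : Type u} [Group G] [Finite G] [IsSimpleGroup G]
    (nab : ∃ a b : G, a * b ≠ b * a) {x : G} (h : T3 x) (ih : IH.{u} (Nat.card G)) :
    ∃ s V, Ctx x s V := by
  have : D1.NS G := { nc := nab }
  have : Fact (Nat.Prime 2) := ⟨Nat.prime_two⟩
  obtain ⟨t, ht⟩ := exists_prime_orderOf_dvd_card' (G := G) 2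
    (dvd_trans (by norm_num) (D1.four_dvd (G := G)))
  have tt : t * t = 1 := by rw [← sq, ← ht, pow_orderOf_eq_one]
  obtain ⟨s, h1, h2⟩ := exists_inv (d1 h) tt (fun e => by simp [e] at ht)
  exact ⟨s, (d1 h).K, h, inferInstance, nab, ih, h2, sq_conj tt h1, memK h,
    fun v hv => comm_K h h2 (sq_conj tt h1) hv⟩

end Cfsg.Agent.L0.C12
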