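import Cfsg.Agent.H6.C12A6
import Cfsg.Agent.H5.C12Solv

/-!
# The case `|V| = 2` with `K ⟨s⟩` Sylow
-/

set_option autoImplicit false

namespace Cfsg.Agent.L0.C12

open Subgroup Cfsg.Agent.L0.SC3 Cfsg.Agent.H1.T3

universe u

theorem C2.caseA {G : Type u} [Group G] [Finite G] {x s t : G} (c : C2 x s t) {K : Subgroup G}
    (h : TI x (centralizer {t}) K) (h2 : IsPGroup 2 K)
    (hS : H9.IsSylowIn 2 (K ⊔ zpowers s) ⊤) : Nat.card G < 6000 := by
  refine H6.C12.VA.small' ⟨c, h, h2, hS, fun L K' k sL => ?_⟩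
  have nK : L ≤ normalizer (K' : Set G) := fun l hl => mem_normalizer_of_conj (k.normal l hl)
  have hV : K' ⊓ centralizer {x} ≤ zpowers t := fun g hg =>
    c.toCtx.mem_of_commute k.cube hg.1 (SC3.mem_cent.1 hg.2).symm
  have tt := c.toCtx.sq (mem_zpowers t)
  refine ⟨Cfsg.piCoreOf {2}ᶜ K', (H7.core_normalIn _ _).1, fun l hl o ho =>
    conj_mem_of_mem_normalizer (H7.norm_le_norm_core _ _ (nK hl)) ho, ?_,
    two_compl c.t3.cube c.t3.ne c.sx (solv3 c.t3.five k.cube) (not_dvd_card_iff.2 k.cube)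
      (c.t3.not_five' K') (nK k.mem) (nK sL) ((El2.of_sq tt).isPGroup.to_le hV) ?_⟩
  · exact Nat.not_even_iff_odd.1 fun e =>
      H7.isPi_core {2}ᶜ K' 2 Nat.prime_two (even_iff_two_dvd.1 e) rfl
  · have h1 := card_le_of_le hV
    rw [Nat.card_zpowers, orderOf_two tt c.t1] at h1
    exact h1.trans (Nat.le_mul_of_pos_right _ Nat.card_pos)

end Cfsg.Agent.L0.C12
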