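import Cfsg.Agent.H1.ElA
import Cfsg.Agent.H6.ElB

set_option autoImplicit false

namespace Cfsg.Agent.H1.El

open Pointwise

variable {G : Type*} [Group G] [Finite G] {Ω : Type*} [MulAction G Ω] [FaithfulSMul G Ω]
  [Fintype Ω] [DecidableEq Ω] {p q : ℕ}
variable {P : Sylow p G} {E : Subgroup G} {x : G} {F : Finset Ω}

theorem Cx.c_zp (h : Cx p q P E x F) : (x ^ p) ^ p = 1 := by
  rw [← pow_mul, ← sq, ← h.ord, pow_orderOf_eq_one]

theorem Cx.c_x (h : Cx p q P E x F) {H : Subgroup G} {k : ℕ} (hk : ¬ p ∣ k) (hx : x ^ k ∈ H) :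
    x ∈ H := by
  have h1 : k.Coprime (orderOf x) := by
    rw [h.ord]
    exact Nat.Coprime.pow_right _ ((Nat.Prime.coprime_iff_not_dvd h.hp).2 hk).symm
  obtain ⟨m, hm⟩ := exists_pow_eq_self_of_coprime h1
  rw [← hm]; exact H.pow_mem hx m

omit [Finite G] in
theorem c_eq {H : Subgroup G} {n : ℕ} {y : G} (hH : ∀ k, y ^ k ∈ H → n ∣ k)
    {i j : ℕ} (hi : i < n) (hj : j < n) (h : (y ^ i)⁻¹ * y ^ j ∈ H) : i = j := by
  by_contra hne
  rcases lt_or_gt_of_ne hne with hl | hl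
  · obtain ⟨d, rfl⟩ := Nat.exists_eq_add_of_lt hl
    rw [add_assoc, pow_add, inv_mul_cancel_left] at h
    exact Nat.not_dvd_of_pos_of_lt (by omega) (by omega) (hH _ h)
  · obtain ⟨d, rfl⟩ := Nat.exists_eq_add_of_lt hl
    have h' := H.inv_mem h
    rw [mul_inv_rev, inv_inv, add_assoc, pow_add, inv_mul_cancel_left] at h'
    exact Nat.not_dvd_of_pos_of_lt (by omega) (by omega) (hH _ h')

/-- if the normal closure of `E` is transitive, then `G` is primitive -/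
theorem Cx.imp1 (h : Cx p q P E x F)
    (hM : ∀ a b : Ω, ∃ m ∈ Subgroup.normalClosure (E : Set G), m • a = b) :
    MulAction.IsPreprimitive G Ω := by
  classical
  have : MulAction.IsPretransitive G Ω := ⟨h.tr⟩
  obtain ⟨a, ha⟩ := h.exL
  refine MulAction.IsPreprimitive.of_isTrivialBlock_base a fun {B} haB hB => ?_
  by_contra hnt
  rw [MulAction.IsTrivialBlock, not_or, Set.not_subsingleton_iff] at hnt
  obtain ⟨hn1, hn2⟩ := hnt
  obtain ⟨a', ha'B, hne⟩ := hn1.exists_ne a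
  let H := MulAction.stabilizer G B
  have hH : ∀ {g : G} {b : Ω}, b ∈ B → g • b ∈ B → g ∈ H := fun hb hg => hB.smul_eq_of_mem hb hg
  have hH' : ∀ {g : G} {b : Ω}, g ∈ H → b ∈ B → g • b ∈ B := fun {g b} hg hb => by
    have : g • B = B := hg
    rw [← this]; exact Set.smul_mem_smul_set hb
  have hz : x ^ p ∈ H := by
    by_contra hz
    have hd : ∀ k, x ^ k ∈ H → p ^ 2 ∣ k := by
      intro k hk
      by_cases h1 : p ∣ k
      · obtain ⟨m, rfl⟩ := h1
        rw [pow_mul] at hk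
        by_cases h2 : p ∣ m
        · rw [sq]; exact Nat.mul_dvd_mul_left _ h2
        · exact absurd (b_of_pow h.hp h.c_zp h2 hk) hz
      · exact absurd (H.pow_mem (h.c_x h1 hk) p) hz
    have hW : ∀ c ∈ ({a', a} : Finset Ω), c ∈ B := by
      intro c hc
      rcases Finset.mem_insert.1 hc with rfl | hc
      · exact ha'B
      · rw [Finset.mem_singleton.1 hc]; exact haB
    have := Finset.card_le_card_of_injOn (s := Finset.range (p ^ 2) ×ˢ ({a', a} : Finset Ω))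
      (t := Finset.univ) (fun t => x ^ t.1 • t.2) (fun t _ => by simp) (fun s hs t ht e => by
        have hs' := Finset.mem_product.1 (Finset.mem_coe.1 hs)
        have ht' := Finset.mem_product.1 (Finset.mem_coe.1 ht)
        have e' : x ^ s.1 • s.2 = x ^ t.1 • t.2 := e
        have h1 := c_eq hd (Finset.mem_range.1 hs'.1) (Finset.mem_range.1 ht'.1)
          (hH (hW _ ht'.2) (by rw [mul_smul, ← e', inv_smul_smul]; exact hW _ hs'.2))
        rw [h1] at e'
        exact Prod.ext h1 (smul_left_cancel _ e'))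
    rw [Finset.card_product, Finset.card_range, Finset.card_pair hne, Finset.card_univ,
      h.card] at this
    have h1 := h.qp
    have h2 := h.hp.pos
    nlinarith
  have hE : Subgroup.normalClosure (E : Set G) ≤ H := by
    refine le_trans (Subgroup.normalClosure_le_normal ?_) H.normalCore_le
    intro e he g
    refine hH haB ?_
    by_cases hg : g⁻¹ • a ∈ F
    · rw [mul_smul, mul_smul, (h.memF _).1 hg e he, smul_inv_smul]; exact haB
    · obtain ⟨k, hk⟩ := h.trL ha hg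
      obtain ⟨m, hm⟩ := h.orbE _ hg e he
      have hgk : g * x ^ k ∈ H := hH haB (by rw [mul_smul, hk, smul_inv_smul]; exact haB)
      have : (g * e * g⁻¹) • a = (g * x ^ k) • (x ^ p) ^ m • a := by
        rw [mul_smul, mul_smul, hm, ← hk, mul_smul, ← mul_smul (x ^ k), ← mul_smul ((x ^ p) ^ m),
          ← pow_mul, ← pow_add, ← pow_add, add_comm]
      rw [this]
      exact hH' hgk (hH' (H.pow_mem hz m) haB)
  refine hn2 (Set.eq_univ_of_forall fun b => ?_)
  obtain ⟨m, hm, rfl⟩ := hM a b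
  exact hH' (hE hm) haB

open Classical in
/-- the `M`-orbit of `c` -/
noncomputable def Ob (M : Subgroup G) (c : Ω) : Finset Ω :=
  Finset.univ.filter fun b => ∃ m ∈ M, m • c = b

omit [Finite G] [FaithfulSMul G Ω] [DecidableEq Ω] in
theorem mem_Ob {M : Subgroup G} {c b : Ω} : b ∈ Ob M c ↔ ∃ m ∈ M, m • c = b := by
  simp [Ob]

omit [Finite G] [FaithfulSMul G Ω] [DecidableEq Ω] in
theorem Ob_inv {M : Subgroup G} {c : Ω} : ∀ m ∈ M, ∀ b ∈ Ob M c, m • b ∈ Ob M c := by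
  intro m hm b hb
  obtain ⟨m', hm', rfl⟩ := mem_Ob.1 hb
  exact mem_Ob.2 ⟨m * m', M.mul_mem hm hm', mul_smul _ _ _⟩

omit [Finite G] [FaithfulSMul G Ω] [DecidableEq Ω] in
theorem Ob_tr {M : Subgroup G} {c : Ω} : ∀ a ∈ Ob M c, ∀ b ∈ Ob M c, ∃ m ∈ M, m • a = b := by
  intro a ha b hb
  obtain ⟨m, hm, rfl⟩ := mem_Ob.1 ha
  obtain ⟨m', hm', rfl⟩ := mem_Ob.1 hb
  exact ⟨m' * m⁻¹, M.mul_mem hm' (M.inv_mem hm), by rw [mul_smul, inv_smul_smul]⟩

omit [Finite G] [FaithfulSMul G Ω] [DecidableEq Ω] in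
theorem self_Ob {M : Subgroup G} {c : Ω} : c ∈ Ob M c := mem_Ob.2 ⟨1, M.one_mem, one_smul _ _⟩

omit [Finite G] [FaithfulSMul G Ω] [DecidableEq Ω] in
theorem Ob_coe {M : Subgroup G} {c : Ω} : MulAction.orbit M c = (Ob M c : Set Ω) := by
  ext b
  rw [Finset.mem_coe, mem_Ob]
  exact ⟨fun ⟨m, e⟩ => ⟨m.1, m.2, e⟩, fun ⟨m, hm, e⟩ => ⟨⟨m, hm⟩, e⟩⟩

omit [Finite G] [FaithfulSMul G Ω] [DecidableEq Ω] in
theorem Ob_smul {M : Subgroup G} [hM : M.Normal] {c b : Ω} (g : G) (hb : b ∈ Ob M c) :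
    g • b ∈ Ob M (g • c) := by
  obtain ⟨m, hm, rfl⟩ := mem_Ob.1 hb
  exact mem_Ob.2 ⟨g * m * g⁻¹, hM.conj_mem m hm g, by rw [mul_smul, inv_smul_smul, mul_smul]⟩

omit [Finite G] [FaithfulSMul G Ω] [DecidableEq Ω] in
theorem Ob_card_le {M : Subgroup G} [M.Normal] (c : Ω) (g : G) :
    (Ob M c).card ≤ (Ob M (g • c)).card :=
  Finset.card_le_card_of_injOn (fun b => g • b) (fun _ hb => Ob_smul g hb)
    (fun _ _ _ _ e => smul_left_cancel g e)

omit [Finite G] [FaithfulSMul G Ω] [DecidableEq Ω] in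
theorem Bas.Ob_card (h : Bas G Ω p q) {M : Subgroup G} [M.Normal] (b c : Ω) :
    (Ob M b).card = (Ob M c).card := by
  apply le_antisymm
  · obtain ⟨g, rfl⟩ := h.tr b c; exact Ob_card_le b g
  · obtain ⟨g, rfl⟩ := h.tr c b; exact Ob_card_le c g

omit [Finite G] [FaithfulSMul G Ω] [DecidableEq Ω] in
theorem Bas.Ob_dvd (h : Bas G Ω p q) {M : Subgroup G} [M.Normal] (c : Ω) :
    (Ob M c).card ∣ 2 * p * q := by
  have : MulAction.IsPretransitive G Ω := ⟨h.tr⟩
  have := (MulAction.IsBlock.orbit_of_normal (G := G) (N := M) c).ncard_dvd_card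
    ⟨c, MulAction.mem_orbit_self c⟩
  rwa [Ob_coe, Set.ncard_coe_finset, Nat.card_eq_fintype_card, h.card] at this

omit [Finite G] [FaithfulSMul G Ω] [DecidableEq Ω] in
theorem mem_bH {M : Subgroup G} [M.Normal] {c : Ω} {g : G} : g ∈ bH M c ↔ g • c ∈ Ob M c := by
  rw [mem_Ob]
  exact ⟨fun h => h.2, fun h => ⟨by rw [Subgroup.normalizer_eq_top]; trivial, h⟩⟩

section intr
variable {M : Subgroup G} [hM : M.Normal]

theorem Cx.d_x (h : Cx p q P E x F) (hnt : ¬ ∀ a b : Ω, ∃ m ∈ M, m • a = b) {c : Ω} (hc : c ∉ F)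
    (k : ℕ) (hk : x ^ k ∈ bH M c) : p ∣ k := by
  by_contra hpk
  have hx := h.c_x hpk hk
  have hsub : Fᶜ ⊆ Ob M c := by
    intro b hb
    obtain ⟨j, rfl⟩ := h.trL hc (Finset.mem_compl.1 hb)
    exact mem_bH.1 (Subgroup.pow_mem _ hx j)
  have h1 := Finset.card_le_card hsub
  rw [Finset.card_compl, h.cardF, Nat.add_sub_cancel] at h1
  obtain ⟨r, hr⟩ := h.toBas.Ob_dvd (M := M) c
  have h2 := h.qp
  have h3 := h.hp.pos
  have h4 := h.hq.pos
  rcases r with _ | _ | r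
  · rw [mul_zero] at hr
    exact absurd hr (by positivity)
  · have : Ob M c = Finset.univ := Finset.eq_univ_of_card _ (by rw [h.card, hr]; simp)
    exact hnt fun a b => Ob_tr a (this ▸ Finset.mem_univ a) b (this ▸ Finset.mem_univ b)
  · nlinarith [Nat.zero_le ((Ob M c).card * r)]

theorem Cx.d_card (h : Cx p q P E x F) (hEM : E ≤ M) (hnt : ¬ ∀ a b : Ω, ∃ m ∈ M, m • a = b)
    (c : Ω) : (Ob M c).card = 2 * q := by
  obtain ⟨a, ha⟩ := h.exL
  obtain ⟨w, hw⟩ := h.exF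
  have : Fact p.Prime := ⟨h.hp⟩
  have h1 : p ≤ (Ob M c).card := by
    rw [h.toBas.Ob_card c a]
    exact b_le_card h.hp h.c_zp (Ob_inv _ (hEM h.zE)) self_Ob (h.zmv a ha)
  have h2 : ¬ p ∣ (Ob M c).card := by
    rw [h.toBas.Ob_card c w]
    intro hd
    have e1 : (MulAction.stabilizer M w).index = (Ob M w).card := by
      rw [MulAction.index_stabilizer, Ob_coe, Set.ncard_coe_finset]
    have e2 : Nat.card E ∣ Nat.card (MulAction.stabilizer M w) := by
      rw [← Nat.card_congr (Subgroup.subgroupOfEquivOfLe hEM).toEquiv]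
      exact Subgroup.card_dvd_of_le fun e he => (h.memF w).1 hw e he
    have e3 : Nat.card P ∣ Nat.card M := by
      rw [h.idx, ← (MulAction.stabilizer M w).index_mul_card, e1]
      exact Nat.mul_dvd_mul hd e2
    obtain ⟨r, hr⟩ := e3
    have e4 : (P : Subgroup G).index = M.index * r := by
      have a1 := (P : Subgroup G).index_mul_card
      have a2 := M.index_mul_card
      rw [hr, ← a1] at a2
      have a3 : 0 < Nat.card P := Nat.card_pos
      refine Nat.eq_of_mul_eq_mul_right a3 ?_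
      change _ = (P : Subgroup G).index * Nat.card P at a2
      rw [← a2]; ring
    have e5 : ¬ p ∣ M.index := fun hh => P.not_dvd_index (e4 ▸ hh.mul_right r)
    have e6 : x ∈ M := h.c_x e5 (M.pow_index_mem x)
    have := h.d_x hnt ha 1 (mem_bH.2 (Ob_inv _ (by simpa using e6) _ self_Ob))
    exact h.hp.one_lt.ne' (Nat.dvd_one.1 this)
  have h3 : (Ob M c).card ∣ 2 * q := by
    have := h.toBas.Ob_dvd (M := M) c
    rw [show 2 * p * q = p * (2 * q) by ring] at this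
    exact Nat.Coprime.dvd_of_dvd_mul_left ((Nat.Prime.coprime_iff_not_dvd h.hp).2 h2).symm this
  obtain ⟨r, hr⟩ := h3
  have h4 := h.qp
  have h5 := h.hq.pos
  rcases r with _ | _ | r
  · omega
  · simpa using hr.symm
  · nlinarith [Nat.zero_le ((Ob M c).card * r)]

theorem Cx.d_dis (h : Cx p q P E x F) (hnt : ¬ ∀ a b : Ω, ∃ m ∈ M, m • a = b) {c : Ω}
    (hc : c ∉ F) : ∀ j < p, ∀ k < p, ∀ a : Ω, (x ^ j)⁻¹ • a ∈ Ob M c → (x ^ k)⁻¹ • a ∈ Ob M c →
      j = k := by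
  intro j hj k hk a h1 h2
  refine c_eq (h.d_x hnt hc) hj hk (mem_bH.2 ?_)
  have h3 := Ob_smul ((x ^ j)⁻¹ * x ^ k) h2
  rw [mul_smul (x ^ j)⁻¹ (x ^ k) ((x ^ k)⁻¹ • a), smul_inv_smul] at h3
  obtain ⟨m, hm, e⟩ := Ob_tr _ h3 _ self_Ob
  rw [← e]
  exact Ob_inv m hm _ h1

theorem Cx.d_cov (h : Cx p q P E x F) (hEM : E ≤ M) (hnt : ¬ ∀ a b : Ω, ∃ m ∈ M, m • a = b)
    {c : Ω} (hc : c ∉ F) : ∀ a : Ω, ∃ k < p, (x ^ k)⁻¹ • a ∈ Ob M c := by
  intro a
  have h1 : ((Finset.range p ×ˢ Ob M c).image fun t => x ^ t.1 • t.2) = Finset.univ := by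
    apply Finset.eq_univ_of_card
    rw [Finset.card_image_of_injOn, Finset.card_product, Finset.card_range, h.d_card hEM hnt,
      h.card]
    · ring
    · intro s hs t ht e
      have hs' := Finset.mem_product.1 (Finset.mem_coe.1 hs)
      have ht' := Finset.mem_product.1 (Finset.mem_coe.1 ht)
      have e' : x ^ s.1 • s.2 = x ^ t.1 • t.2 := e
      have h1 := h.d_dis hnt hc _ (Finset.mem_range.1 hs'.1) _ (Finset.mem_range.1 ht'.1)
        (x ^ s.1 • s.2) (by rw [inv_smul_smul]; exact hs'.2)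
        (by rw [e', inv_smul_smul]; exact ht'.2)
      rw [h1] at e'
      exact Prod.ext h1 (smul_left_cancel _ e')
  obtain ⟨t, ht, rfl⟩ := Finset.mem_image.1 (h1 ▸ Finset.mem_univ a)
  have ht' := Finset.mem_product.1 ht
  exact ⟨t.1, Finset.mem_range.1 ht'.1, by rw [inv_smul_smul]; exact ht'.2⟩

theorem Cx.d_meet (h : Cx p q P E x F) (hEM : E ≤ M) (hnt : ¬ ∀ a b : Ω, ∃ m ∈ M, m • a = b)
    (b : Ω) : ∃ c, c ∉ F ∧ b ∈ Ob M c := by
  obtain ⟨a, ha⟩ := h.exL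
  obtain ⟨k, -, hk⟩ := h.d_cov hEM hnt ha b
  refine ⟨x ^ k • a, fun hh => ha ((h.invP (Subgroup.pow_mem _ h.xP k) a).1 hh), ?_⟩
  simpa using Ob_smul (x ^ k) hk

theorem Cx.d_small (h : Cx p q P E x F) (hnt : ¬ ∀ a b : Ω, ∃ m ∈ M, m • a = b) (c : Ω)
    (S : Finset Ω) (hS : ∀ b ∈ S, b ∉ F ∧ b ∈ Ob M c) : S.card ≤ p := by
  rcases S.eq_empty_or_nonempty with rfl | ⟨a, ha⟩
  · simp
  have hsub : S ⊆ (Finset.range p).image fun k => (x ^ p) ^ k • a := by
    intro b hb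
    obtain ⟨k, rfl⟩ := h.trL (hS a ha).1 (hS b hb).1
    obtain ⟨j, rfl⟩ := h.d_x hnt (hS a ha).1 k
      (mem_bH.2 (mem_Ob.2 (Ob_tr _ (hS a ha).2 _ (hS _ hb).2)))
    refine Finset.mem_image.2 ⟨j % p, Finset.mem_range.2 (Nat.mod_lt _ h.hp.pos), ?_⟩
    rw [← pow_eq_pow_mod j h.c_zp, pow_mul]
  exact (Finset.card_le_card hsub).trans (Finset.card_image_le.trans (by simp))

end intr

/-- a subgroup normalised by `M` keeping and moving an `M`-orbit is transitive on it -/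
theorem Cx.d_trn (h : Cx p q P E x F)
    (hnt : ¬ ∀ a b : Ω, ∃ m ∈ Subgroup.normalClosure (E : Set G), m • a = b) (c : Ω)
    (V : Subgroup G) (hV : V ≤ Subgroup.normalClosure (E : Set G))
    (hn : ∀ m ∈ Subgroup.normalClosure (E : Set G), ∀ v ∈ V, m * v * m⁻¹ ∈ V)
    (hmv : ∃ v ∈ V, ∃ a ∈ Ob (Subgroup.normalClosure (E : Set G)) c, v • a ≠ a) :
    ∀ a ∈ Ob (Subgroup.normalClosure (E : Set G)) c,
      ∀ b ∈ Ob (Subgroup.normalClosure (E : Set G)) c, ∃ v ∈ V, v • a = b := by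
  refine trn h.hp (Group.conjugatesOfSet (E : Set G)) _ (fun y hy => ?_) Ob_tr V
    (fun y hy => hn y (Subgroup.conjugatesOfSet_subset_normalClosure hy))
    (fun v hv => Ob_inv v (hV hv)) hmv
  refine ⟨?_, Ob_inv y (Subgroup.conjugatesOfSet_subset_normalClosure hy), ?_⟩
  · obtain ⟨e, he, hc⟩ := Group.mem_conjugatesOfSet_iff.1 hy
    obtain ⟨g, rfl⟩ := isConj_iff.1 hc
    rw [conj_pow, (h.om e (h.le he)).2 he]; simp
  · obtain ⟨e, he, hc⟩ := Group.mem_conjugatesOfSet_iff.1 hy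
    obtain ⟨g, rfl⟩ := isConj_iff.1 hc
    have h1 := h.d_small hnt (g⁻¹ • c) (((Ob (Subgroup.normalClosure (E : Set G)) c).filter
      fun a => (g * e * g⁻¹) • a ≠ a).image fun a => g⁻¹ • a) (by
        intro b hb
        obtain ⟨a, ha, rfl⟩ := Finset.mem_image.1 hb
        obtain ⟨h1, h2⟩ := Finset.mem_filter.1 ha
        refine ⟨fun hF => h2 ?_, Ob_smul _ h1⟩
        rw [mul_smul, mul_smul, (h.memF _).1 hF e he, smul_inv_smul])
    rw [Finset.card_image_of_injective _ (MulAction.injective g⁻¹)] at h1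
    have := h.hp.pos
    exact lt_of_le_of_lt h1 (by omega)

end Cfsg.Agent.H1.El
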