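import Cfsg.Agent.H6.ElC
import Cfsg.Agent.H2.ElA
import Cfsg.Agent.H5.ElBu
import Cfsg.Agent.H8.ElT
import Cfsg.Agent.L0.ElW

set_option autoImplicit false

namespace Cfsg.Agent.H1.El

variable {G : Type*} [Group G] [Finite G] {Ω : Type*} [MulAction G Ω] [FaithfulSMul G Ω]
  [Fintype Ω] [DecidableEq Ω] {p q : ℕ}
variable {P : Sylow p G} {E : Subgroup G} {x : G} {F : Finset Ω}

theorem Cx.imp_a (h : Cx p q P E x F) (hE : E = Subgroup.zpowers (x ^ p))
    (hnt : ¬ ∀ a b : Ω, ∃ m ∈ Subgroup.normalClosure (E : Set G), m • a = b) : False := by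
  have hEM : E ≤ Subgroup.normalClosure (E : Set G) := Subgroup.subset_normalClosure
  have hMn : (Subgroup.normalClosure (E : Set G)).Normal := inferInstance
  have htrn := h.d_trn hnt
  generalize Subgroup.normalClosure (E : Set G) = M at *
  obtain ⟨-, hP, h3, -⟩ := h.cyc hE
  obtain ⟨a, ha⟩ := h.exL
  have hxM : ∀ k, x ^ k ∈ M → p ∣ k := fun k hk =>
    h.d_x hnt ha k (mem_bH.2 (Ob_inv _ hk _ self_Ob))
  have hx : x ∈ M ⊔ Subgroup.zpowers x := Subgroup.mem_sup_right (Subgroup.mem_zpowers x)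
  obtain ⟨U, hUX, hUn, hUc, hUg⟩ := bu h.hp (M ⊔ Subgroup.zpowers x) x hx h.ord h3 (by
    intro n hn hnx
    obtain ⟨m, hm, t, ht, rfl⟩ := Subgroup.mem_sup_of_normal_left.1 hn
    have hc : t * x * t⁻¹ = x := by
      obtain ⟨i, rfl⟩ := Subgroup.mem_zpowers_iff.1 ht
      group
    have h1 : m * t * x * (m * t)⁻¹ * x⁻¹ ∈ M := by
      have : m * t * x * (m * t)⁻¹ * x⁻¹ = m * ((t * x * t⁻¹) * m⁻¹ * x⁻¹) := by group
      rw [this, hc]
      exact M.mul_mem hm (hMn.conj_mem _ (M.inv_mem hm) x)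
    have h2 : m * t * x * (m * t)⁻¹ * x⁻¹ ∈ Submonoid.powers x :=
      mem_powers_iff_mem_zpowers.2
        (Subgroup.mul_mem _ hnx (Subgroup.inv_mem _ (Subgroup.mem_zpowers x)))
    obtain ⟨k, hk⟩ := h2
    have hk' : x ^ k = m * t * x * (m * t)⁻¹ * x⁻¹ := hk
    obtain ⟨j, rfl⟩ := hxM k (hk' ▸ h1)
    rw [← conj_pow, ← eq_mul_inv_iff_mul_eq.1 hk', ← pow_succ, ← pow_mul, add_mul, one_mul,
      pow_add, mul_right_comm, mul_comm (p * p) j, mul_comm j, pow_mul, pow_mul, h.c_zp, one_pow,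
      one_mul])
  have hUM : U ≤ M := by
    intro u hu
    obtain ⟨m, hm, t, ht, e⟩ := Subgroup.mem_sup_of_normal_left.1 (hUX hu)
    have h1 : u ^ p ∈ M := by
      rw [← QuotientGroup.eq_one_iff, ← e, QuotientGroup.mk_pow, QuotientGroup.mk_mul,
        (QuotientGroup.eq_one_iff m).2 hm, one_mul, ← QuotientGroup.mk_pow,
        QuotientGroup.eq_one_iff]
      obtain ⟨i, rfl⟩ := mem_powers_iff_mem_zpowers.2 ht
      change (x ^ i) ^ p ∈ M
      rw [← pow_mul, mul_comm, pow_mul]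
      exact M.pow_mem (hEM h.zE) i
    have h2 : p.Coprime (orderOf u) :=
      Nat.Coprime.coprime_dvd_right (U.orderOf_dvd_natCard hu)
        ((Nat.Prime.coprime_iff_not_dvd h.hp).2 hUc)
    obtain ⟨m', hm'⟩ := exists_pow_eq_self_of_coprime h2
    rw [← hm']; exact M.pow_mem h1 m'
  have hc := h.d_card hEM hnt a
  have hsplit := Finset.card_filter_add_card_filter_not (s := Ob M a) fun b => x ^ p • b = b
  have hs1 := h.d_small hnt a ((Ob M a).filter fun b => ¬ x ^ p • b = b) (fun b hb =>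
    ⟨fun hF => (Finset.mem_filter.1 hb).2 ((h.memF b).1 hF _ h.zE), (Finset.mem_filter.1 hb).1⟩)
  have hs2 : p ≤ ((Ob M a).filter fun b => ¬ x ^ p • b = b).card :=
    b_le_card h.hp h.c_zp (fun b hb => Finset.mem_filter.2
      ⟨Ob_inv _ (hEM h.zE) _ (Finset.mem_filter.1 hb).1,
        fun e => (Finset.mem_filter.1 hb).2 (smul_left_cancel _ e)⟩)
      (Finset.mem_filter.2 ⟨self_Ob, h.zmv a ha⟩) (h.zmv a ha)
  obtain ⟨h5, h6, h7⟩ := h.five
  obtain ⟨w, hw⟩ : ((Ob M a).filter fun b => x ^ p • b = b).Nonempty :=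
    Finset.card_pos.1 (by omega)
  obtain ⟨hwO, hwz⟩ := Finset.mem_filter.1 hw
  have hwF : w ∈ F := by by_contra hh; exact h.zmv w hh hwz
  have htr := htrn a U hUM (fun m hm => hUn m (Subgroup.mem_sup_left hm)) (by
    by_contra hno
    push Not at hno
    obtain ⟨m, hm, e⟩ := mem_Ob.1 hwO
    obtain ⟨u, hu, k, rfl⟩ := hUg m (Subgroup.mem_sup_left hm)
    rw [mul_smul, smul_eq_iff_eq_inv_smul, hno _ (U.inv_mem hu) w hwO] at e
    exact ha ((h.invP (Subgroup.pow_mem _ h.xP k) a).1 (e ▸ hwF)))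
  exact cl h.hp h.hq h.q2 h.qp U hUc (x ^ p) h.c_zp (hUn _ (Subgroup.pow_mem _ hx p)) (Ob M a) hc
    (fun u hu => Ob_inv u (hUM hu)) htr ⟨w, hwO, hwz⟩ (by omega)

theorem Cx.imp_b (h : Cx p q P E x F) (hE : E ≠ Subgroup.zpowers (x ^ p))
    (hnt : ¬ ∀ a b : Ω, ∃ m ∈ Subgroup.normalClosure (E : Set G), m • a = b) : False := by
  have hEM : E ≤ Subgroup.normalClosure (E : Set G) := Subgroup.subset_normalClosure
  have hMn : (Subgroup.normalClosure (E : Set G)).Normal := inferInstance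
  have htrn := h.d_trn hnt
  obtain ⟨V, T, hV, hT, -, hfix, htr⟩ := h.theta hE
  generalize Subgroup.normalClosure (E : Set G) = M at *
  obtain ⟨t, ht, t', ht', hne⟩ := Finset.one_lt_card.1 (show 1 < T.card by omega)
  obtain ⟨c, hc, htc⟩ := h.d_meet hEM hnt t
  let K : Subgroup G :=
    { carrier := {g | g ∈ M ∧ ∀ b, b ∉ Ob M c → g • b = b}
      one_mem' := ⟨M.one_mem, fun b _ => one_smul _ _⟩
      mul_mem' := fun {g g'} hg hg' => ⟨M.mul_mem hg.1 hg'.1, fun b hb => by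
        rw [mul_smul, hg'.2 b hb, hg.2 b hb]⟩
      inv_mem' := fun {g} hg => ⟨M.inv_mem hg.1, fun b hb => by
        rw [inv_smul_eq_iff, hg.2 b hb]⟩ }
  have hKM : K ≤ M := fun g hg => hg.1
  have hK := htrn c K hKM (fun m hm g hg => ⟨hMn.conj_mem _ hg.1 _, fun b hb => by
      rw [mul_smul, mul_smul, hg.2 _ fun hh => hb (by simpa using Ob_inv m hm _ hh),
        smul_inv_smul]⟩) (by
    obtain ⟨v, hv, e⟩ := htr t ht t' ht'
    refine ⟨v, ⟨hV hv, fun b hb => hfix v hv b fun hbT => hb ?_⟩, t, htc, e ▸ hne.symm⟩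
    obtain ⟨v', hv', rfl⟩ := htr t ht b hbT
    exact Ob_inv _ (hV hv') _ htc)
  obtain ⟨u, hu, -, h1, h2⟩ := lq h.hq h.q2 K (Ob M c) (h.d_card hEM hnt c)
    (fun k hk => Ob_inv k (hKM hk)) hK
  refine h.toBas.prodq x u (Ob M c) ?_ hu.2 h1 (h.d_cov hEM hnt hc) (h.d_dis hnt hc)
  refine eq_of_smul_eq_smul (α := Ω) fun b => ?_
  rw [one_smul]
  by_cases hb : b ∈ Ob M c
  · exact h2 b hb
  · exact (K.pow_mem hu q).2 b hb

/-- IMP -/
theorem Cx.imp (h : Cx p q P E x F) : MulAction.IsPreprimitive G Ω := by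
  refine h.imp1 ?_
  by_contra hnt
  by_cases hE : E = Subgroup.zpowers (x ^ p)
  · exact h.imp_a hE hnt
  · exact h.imp_b hE hnt

end Cfsg.Agent.H1.El
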