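import Cfsg.Agent.H6.Aff
import Cfsg.Agent.H6.PGL2

/-! Prime graphs of affine extensions. -/

set_option autoImplicit false

namespace Cfsg.Agent.H6

open Matrix

section
variable {V K : Type*} [Group K] [AddCommGroup V] [DistribMulAction K V]

theorem aff_prime_mem_iff {r : ℕ} (hr : r.Prime) (hV : ∀ v : V, r • v = 0)
    (hrK : r ∈ Set.range (orderOf : K → ℕ)) (p : ℕ) (hp : p.Prime) :
    p ∈ Set.range (orderOf : K → ℕ) ↔ p ∈ Set.range (orderOf : Aff V K → ℕ) := by
  constructor
  · exact fun h => spec_subset_of_injective Aff.inr Aff.inr_injective h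
  · rintro ⟨a, ha⟩
    rcases Aff.orderOf_cases hr hV a with h | h
    · exact ⟨a.k, by rw [← h, ha]⟩
    · have : r ∣ p := by rw [← ha, h]; exact Dvd.intro_left _ rfl
      rw [← (Nat.prime_dvd_prime_iff_eq hr hp).mp this]
      exact hrK

theorem aff_prime_mul_mem_iff {r : ℕ} (hr : r.Prime) (hV : ∀ v : V, r • v = 0)
    (hf : ∀ k : K, (orderOf k).Prime → orderOf k ≠ r →
      orderOf k * r ∈ Set.range (orderOf : K → ℕ) ∨ ∀ w : V, k • w = w → w = 0)
    (p q : ℕ) (hp : p.Prime) (hq : q.Prime) (hpq : p ≠ q) :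
    p * q ∈ Set.range (orderOf : K → ℕ) ↔ p * q ∈ Set.range (orderOf : Aff V K → ℕ) := by
  constructor
  · exact fun h => spec_subset_of_injective Aff.inr Aff.inr_injective h
  · rintro ⟨a, ha⟩
    rcases Aff.orderOf_cases hr hV a with h | h
    · exact ⟨a.k, by rw [← h, ha]⟩
    · have h1 : r ∣ p * q := by rw [← ha, h]; exact Dvd.intro_left _ rfl
      have h2 : (orderOf a.k).Prime ∧ orderOf a.k ≠ r := by
        rcases (Nat.Prime.dvd_mul hr).mp h1 with h3 | h3
        · have h4 := (Nat.prime_dvd_prime_iff_eq hr hp).mp h3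
          subst h4
          have : orderOf a.k = q :=
            Nat.eq_of_mul_eq_mul_right hr.pos (by rw [← h, ha, mul_comm])
          rw [this]
          exact ⟨hq, hpq.symm⟩
        · have h4 := (Nat.prime_dvd_prime_iff_eq hr hq).mp h3
          subst h4
          have : orderOf a.k = p :=
            Nat.eq_of_mul_eq_mul_right hr.pos (by rw [← h, ha])
          rw [this]
          exact ⟨hp, hpq⟩
      rcases hf a.k h2.1 h2.2 with h5 | h5
      · rw [← ha, h]; exact h5
      · have := Aff.orderOf_eq_of_fpf a 1 (by simpa using h5)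
        exact ⟨a.k, by rw [← this, ha]⟩

/-- The general "same prime graph" construction: `L` has the spectrum-prime-graph of `K`, and `K`
acts on an elementary abelian `r`-group `V` suitably. -/
theorem primeGraph_large_of_aff [Finite K] [Finite V] [Nontrivial V] {L : Type*} [Group L]
    [Finite L] {r : ℕ} (hr : r.Prime) (hV : ∀ v : V, r • v = 0)
    (hrK : r ∈ Set.range (orderOf : K → ℕ))
    (hf : ∀ k : K, (orderOf k).Prime → orderOf k ≠ r →
      orderOf k * r ∈ Set.range (orderOf : K → ℕ) ∨ ∀ w : V, k • w = w → w = 0)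
    (h1 : ∀ p : ℕ, p.Prime → (p ∈ Set.range (orderOf : L → ℕ) ↔ p ∈ Set.range (orderOf : K → ℕ)))
    (h2 : ∀ p q : ℕ, p.Prime → q.Prime → p ≠ q →
      (p * q ∈ Set.range (orderOf : L → ℕ) ↔ p * q ∈ Set.range (orderOf : K → ℕ))) (N : ℕ) :
    ∃ (H : Type) (_ : Group H) (_ : Finite H), N < Nat.card H ∧
      ((∀ p : ℕ, p.Prime → (p ∣ Nat.card L ↔ p ∣ Nat.card H)) ∧
      (∀ p q : ℕ, p.Prime → q.Prime → p ≠ q →
        ((∃ g : L, orderOf g = p * q) ↔ (∃ g : H, orderOf g = p * q)))) :=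
  primeGraph_large_of (G := Aff V K) (Aff.exists_large hr hV)
    (fun p hp => (h1 p hp).trans (aff_prime_mem_iff hr hV hrK p hp))
    (fun p q hp hq hpq => (h2 p q hp hq hpq).trans (aff_prime_mul_mem_iff hr hV hf p q hp hq hpq)) N

end

theorem center_sl2_char2 {F : Type*} [Field F] [CharP F 2] :
    Subgroup.center (SpecialLinearGroup (Fin 2) F) = ⊥ := by
  rw [eq_bot_iff]
  intro g hg
  obtain ⟨r, hr, hr'⟩ := SpecialLinearGroup.mem_center_iff.mp hg
  have h1 : r = 1 := by
    have h2 : (r - 1) ^ 2 = 0 := by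
      have h3 : (2 : F) = 0 := CharP.cast_eq_zero F 2
      simp only [Fintype.card_fin] at hr
      linear_combination hr + (1 - r) * h3
    exact sub_eq_zero.mp (pow_eq_zero_iff two_ne_zero |>.mp h2)
  rw [Subgroup.mem_bot]
  apply Subtype.ext
  rw [← hr', h1]
  simp

theorem spec_psl2_eq_sl2_char2 {F : Type*} [Field F] [CharP F 2] :
    Set.range (orderOf : ProjectiveSpecialLinearGroup (Fin 2) F → ℕ) =
      Set.range (orderOf : SpecialLinearGroup (Fin 2) F → ℕ) :=
  spec_eq_of_mulEquiv ((QuotientGroup.quotientMulEquivOfEq center_sl2_char2).trans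
    QuotientGroup.quotientBot)

theorem sl2_char2_fpf {F : Type*} [Field F] [CharP F 2] (k : SpecialLinearGroup (Fin 2) F)
    (hk : ¬ orderOf k ∣ 2) (w : Fin 2 → F) (hw : k • w = w) : w = 0 := by
  by_contra h0
  apply hk
  have h3 : (2 : F) = 0 := CharP.cast_eq_zero F 2
  have hw' : (k.1 - 1) *ᵥ w = 0 := by
    rw [Matrix.sub_mulVec, Matrix.one_mulVec, sub_eq_zero]
    exact hw
  have hdet : (k.1 - 1).det = 0 := Matrix.exists_mulVec_eq_zero_iff.mp ⟨w, h0, hw'⟩
  have hk1 := k.2
  rw [Matrix.det_fin_two] at hdet hk1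
  simp only [Matrix.sub_apply, Matrix.one_apply_eq, Fin.isValue, ne_eq, zero_ne_one,
    not_false_eq_true, Matrix.one_apply_ne, one_ne_zero, sub_zero] at hdet
  have ht : k.1.trace = 0 := by
    rw [Matrix.trace_fin_two]
    linear_combination hk1 - hdet + h3
  apply orderOf_dvd_of_pow_eq_one
  apply Subtype.ext
  rw [pow_two, SpecialLinearGroup.coe_mul, mat2_sq, ht, k.2]
  ext i j
  fin_cases i <;> fin_cases j <;> simp <;> linear_combination (-1) * h3

/-- groups of unbounded order with the prime graph of `SL₂(2^n)`. -/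
theorem primeGraph_large_sl2_char2 {F : Type*} [Field F] [Fintype F] [CharP F 2]
    {L : Type*} [Group L] [Finite L]
    (h1 : ∀ p : ℕ, p.Prime → (p ∈ Set.range (orderOf : L → ℕ) ↔
      p ∈ Set.range (orderOf : ProjectiveSpecialLinearGroup (Fin 2) F → ℕ)))
    (h2 : ∀ p q : ℕ, p.Prime → q.Prime → p ≠ q →
      (p * q ∈ Set.range (orderOf : L → ℕ) ↔
        p * q ∈ Set.range (orderOf : ProjectiveSpecialLinearGroup (Fin 2) F → ℕ))) (N : ℕ) :
    ∃ (H : Type) (_ : Group H) (_ : Finite H), N < Nat.card H ∧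
      ((∀ p : ℕ, p.Prime → (p ∣ Nat.card L ↔ p ∣ Nat.card H)) ∧
      (∀ p q : ℕ, p.Prime → q.Prime → p ≠ q →
        ((∃ g : L, orderOf g = p * q) ↔ (∃ g : H, orderOf g = p * q)))) := by
  classical
  have h2K : 2 ∈ Set.range (orderOf : SpecialLinearGroup (Fin 2) F → ℕ) := by
    rw [← spec_psl2_eq_sl2_char2, spec_psl2]
    left
    rw [ringChar.eq F 2]
  rw [spec_psl2_eq_sl2_char2] at h1 h2
  refine primeGraph_large_of_aff (V := Fin 2 → F) (K := SpecialLinearGroup (Fin 2) F)
    Nat.prime_two ?_ h2K ?_ h1 h2 N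
  · intro v
    ext i
    simp [CharTwo.two_eq_zero]
  · intro k hk hk2
    right
    apply sl2_char2_fpf
    intro h
    exact hk2 ((Nat.prime_dvd_prime_iff_eq hk Nat.prime_two).mp h)

end Cfsg.Agent.H6
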