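import Cfsg.Agent.L0.U3Def
import Cfsg.Agent.H5.SzMax

/-! The groups `Sz(8)` and `Sz(32)` are determined by the order and the primes dividing degrees. -/

set_option autoImplicit false

namespace Cfsg.Agent.L0.U3

open Cfsg Cfsg.Agent.H2 Cfsg.Agent.H2.D1 Cfsg.Agent.H3 Finset Subgroup MulAction
open scoped Classical

/-- Can the principal block contain all irreducible characters? -/
def allB0 (n p e b : ℕ) : Bool :=
  blk n p e 0 ((List.range b).filter fun d => n % d == 0) fun L =>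
    (L.map fun a : Ent => (a.2.2 : ℤ) * (a.2.1 : ℤ) ^ 2).sum + 1 == n

theorem hasDeg_of_allB0 {G : Type*} [Group G] [Finite G] [NS G] {p : ℕ} [Fact p.Prime] {x : G}
    (h : Ctx p x) {n e b : ℕ} (hn : Nat.card G = n) (hK : Nat.card h.K = 1)
    (he : Nat.card h.H = e) (hb : n ≤ b * b) (k : allB0 n p e b = false) : HasDeg G p := by
  by_contra hd
  obtain ⟨B⟩ := h.exists_blk
  rw [hK, he] at B
  rw [allB0, show (0 : ℕ) = bif 1 == 1 then 0 else 2 from rfl, B.blk_sound hn (fun χ hχ => ?_)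
    fun l hl => ?_] at k
  · simp at k
  · have h1 := B.deg_sq_lt χ hχ
    have h2 := dg_dvd χ
    rw [dg_of (B.deg χ hχ), hn] at h2
    exact List.mem_filter.2 ⟨List.mem_range.2 (Nat.mul_self_lt_mul_self_iff.1 (by omega)),
      by simpa using Nat.mod_eq_zero_of_dvd h2⟩
  · have := B.sum_compl hl
    rw [sum_eq_zero fun χ hχ => absurd ⟨χ, h.dvd_dg hK (mem_compl.1 hχ)⟩ hd, hn] at this
    exact beq_iff_eq.2 (by omega)

theorem hasDeg_of_surj {G S : Type*} [Group G] [Group S] [Finite G] [Finite S] (π : G →* S)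
    (hπ : Function.Surjective π) {m : ℕ} (h : HasDeg S m) : HasDeg G m :=
  let ⟨χ, hχ⟩ := h
  ⟨⟨_, isIrrCharacter_comp π hπ χ.2⟩, by
    rwa [dg_of (d := dg χ) (by simpa only [map_one] using dg_eq χ)]⟩

variable {F : Type*} [Field F] [Fintype F] {m : ℕ} [SzField F m]

theorem sz_cent {x : Sz F m} {p : ℕ} [hp : Fact p.Prime] (h : Ctx p x)
    (h1 : ¬ p ∣ Fintype.card F ^ 2 * (Fintype.card F - 1)) :
    Nat.card (centralizer ({x} : Set (Sz F m))) ∣ Fintype.card F ^ 2 + 1 := by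
  have := pretrans (F := F) m
  have k : ∀ a : suzukiOvoid F m, x ^ 2 • a ≠ a := fun a e => by
    obtain ⟨g, hg⟩ := exists_smul_eq_oinf m a
    have h2 : g * x ^ 2 * g⁻¹ ∈ Bor F m := by
      rw [mem_stabilizer_iff, ← hg, mul_smul, inv_smul_smul, mul_smul, e]
    have h3 := Subgroup.orderOf_dvd_natCard _ h2
    rw [card_Bor, ← MulAut.conj_apply, MulEquiv.orderOf_eq, Nat.Coprime.orderOf_pow
      (h.ord ▸ (Nat.coprime_primes hp.out Nat.prime_two).2 h.odd), h.ord] at h3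
    exact h1 h3
  have k1 : ∀ a : suzukiOvoid F m, x • a ≠ a := fun a e => k a (by rw [sq, mul_smul, e, e])
  have e := selfEquivOrbitsQuotientProd (G := centralizer ({x} : Set (Sz F m)))
    (X := suzukiOvoid F m) fun a => (eq_bot_iff_forall _).2 fun y hy => by
      have h2 : x * y = y * x := (mem_centralizer_singleton_iff.1 y.2).symm
      have h3 : ∀ b : suzukiOvoid F m, (y : Sz F m) • b = b → (y : Sz F m) • x • b = x • b :=
        fun b hb => by rw [← mul_smul, ← h2, mul_smul, hb]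
      exact Subtype.ext (eq_one_of_fix_three m _ (k1 a).symm (k1 _).symm
        (fun e => k a (by rw [sq, mul_smul, ← e])) hy (h3 _ hy) (h3 _ (h3 _ hy)))
  rw [← index_Bor m, index_stabilizer_of_transitive, Nat.card_congr e, Nat.card_prod]
  exact Dvd.intro_left _ rfl

theorem sz_aux {G : Type*} [Group G] [Finite G] {n p b : ℕ} [hp : Fact p.Prime]
    (hn : Nat.card (Sz F m) = n) (hc : Nat.card G = n) (h0 : p ≠ 2 ∧ p ∣ n ∧ ¬ p ^ 2 ∣ n ∧ ¬ 3 ∣ n)
    (h1 : ¬ p ∣ Fintype.card F ^ 2 * (Fintype.card F - 1))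
    (h2 : ∀ K ∈ Nat.divisors (Fintype.card F ^ 2 + 1), ∀ e ∈ Nat.divisors (p - 1),
      p * K ∣ Fintype.card F ^ 2 + 1 → p * e * K ∣ n → n / (p * e * K) % p = 1 → K = 1 ∧ e = 4)
    (hb : n ≤ b * b) (h3 : allB0 n p 4 b = false)
    (h4 : ∀ r ∈ n.primeFactorsList, ∀ k < 25, r ^ k ∣ n → r ^ k % p = 1 → k = 0) (h5 : n < 2 ^ 25)
    (h6 : ∀ j < 7, 1 ≤ j → (2 ^ (2 * j + 1)) ^ 2 * ((2 ^ (2 * j + 1)) ^ 2 + 1) *
      (2 ^ (2 * j + 1) - 1) ∣ n → (2 ^ (2 * j + 1)) ^ 2 * ((2 ^ (2 * j + 1)) ^ 2 + 1) *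
      (2 ^ (2 * j + 1) - 1) = n)
    (hd : HasDeg (Sz F m) p → HasDeg G p) : H6.S3.IsSz G := by
  have n0 : 0 < n := hc ▸ Nat.card_pos
  have : NS (Sz F m) := { H2.isSimpleGroup (F := F) m with
    nc := by
      by_contra e
      push Not at e
      have e' := H2.commutator_eq_top (F := F) m
      rw [commutator_eq_bot_iff_le_centralizer.2 fun x _ y _ => e _ _] at e'
      have := H2.nontrivial_Sz (F := F) m
      exact bot_ne_top e' }
  obtain ⟨y, hy⟩ := exists_ctx (G := Sz F m) h0.1 (hn ▸ h0.2.1) (hn ▸ h0.2.2.1)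
  have c1 := sz_cent hy h1
  have c2 := hy.card_eq
  have c3 := hy.card_H_mul
  rw [hy.card_C] at c1
  rw [hn, mul_assoc, mul_assoc, ← mul_assoc p] at c2
  obtain ⟨e1, e2⟩ := h2 _ (Nat.mem_divisors.2 ⟨(Dvd.intro_left _ rfl).trans c1, by omega⟩) _
    (Nat.mem_divisors.2 ⟨⟨hy.H.index, by omega⟩, by have := hp.out.two_le; omega⟩) c1
    (Dvd.intro_left _ c2) (by
      rw [← c2, Nat.mul_div_cancel _ (Nat.pos_of_mul_pos_left (c2 ▸ n0)),
        card_sylow_modEq_one p (Sz F m), Nat.one_mod_eq_one.2 hp.out.one_lt.ne'])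
  have hd' := hd (hasDeg_of_allB0 hy hn e1 e2 hb h3)
  obtain ⟨x, hx⟩ := exists_ctx (G := G) h0.1 (hc ▸ h0.2.1) (hc ▸ h0.2.2.1)
  obtain ⟨L, M, S, _, _, hL⟩ := hx.exists_LM
  have := hL.nM
  have : NS S := { hL.simple with
    nc := by
      by_contra k
      push Not at k
      refine hL.not_le hx hd' k (hx.le_cent hL.cop fun d d1 d2 d3 => ?_)
      obtain ⟨r, j, a1, a2, rfl⟩ := (isPrimePow_nat_iff _).1 d1
      replace d2 := d2.trans (hc ▸ card_subgroup_dvd_card M)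
      exact a2.ne' (h4 r ((Nat.mem_primeFactorsList n0.ne').2 ⟨a1, (dvd_pow_self r a2.ne').trans d2⟩)
        j ((Nat.pow_lt_pow_iff_right one_lt_two).1 (((Nat.pow_le_pow_left a1.two_le j).trans
          (Nat.le_of_dvd n0 d2)).trans_lt h5)) d2 d3) }
  have s1 : Nat.card S ∣ n := (Dvd.intro_left _ rfl).trans (hc ▸ hL.card_dvd)
  have s2 := H6.S3.isSz_of_simple S NS.nc fun k => h0.2.2.2 (k.trans s1)
  obtain ⟨j, j1, j2⟩ := s2.card
  have j3 : 2 ^ ((2 * j + 1) * 2) ∣ n := by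
    rw [pow_mul]
    exact ((Dvd.intro _ rfl).mul_right _).trans (j2 ▸ s1)
  have := (Nat.pow_lt_pow_iff_right one_lt_two).1 ((Nat.le_of_dvd n0 j3).trans_lt h5)
  obtain ⟨f⟩ := hL.ns_of_card ((j2.trans (h6 j (by omega) j1 (j2 ▸ s1))).trans hc.symm)
  exact s2.of_equiv f.symm

theorem sz {F : Type*} [Field F] [Fintype F] {m : ℕ} (hm : m ∈ ({1, 2} : Finset ℕ))
    (hF : Fintype.card F = 2 ^ (2 * m + 1)) {G : Type*} [Group G] [Finite G]
    (hc : Nat.card G = Nat.card ↥(Lie.Sz F (2 ^ (m + 1))))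
    (hd : degreePrimes G = degreePrimes ↥(Lie.Sz F (2 ^ (m + 1)))) :
    Nonempty (G ≃* ↥(Lie.Sz F (2 ^ (m + 1)))) := by
  simp only [mem_insert, mem_singleton] at hm
  have : SzField F m := ⟨by omega, hF⟩
  have φ := szEquiv F m
  have : Finite (Lie.Sz F (2 ^ (m + 1))) := .of_equiv _ φ.toEquiv
  have h1 := hc.trans ((Nat.card_congr φ.toEquiv).symm.trans (card_Sz m))
  have h2 : ∀ p, p.Prime → HasDeg (Sz F m) p → HasDeg G p := fun p hp k =>
    hasDeg_iff_mem.1 (hd ▸ (⟨hp, hasDeg_iff_mem.2 (hasDeg_of_surj φ.symm.toMonoidHom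
      φ.symm.surjective k)⟩ :
      p ∈ degreePrimes ↥(Lie.Sz F (2 ^ (m + 1)))) : p ∈ degreePrimes G).2
  refine H5.SzMax.iso_of_isSz ?_ hF h1
  have : Fact (Nat.Prime 41) := ⟨by norm_num⟩
  rcases hm with rfl | rfl
  · exact sz_aux (p := 13) (n := 29120) (b := 171) (by rw [card_Sz, hF]; rfl)
      (by rw [h1, hF]; rfl)
      (by decide) (by rw [hF]; decide) (by rw [hF]; decide +kernel) (by decide) (by decide +kernel)
      (by simp only [Nat.primeFactorsList_ofNat]; decide +kernel) (by decide) (by decide +kernel)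
      (h2 _ Fact.out)
  · exact sz_aux (p := 41) (n := 32537600) (b := 5705) (by rw [card_Sz, hF]; rfl)
      (by rw [h1, hF]; rfl)
      (by decide) (by rw [hF]; decide) (by rw [hF]; decide +kernel) (by decide) (by decide +kernel)
      (by simp only [Nat.primeFactorsList_ofNat]; decide +kernel) (by decide) (by decide +kernel)
      (h2 _ Fact.out)

end Cfsg.Agent.L0.U3
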