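import Cfsg.Agent.H6.B22B
import Cfsg.Agent.H1.B23A

/-! Searches for principal blocks of simple groups of order dividing `5515776`. -/

set_option autoImplicit false

namespace Cfsg.Agent.H6.X38

open Cfsg.Agent.H2.D1
open Cfsg.Agent.H6.B22 (V central)

/-- The divisors of `5515776`. -/
def DV : List ℕ :=
  [5515776, 2757888, 1838592, 1378944, 919296, 787968, 689472, 612864, 459648, 393984, 344736,
   306432, 290304, 262656, 229824, 204288, 196992, 172368, 153216, 145152, 131328, 114912,
   102144, 98496, 96768, 87552, 86184, 76608, 72576, 68096, 65664, 57456, 51072, 49248, 48384,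
   43776, 43092, 41472, 38304, 36288, 34048, 32832, 32256, 29184, 28728, 25536, 24624, 24192,
   21888, 21546, 20736, 19152, 18144, 17024, 16416, 16128, 14592, 14364, 13824, 12768, 12312,
   12096, 10944, 10773, 10752, 10368, 9728, 9576, 9072, 8512, 8208, 8064, 7296, 7182, 6912,
   6384, 6156, 6048, 5472, 5376, 5184, 4864, 4788, 4608, 4536, 4256, 4104, 4032, 3648, 3591,
   3584, 3456, 3192, 3078, 3024, 2736, 2688, 2592, 2432, 2394, 2304, 2268, 2128, 2052, 2016,
   1824, 1792, 1728, 1596, 1539, 1536, 1512, 1368, 1344, 1296, 1216, 1197, 1152, 1134, 1064,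
   1026, 1008, 912, 896, 864, 798, 768, 756, 684, 672, 648, 608, 576, 567, 532, 513, 512, 504,
   456, 448, 432, 399, 384, 378, 342, 336, 324, 304, 288, 266, 256, 252, 228, 224, 216, 192,
   189, 171, 168, 162, 152, 144, 133, 128, 126, 114, 112, 108, 96, 84, 81, 76, 72, 64, 63, 57,
   56, 54, 48, 42, 38, 36, 32, 28, 27, 24, 21, 19, 18, 16, 14, 12, 9, 8, 7, 6, 4, 3, 2, 1]

theorem DV_small : (List.range 2349).all (fun d => 5515776 % d != 0 ||
    (DV.contains d && DV.contains (5515776 / d))) = true := by decide +kernel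

theorem mem_DV {d : ℕ} (h : d ∣ 5515776) : d ∈ DV := by
  have key : ∀ a, a < 2349 → a ∣ 5515776 → a ∈ DV ∧ 5515776 / a ∈ DV := fun a h1 h2 => by
    simpa [Nat.mod_eq_zero_of_dvd h2] using List.all_eq_true.1 DV_small a (List.mem_range.2 h1)
  by_cases e : d < 2349
  · exact (key d e h).1
  · obtain ⟨c, hc⟩ := h
    have c0 : 0 < c := Nat.pos_of_ne_zero (by rintro rfl; simp at hc)
    have := (key c (by nlinarith) ⟨d, by rw [hc, mul_comm]⟩).2
    rwa [hc, Nat.mul_div_cancel _ c0] at this

theorem DV_sorted : DV.Pairwise fun a b => b ≤ a := by decide +kernel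

/-- The conditions on the value at an involution. -/
def okv (n c md d : ℕ) (y : ℤ) : Bool :=
  decide (y.natAbs < d) && (((d : ℤ) - y) % md == 0 && ((n / c : ℕ) * y) % d == 0)

/-- The candidates for the value at an involution. -/
def cand (n c md d : ℕ) : List ℤ :=
  (((List.range' 1 ((2 * d - 1) / md)).filter fun k => (n / c * (md * k)) % d == 0 &&
    decide (d * d + md * k * (md * k) ≤ c + 2 * d * (md * k))).map fun k => (d : ℤ) - (md * k : ℕ))

theorem mem_cand {n c md d : ℕ} {y : ℤ} (h : okv n c md d y = true) (hc : y ^ 2 ≤ c) :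
    y ∈ cand n c md d := by
  simp only [okv, Bool.and_eq_true, decide_eq_true_eq, beq_iff_eq] at h
  obtain ⟨h1, h2, h3⟩ := h
  obtain ⟨k, hk⟩ := Int.dvd_of_emod_eq_zero h2
  have m0 : 0 < md := Nat.pos_of_ne_zero (by rintro rfl; simp at hk; omega)
  have k0 : 0 < k := by
    by_contra! e
    have : (md : ℤ) * k ≤ 0 := mul_nonpos_of_nonneg_of_nonpos (by positivity) e
    omega
  lift k to ℕ using k0.le
  have hy : y = d - (md * k : ℕ) := by push_cast; linarith
  refine List.mem_map.2 ⟨k, List.mem_filter.2 ⟨List.mem_range'_1.2 ⟨by omega, ?_⟩, ?_⟩, hy.symm⟩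
  · have : k ≤ (2 * d - 1) / md := (Nat.le_div_iff_mul_le m0).2 (by rw [mul_comm]; omega)
    omega
  · simp only [Bool.and_eq_true, decide_eq_true_eq, beq_iff_eq]
    refine ⟨Nat.mod_eq_zero_of_dvd (Int.natCast_dvd_natCast.1 ?_), ?_⟩
    · have := (Dvd.intro_left ((n / c : ℕ) : ℤ) rfl).sub (Int.dvd_of_emod_eq_zero h3)
      rwa [← mul_sub, hy, sub_sub_cancel, ← Nat.cast_mul] at this
    · zify
      rw [hy] at hc
      push_cast at hc
      nlinarith

/-- Search through the values at an involution with centralizer order `c`. -/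
def vs (n c md : ℕ) : List Ent → ℤ → ℤ → ℤ → (ℤ → V → Bool) → Bool
  | [], _, _, _, _ => true
  | [(a, d, m)], lin, S, sq, k => a == 0 || (lin % a == 0 && (okv n c md d (-lin / a) &&
      (decide (sq + m * (-lin / a) ^ 2 ≤ c) &&
        k (S - a * (-lin / a) ^ 2 * (n / d : ℕ)) [((a, d, m), -lin / a)])))
  | (a, d, m) :: b :: l, lin, S, sq, k => (cand n c md d).any fun y =>
      decide (sq + m * y ^ 2 ≤ c) && vs n c md (b :: l) (lin + a * y)
        (S - a * y ^ 2 * (n / d : ℕ)) (sq + m * y ^ 2) fun S v => k S (((a, d, m), y) :: v)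

theorem vs_sound {n c md : ℕ} (W : V) (lin S sq : ℤ) (k : ℤ → V → Bool)
    (h1 : ∀ w ∈ W, okv n c md w.1.2.1 w.2 = true ∧ 0 < w.1.2.2) (h0 : 0 ≤ sq)
    (h2 : lin + (W.map fun w => w.1.1 * w.2).sum = 0)
    (h3 : sq + (W.map fun w => (w.1.2.2 : ℤ) * w.2 ^ 2).sum ≤ c)
    (h4 : k (S - (W.map fun w : Ent × ℤ => w.1.1 * w.2 ^ 2 * (n / w.1.2.1 : ℕ)).sum) W =
      true) :
    vs n c md (W.map Prod.fst) lin S sq k = true := by
  induction W generalizing lin S sq k with
  | nil => rfl
  | cons w W ih =>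
    obtain ⟨⟨a, d, m⟩, y⟩ := w
    obtain ⟨k1, k2⟩ := h1 _ List.mem_cons_self
    have h5 : 0 ≤ (W.map fun w => (w.1.2.2 : ℤ) * w.2 ^ 2).sum :=
      List.sum_nonneg fun z hz => by
        obtain ⟨j, -, rfl⟩ := List.mem_map.1 hz
        positivity
    simp only [List.map_cons, List.sum_cons] at h2 h3 h4 k1 k2
    rcases W with _ | ⟨⟨b, z⟩, W⟩
    · simp only [List.map_cons, List.map_nil, vs, Bool.or_eq_true, beq_iff_eq, Bool.and_eq_true,
        decide_eq_true_eq]
      simp only [List.map_nil, List.sum_nil, add_zero] at h2 h3 h4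
      refine or_iff_not_imp_left.2 fun a0 => ?_
      have e : -lin / a = y := by
        rw [show -lin = a * y by linarith, Int.mul_ediv_cancel_left _ a0]
      rw [e]
      exact ⟨Int.emod_eq_zero_of_dvd ⟨-y, by linarith⟩, k1, h3, h4⟩
    · have h6 : y ^ 2 ≤ (m : ℤ) * y ^ 2 := le_mul_of_one_le_left (sq_nonneg _) (by omega)
      rw [List.map_cons, List.map_cons, vs, List.any_eq_true]
      refine ⟨y, mem_cand k1 (by linarith), ?_⟩
      rw [Bool.and_eq_true, decide_eq_true_eq]
      exact ⟨by linarith, ih _ _ _ _ (fun j hj => h1 j (List.mem_cons_of_mem _ hj))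
        (by positivity) (by linarith) (by linarith) (by rwa [sub_sub])⟩

/-- The values at an involution with centralizer order `c`. -/
def invG (n p e A c : ℕ) (L : List Ent) : Bool :=
  (A % 2 == 0 || c % p != 0) && vs n c (bif c % p == 0 then 4 * p else 4) L (-1) n 1
    fun S _ => finI p e A c false S

/-- Counting Sylow subgroups in the centralizer of an involution. -/
def sy (p A c : ℕ) : Bool :=
  c % (p * A.gcd 512) == 0 && DV.any fun j => A % j == 0 && (j % A.gcd 512 == 0 &&
    (List.range' 1 p).any fun f => (p - 1) % f == 0 && (c % (f * (p * j)) == 0 &&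
      c / (f * (p * j)) % p == 1))

/-- The choice of the involution. -/
def chc (n p A c : ℕ) : Bool := bif A % 2 == 0 then sy p A c else c % n.gcd 512 == 0

/-- The search for given order `n`, prime `p`, and `e`, `A`. -/
def alive (n p e A : ℕ) (flt : ℕ → Bool) (ex : List Ent → Bool) : Bool :=
  (fun C : List ℕ => H1.B23.blk2 p e (bif A == 1 then 0 else 2) (n / (p * A))
    (DV.filter fun d => n % d == 0 && (d % p != 0 && (decide (2 ≤ d) && (decide (d * d < n) &&
      flt d)))) (fun _ => 0) (fun _ => 0) n 0 0 fun L =>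
      ex L && (central (n / (p * A)) L && C.any fun c => invG n p e A c L))
    (DV.filter fun c => n % c == 0 && chc n p A c)

end Cfsg.Agent.H6.X38
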