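import Cfsg.Agent.H6.U3X1

/-! Kernel computations for orders dividing `5515776`. -/

set_option autoImplicit false

namespace Cfsg.Agent.H6.X38

/-- The search for given `N` and `e`. -/
def al (N e : ℕ) : Bool := DV.all fun A => 5515776 % (N * 19 * e * A) != 0 ||
  ((N == 1008 && (e == 18 || (e == 9 && A == 1))) ||
    !alive (N * 19 * e * A) 19 e A (fun _ => true) fun _ => true)

theorem K96 : [2, 3, 6, 9, 18].all (al 96) = true := by decide +kernel

theorem K324 : [2, 3, 6, 9, 18].all (al 324) = true := by decide +kernel

theorem K1008 : [2, 3, 9, 18].all (al 1008) = true := by decide +kernel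

theorem K1008' : al 1008 6 = true := by decide +kernel

/-- The search for the prime `7`. -/
def a7 (n : ℕ) (flt : ℕ → Bool) : Bool := [2, 3, 6].all fun e => DV.all fun A =>
  n % (7 * e * A) != 0 || (n / (7 * e * A) % 7 != 1 || !alive n 7 e A flt fun _ => true)

theorem K3 : a7 344736 (fun d => [0, 1, 2, 3, 4, 15, 16, 17, 18].contains (d % 19)) = true := by
  decide +kernel

theorem K4 : a7 172368 (fun d => d != 48) = true := by decide +kernel

theorem K5 : alive 172368 19 9 1 (fun _ => true) (fun L => (L.map fun a => a.2.1).contains 48) =
    false := by decide +kernel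

theorem K6 : DV.all (fun N => N % 19 != 1 || [1, 96, 324, 1008, 96768].contains N) = true := by
  decide +kernel

end Cfsg.Agent.H6.X38
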